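import Groth.Prelude.Def_Hensel
import Mathlib.RingTheory.Henselian
import Mathlib.RingTheory.Ideal.Quotient.Nilpotent
import Mathlib.Dynamics.Newton
import Mathlib.RingTheory.Jacobson.Ideal

set_option autoImplicit false
set_option linter.style.haveILetI false
universe u
open Polynomial IsLocalRing

namespace Groth.Agent.EtAlg23

theorem isLocalHom_of_surjective_nil {R S : Type*} [CommRing R] [CommRing S] (p : R →+* S)
    (hp : Function.Surjective p) (hn : ∀ x, p x = 0 → IsNilpotent x) : IsLocalHom p := by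
  constructor
  intro x hx
  obtain ⟨y, hy⟩ := hp ↑hx.unit⁻¹
  have h : p (x * y - 1) = 0 := by simp [hy]
  have := (hn _ h).isUnit_add_one
  rw [sub_add_cancel] at this
  exact isUnit_of_mul_isUnit_left this

theorem henselianLocalRing_of_surjective_nil {R S : Type*} [CommRing R] [CommRing S]
    [HenselianLocalRing S] (p : R →+* S) (hp : Function.Surjective p)
    (hn : ∀ x, p x = 0 → IsNilpotent x) : HenselianLocalRing R := by
  haveI := isLocalHom_of_surjective_nil p hp hn
  haveI := p.domain_isLocalRing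
  refine { is_henselian := fun f hf a₀ h₁ h₂ => ?_ }
  obtain ⟨s, hs, hs'⟩ := HenselianLocalRing.is_henselian (f.map p) (hf.map p) (p a₀)
    (by rw [eval_map_apply, mem_maximalIdeal, mem_nonunits_iff, isUnit_map_iff p]
        exact h₁)
    (by rw [derivative_map, eval_map_apply]; exact h₂.map p)
  obtain ⟨a₁, rfl⟩ := hp s
  have hclose : a₁ - a₀ ∈ maximalIdeal R := by
    rw [mem_maximalIdeal, mem_nonunits_iff, ← isUnit_map_iff p, map_sub]
    exact hs'
  have h0 : IsNilpotent (aeval a₁ f) := hn _ (by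
    rw [coe_aeval_eq_eval, ← eval_map_apply]; exact hs)
  have hu : IsUnit (aeval a₁ (derivative f)) := by
    rw [coe_aeval_eq_eval]
    have : (derivative f).eval a₁ - (derivative f).eval a₀ ∈ maximalIdeal R :=
      Ideal.mem_of_dvd _ (sub_dvd_eval_sub _ _ _) hclose
    by_contra hc
    have h3 := (maximalIdeal R).sub_mem ((mem_maximalIdeal _).2 hc) this
    rw [sub_sub_cancel] at h3
    exact (mem_maximalIdeal _).1 h3 h₂
  obtain ⟨r, ⟨hr, hr0⟩, -⟩ := existsUnique_nilpotent_sub_and_aeval_eq_zero h0 hu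
  refine ⟨r, by simpa [IsRoot, coe_aeval_eq_eval] using hr0, ?_⟩
  have : r - a₀ = (a₁ - a₀) - (a₁ - r) := by ring
  rw [this]
  refine (maximalIdeal R).sub_mem hclose ?_
  rw [mem_maximalIdeal, mem_nonunits_iff]
  exact hr.not_isUnit

theorem henselianLocalRing_of_surjective {R S : Type*} [CommRing R] [CommRing S] [Nontrivial S]
    [HenselianLocalRing R] (p : R →+* S) (hp : Function.Surjective p) : HenselianLocalRing S := by
  haveI := IsLocalRing.of_surjective' p hp
  haveI := IsLocalHom.of_surjective p hp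
  refine { is_henselian := fun f hf a₀ h₁ h₂ => ?_ }
  obtain ⟨a, rfl⟩ := hp a₀
  obtain ⟨g, hg, -, hgm⟩ := lifts_and_natDegree_eq_and_monic
    (map_surjective p hp f : f ∈ lifts p) hf
  rw [← hg, eval_map_apply, mem_maximalIdeal, mem_nonunits_iff, isUnit_map_iff p] at h₁
  rw [← hg, derivative_map, eval_map_apply, isUnit_map_iff p] at h₂
  obtain ⟨b, hb, hb'⟩ := HenselianLocalRing.is_henselian g hgm a ((mem_maximalIdeal _).2 h₁) h₂
  refine ⟨p b, ?_, ?_⟩
  · rw [IsRoot, ← hg, eval_map_apply, hb, map_zero]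
  · rw [← map_sub, mem_maximalIdeal, mem_nonunits_iff, isUnit_map_iff p]
    exact hb'

theorem henselianRing_bot (R : Type*) [CommRing R] : HenselianRing R (⊥ : Ideal R) where
  jac := bot_le
  is_henselian f _ a₀ h₁ _ := ⟨a₀, Ideal.mem_bot.1 h₁, by simp⟩

theorem henselianLocalRing_of_henselianRing (R : Type*) [CommRing R] [IsLocalRing R]
    [hR : HenselianRing R (maximalIdeal R)] : HenselianLocalRing R where
  is_henselian f hf a₀ h₁ h₂ := hR.is_henselian f hf a₀ h₁ (h₂.map _)

theorem isUnit_of_sub_one_mem_jac {R : Type*} [CommRing R] {I : Ideal R}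
    (hI : I ≤ Ideal.jacobson ⊥) {x : R} (hx : x - 1 ∈ I) : IsUnit x := by
  simpa using Ideal.mem_jacobson_bot.1 (hI hx) 1

theorem isUnit_of_isUnit_mk {R : Type*} [CommRing R] {I : Ideal R}
    (hI : I ≤ Ideal.jacobson ⊥) {x : R} (hx : IsUnit (Ideal.Quotient.mk I x)) : IsUnit x := by
  obtain ⟨y, hy⟩ := Ideal.Quotient.mk_surjective (I := I) ↑hx.unit⁻¹
  refine isUnit_of_mul_isUnit_left (y := y) (isUnit_of_sub_one_mem_jac hI ?_)
  rw [← Ideal.Quotient.eq_zero_iff_mem]
  simp [hy]

theorem isUnit_mk_of_le {R : Type*} [CommRing R] {I J : Ideal R} (h : I ≤ J) {x : R}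
    (hx : IsUnit (Ideal.Quotient.mk I x)) : IsUnit (Ideal.Quotient.mk J x) := by
  simpa using hx.map (Ideal.Quotient.factor h)

theorem henselianRing_of_le {R : Type*} [CommRing R] {I J : Ideal R}
    (hI : HenselianRing R I) (h : J ≤ I) : HenselianRing R J where
  jac := h.trans hI.jac
  is_henselian f hf a₀ h₁ h₂ := by
    obtain ⟨a, ha, ha'⟩ := hI.is_henselian f hf a₀ (h h₁) (isUnit_mk_of_le h h₂)
    obtain ⟨k, hk⟩ := f.binomExpansion a₀ (a - a₀)
    have hu : IsUnit (f.derivative.eval a₀ + k * (a - a₀)) := by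
      refine isUnit_of_isUnit_mk hI.jac ?_
      simpa [Ideal.Quotient.eq_zero_iff_mem.2 ha'] using isUnit_mk_of_le h h₂
    refine ⟨a, ha, ?_⟩
    rw [add_sub_cancel, ha] at hk
    rw [← J.unit_mul_mem_iff_mem hu]
    have : (f.derivative.eval a₀ + k * (a - a₀)) * (a - a₀) = - f.eval a₀ := by
      linear_combination -hk
    rw [this]
    exact J.neg_mem h₁

theorem henselianRing_of_le_radical {R : Type*} [CommRing R] {I J : Ideal R}
    (hI : HenselianRing R I) (h : J ≤ I.radical) : HenselianRing R J := by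
  suffices HenselianRing R I.radical from henselianRing_of_le this h
  have hjac : I.radical ≤ Ideal.jacobson ⊥ := by
    calc I.radical ≤ (Ideal.jacobson ⊥).radical := Ideal.radical_mono hI.jac
      _ = _ := (Ideal.isRadical_jacobson _).radical
  refine ⟨hjac, fun f hf a₀ h₁ h₂ => ?_⟩
  let q := Ideal.Quotient.mk I
  have h0 : IsNilpotent (aeval (q a₀) (f.map q)) := by
    rw [coe_aeval_eq_eval, eval_map_apply]
    obtain ⟨n, hn⟩ := h₁
    exact ⟨n, by rw [← map_pow, Ideal.Quotient.eq_zero_iff_mem]; exact hn⟩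
  have hu : IsUnit (aeval (q a₀) (derivative (f.map q))) := by
    rw [coe_aeval_eq_eval, derivative_map, eval_map_apply]
    exact (isUnit_of_isUnit_mk hjac h₂).map q
  obtain ⟨r, ⟨hr, hr0⟩, -⟩ := existsUnique_nilpotent_sub_and_aeval_eq_zero h0 hu
  obtain ⟨a₁, rfl⟩ := Ideal.Quotient.mk_surjective r
  rw [← map_sub] at hr
  have hclose : a₁ - a₀ ∈ I.radical := by
    obtain ⟨n, hn⟩ := hr
    rw [← map_pow, Ideal.Quotient.eq_zero_iff_mem] at hn
    rw [← neg_sub]; exact (Ideal.radical I).neg_mem ⟨n, hn⟩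
  have h1' : f.eval a₁ ∈ I := by
    rw [← Ideal.Quotient.eq_zero_iff_mem]
    rw [coe_aeval_eq_eval, eval_map_apply] at hr0
    exact hr0
  have hu' : IsUnit (Ideal.Quotient.mk I (f.derivative.eval a₁)) := by
    refine (isUnit_of_isUnit_mk hjac ?_).map _
    have : Ideal.Quotient.mk I.radical (f.derivative.eval a₁) =
        Ideal.Quotient.mk I.radical (f.derivative.eval a₀) :=
      (Ideal.Quotient.mk_eq_mk_iff_sub_mem _ _).2
        (Ideal.mem_of_dvd _ (sub_dvd_eval_sub _ _ _) hclose)
    rw [this]; exact h₂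
  obtain ⟨a, ha, ha'⟩ := hI.is_henselian f hf a₁ h1' hu'
  refine ⟨a, ha, ?_⟩
  have : a - a₀ = (a - a₁) + (a₁ - a₀) := by ring
  rw [this]
  exact I.radical.add_mem (Ideal.le_radical ha') hclose

theorem henselianRing_congr_radical {R : Type*} [CommRing R] {I J : Ideal R}
    (h : I.radical = J.radical) : HenselianRing R I ↔ HenselianRing R J :=
  ⟨fun hI => henselianRing_of_le_radical hI (h ▸ Ideal.le_radical),
    fun hJ => henselianRing_of_le_radical hJ (h ▸ Ideal.le_radical)⟩

end Groth.Agent.EtAlg23
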