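import Groth.Agent.EtAlg23.Milnor
import Mathlib.RingTheory.Flat.Tensor
import Mathlib.RingTheory.Flat.Stability

set_option autoImplicit false
set_option linter.style.haveILetI false
universe u

open TensorProduct

namespace Groth.Agent.EtAlg23

variable {B' B A' A : Type u} [CommRing B'] [CommRing B] [CommRing A'] [CommRing A]
  [Algebra B' B] [Algebra B' A'] [Algebra B A] [Algebra A' A] [Algebra B' A]
  [IsScalarTower B' B A] [IsScalarTower B' A' A]

variable {N M' : Type u} [AddCommGroup N] [Module B N] [Module B' N] [IsScalarTower B' B N]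
  [AddCommGroup M'] [Module A' M'] [Module B' M'] [IsScalarTower B' A' M']
  {φ : A ⊗[B] N ≃ₗ[A] A ⊗[A'] M'}

omit [Algebra B A] [Algebra A' A] [Algebra B' A] [IsScalarTower B' B A] [IsScalarTower B' A' A]
  [Algebra B' A'] in
theorem flat_baseChange_quotient_ker (hs : Function.Surjective (algebraMap B' B)) (X : Type u)
    [AddCommGroup X] [Module B' X] [Module.Flat B (B ⊗[B'] X)] :
    Module.Flat (B' ⧸ RingHom.ker (algebraMap B' B)) ((B' ⧸ RingHom.ker (algebraMap B' B)) ⊗[B'] X) := by
  let J := RingHom.ker (algebraMap B' B)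
  let e : (B' ⧸ J) ≃ₐ[B'] B := Ideal.quotientKerAlgEquivOfSurjective (f := Algebra.ofId B' B) hs
  letI : Algebra B (B' ⧸ J) := e.symm.toAlgHom.toRingHom.toAlgebra
  haveI : IsScalarTower B' B (B' ⧸ J) :=
    IsScalarTower.of_algebraMap_eq fun r => (e.symm.commutes r).symm
  exact Module.Flat.of_linearEquiv
    (AlgebraTensorModule.cancelBaseChange B' B (B' ⧸ J) (B' ⧸ J) X).symm

/-- Flatness of the glued module. -/
theorem flat_glue (h : EtMil.IsFibreSquare B' B A' A) [Module.Flat B N] [Module.Flat A' M'] :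
    Module.Flat B' (EtMil.glue B' φ) := by
  have hw := isWeakSquare_of_isFibreSquare h
  let G := EtMil.glue B' φ
  let eN : B ⊗[B'] G ≃ₗ[B] N := LinearEquiv.ofBijective _ (liftFst_bijective (φ := φ) hw)
  let eM : A' ⊗[B'] G ≃ₗ[A'] M' := LinearEquiv.ofBijective _ (liftSnd_bijective (φ := φ) hw)
  haveI : Module.Flat B (B ⊗[B'] G) := Module.Flat.of_linearEquiv eN
  haveI : Module.Flat A' (A' ⊗[B'] G) := Module.Flat.of_linearEquiv eM
  let J : Ideal B' := RingHom.ker (algebraMap B' B)
  let I : Ideal A' := RingHom.ker (algebraMap A' A)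
  let Iₛ : Submodule B' A' := (I : Submodule A' A').restrictScalars B'
  -- sub-ideals of `J` stable under `A'`
  have hstable : ∀ S : Submodule A' A', Function.Injective ((S.restrictScalars B').subtype.lTensor G) := fun S =>
    letI : Module A' ↥(S.restrictScalars B') :=
      { smul := fun a x => ⟨a * (x : A'), S.smul_mem a x.2⟩
        one_smul := fun x => Subtype.ext (one_mul _)
        mul_smul := fun a b x => Subtype.ext (mul_assoc a b _)
        smul_zero := fun a => Subtype.ext (mul_zero _)
        smul_add := fun a x y => Subtype.ext (mul_add a _ _)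
        add_smul := fun a b x => Subtype.ext (add_mul a b _)
        zero_smul := fun x => Subtype.ext (zero_mul _) }
    haveI : IsScalarTower B' A' ↥(S.restrictScalars B') :=
      ⟨fun b a x => Subtype.ext (smul_assoc b a (x : A'))⟩
    FlatCrit65.lTensor_injective_of_flat_baseChange (M := G) A' (P := ↥(S.restrictScalars B')) (Q := A')
      { toFun := fun x => (x : A'), map_add' := fun _ _ => rfl, map_smul' := fun _ _ => rfl }
      Subtype.val_injective
  have hJA : ∀ j : J, algebraMap B' A' (j : B') ∈ I := fun j => by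
    rw [RingHom.mem_ker, ← IsScalarTower.algebraMap_apply, IsScalarTower.algebraMap_apply B' B A,
      RingHom.mem_ker.1 j.2, map_zero]
  -- ideals of `B'` inside `J` that are stable under `A'`
  have hideal : ∀ K : Ideal B', K ≤ J →
      (∀ (a : A'), ∀ k ∈ K, ∀ j : B', algebraMap B' B j = 0 →
        algebraMap B' A' j = a * algebraMap B' A' k → j ∈ K) →
      Function.Injective (K.subtype.lTensor G) := by
    intro K hKJ hK
    let S : Submodule A' A' :=
      { carrier := {x | ∃ k ∈ K, algebraMap B' A' k = x}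
        add_mem' := by
          rintro _ _ ⟨k, hk, rfl⟩ ⟨l, hl, rfl⟩
          exact ⟨k + l, K.add_mem hk hl, map_add _ _ _⟩
        zero_mem' := ⟨0, K.zero_mem, map_zero _⟩
        smul_mem' := by
          rintro a _ ⟨k, hk, rfl⟩
          obtain ⟨j, hj, hj'⟩ := hw.lift_ker (I.mul_mem_left a (hJA ⟨k, hKJ hk⟩))
          exact ⟨j, hK a k hk j hj hj', hj'⟩ }
    let u : K →ₗ[B'] S.restrictScalars B' :=
      ((Algebra.linearMap B' A').comp K.subtype).codRestrict (S.restrictScalars B')
        fun k => ⟨k, k.2, rfl⟩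
    have hu : Function.Bijective u := by
      refine ⟨(injective_iff_map_eq_zero _).2 fun k hk => Subtype.ext ?_, ?_⟩
      · exact eq_of_map_eq h (by rw [Submodule.coe_zero, map_zero]; exact hKJ k.2)
          (by rw [Submodule.coe_zero, map_zero]; exact congrArg Subtype.val hk)
      · rintro ⟨_, k, hk, rfl⟩; exact ⟨⟨k, hk⟩, rfl⟩
    have h2 := (hstable S).comp (LinearEquiv.lTensor G (LinearEquiv.ofBijective u hu)).injective
    have e : (S.restrictScalars B').subtype.comp u = (Algebra.linearMap B' A').comp K.subtype := rfl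
    have : Function.Injective (((Algebra.linearMap B' A').comp K.subtype).lTensor G) := by
      rw [← e, LinearMap.lTensor_comp]; exact h2
    rw [LinearMap.lTensor_comp, LinearMap.coe_comp] at this
    exact this.of_comp
  have h1 : Function.Injective (J.subtype.lTensor G) := hideal J le_rfl fun _ _ _ j hj _ => hj
  haveI := flat_baseChange_quotient_ker hw.proj_surjective G
  have hA : FlatCrit65.TorTriv J G := FlatCrit65.torTriv_of_injective h1 this
  rw [Module.Flat.iff_lTensor_injective]
  intro K _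
  let K₀ : Ideal B' := K ⊓ J
  let K₁ : Ideal B' :=
    { carrier := {j | j ∈ J ∧ algebraMap B' A' j ∈ Submodule.span A' ((fun k => algebraMap B' A' k) '' (K₀ : Set B'))}
      add_mem' := fun {x y} hx hy => ⟨J.add_mem hx.1 hy.1, by rw [map_add]; exact add_mem hx.2 hy.2⟩
      zero_mem' := ⟨J.zero_mem, by rw [map_zero]; exact zero_mem _⟩
      smul_mem' := fun c x hx => ⟨J.mul_mem_left c hx.1, by
        rw [smul_eq_mul, map_mul]; exact Submodule.smul_mem _ _ hx.2⟩ }
  have h01 : K₀ ≤ K₁ := fun k hk => ⟨hk.2, Submodule.subset_span ⟨k, hk, rfl⟩⟩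
  have hK₁ : Function.Injective (K₁.subtype.lTensor G) :=
    hideal K₁ (fun k hk => hk.1) fun a k hk j hj hj' =>
      ⟨hj, by rw [hj']; exact Submodule.smul_mem _ a hk.2⟩
  have hcok : ∀ r ∈ J, ∀ x ∈ K₁, r * x ∈ K₀ := by
    intro r hr x hx
    suffices ∀ y ∈ Submodule.span A' ((fun k => algebraMap B' A' k) '' (K₀ : Set B')),
        ∀ r ∈ J, ∃ k ∈ K₀, algebraMap B' A' k = algebraMap B' A' r * y by
      obtain ⟨k, hk, hk'⟩ := this _ hx.2 r hr
      have : r * x = k := eq_of_map_eq h
        (by rw [map_mul, RingHom.mem_ker.1 hr, zero_mul, RingHom.mem_ker.1 hk.2])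
        (by rw [map_mul, hk'])
      rwa [this]
    intro y hy
    induction hy using Submodule.span_induction with
    | mem y hy =>
      obtain ⟨k, hk, rfl⟩ := hy
      exact fun r _ => ⟨r * k, K₀.mul_mem_left r hk, map_mul _ _ _⟩
    | zero => exact fun r _ => ⟨0, K₀.zero_mem, by rw [map_zero, mul_zero]⟩
    | add y₁ y₂ _ _ h₁ h₂ =>
      intro r hr
      obtain ⟨k₁, hk₁, e₁⟩ := h₁ r hr
      obtain ⟨k₂, hk₂, e₂⟩ := h₂ r hr
      exact ⟨k₁ + k₂, K₀.add_mem hk₁ hk₂, by rw [map_add, e₁, e₂, mul_add]⟩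
    | smul a y _ ih =>
      intro r hr
      obtain ⟨r', hr', hr''⟩ := hw.lift_ker (I.mul_mem_left a (hJA ⟨r, hr⟩))
      obtain ⟨k, hk, e⟩ := ih r' hr'
      exact ⟨k, hk, by rw [e, hr'', smul_eq_mul]; ring⟩
  have hi : Function.Injective ((Submodule.inclusion h01).lTensor G) := by
    let e := Submodule.comapSubtypeEquivOfLe h01
    have := hA K₁ (Submodule.comap K₁.subtype K₀) (Submodule.smul_le.2 fun r hr x _ => hcok r hr x x.2)
    have e' : Submodule.inclusion h01 = (Submodule.comap K₁.subtype K₀).subtype.comp e.symm.toLinearMap := by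
      ext; rfl
    rw [e', LinearMap.lTensor_comp, LinearMap.coe_comp]
    exact this.comp (LinearEquiv.lTensor G e.symm).injective
  have h0 : Function.Injective (K₀.subtype.lTensor G) := by
    rw [← Submodule.subtype_comp_inclusion K₀ K₁ h01, LinearMap.lTensor_comp, LinearMap.coe_comp]
    exact hK₁.comp hi
  -- the quotient `K / K₀` sits inside `B' / J`
  refine (injective_iff_map_eq_zero _).2 fun z hz => ?_
  let j₀ : K₀ →ₗ[B'] K := Submodule.inclusion inf_le_left
  let π : K →ₗ[B'] B' ⧸ J := J.mkQ.comp K.subtype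
  let Kb : Submodule B' (B' ⧸ J) := LinearMap.range π
  have htor : Module.IsTorsionBySet B' (B' ⧸ J) (J : Ideal B') := fun x a => by
    obtain ⟨x, rfl⟩ := Ideal.Quotient.mk_surjective x
    exact Ideal.Quotient.eq_zero_iff_mem.2 (J.mul_mem_right x a.2)
  have hKb : Function.Injective (Kb.subtype.lTensor G) :=
    FlatCrit65.lTensor_injective_of_killed ‹_› (FlatCrit65.isTorsionBySet_submodule htor Kb) htor
      Kb.subtype Subtype.val_injective
  have hex : Function.Exact j₀ π.rangeRestrict := fun k => by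
    refine ⟨fun hk => ⟨⟨k, k.2, ?_⟩, rfl⟩, ?_⟩
    · exact (Submodule.Quotient.mk_eq_zero J).1 (congrArg Subtype.val hk)
    · rintro ⟨y, rfl⟩
      exact Subtype.ext ((Submodule.Quotient.mk_eq_zero J).2 y.2.2)
  have : π.rangeRestrict.lTensor G z = 0 := hKb (by
    rw [map_zero, ← LinearMap.lTensor_comp_apply]
    show (J.mkQ.comp K.subtype).lTensor G z = 0
    rw [LinearMap.lTensor_comp_apply, hz, map_zero])
  obtain ⟨w, rfl⟩ := ((lTensor_exact G hex π.surjective_rangeRestrict) z).1 this
  have : w = 0 := h0 (by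
    rw [map_zero, ← Submodule.subtype_comp_inclusion K₀ K inf_le_left, LinearMap.lTensor_comp_apply]
    exact hz)
  rw [this, map_zero]

/-- Projectivity of the glued module. -/
theorem projective_glue (h : EtMil.IsFibreSquare B' B A' A) [Module.Finite B N] [Module.Projective B N]
    [Module.Finite A' M'] [Module.Projective A' M'] : Module.Projective B' (EtMil.glue B' φ) := by
  have hw := isWeakSquare_of_isFibreSquare h
  let G := EtMil.glue B' φ
  haveI : Module.Finite B' G := finite_glue hw
  obtain ⟨r, π, hπ⟩ := Module.Finite.exists_fin' B' G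
  let x : Fin r → G := fun k => π (Pi.single k 1)
  have hπx : ∀ c : Fin r → B', π c = ∑ k, c k • x k := fun c => by
    conv_lhs => rw [pi_eq_sum_univ' c]
    simp only [map_sum, map_smul, x]
  let πB : (Fin r → B) →ₗ[B] N := Fintype.linearCombination B fun k => (x k).1.1
  let πM : (Fin r → A') →ₗ[A'] M' := Fintype.linearCombination A' fun k => (x k).1.2
  let πA : (Fin r → A) →ₗ[A] A ⊗[A'] M' := Fintype.linearCombination A fun k => (1 : A) ⊗ₜ[A'] (x k).1.2
  have hπBc : ∀ c : Fin r → B', πB (fun k => algebraMap B' B (c k)) = (π c).1.1 := fun c => by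
    rw [hπx, Submodule.coe_sum, Prod.fst_sum, Fintype.linearCombination_apply]
    simp [IsScalarTower.algebraMap_smul]
  have hπMc : ∀ c : Fin r → B', πM (fun k => algebraMap B' A' (c k)) = (π c).1.2 := fun c => by
    rw [hπx, Submodule.coe_sum, Prod.snd_sum, Fintype.linearCombination_apply]
    simp [IsScalarTower.algebraMap_smul]
  have hsB : Function.Surjective πB := fun n => by
    obtain ⟨g, rfl⟩ := exists_mem_glue (φ := φ) hw n
    obtain ⟨c, rfl⟩ := hπ g
    exact ⟨_, hπBc c⟩
  have hsM : Function.Surjective πM := fun m => by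
    obtain ⟨v, hv, w, hw', rfl⟩ := Submodule.mem_sup.1
      (span_snd_eq_top (φ := φ) hw (s := Set.univ) (fst_image_univ hw) m)
    refine (LinearMap.range πM).add_mem (Submodule.span_le.2 ?_ hv) ?_
    · rintro _ ⟨g, -, rfl⟩
      obtain ⟨c, rfl⟩ := hπ g
      exact ⟨_, hπMc c⟩
    · obtain ⟨c, hc⟩ := hπ ⟨(0, w), by
        rw [mem_glue, TensorProduct.tmul_zero, map_zero, (one_tmul_eq_zero_of_surjective hw.surj w).2 hw']⟩
      exact ⟨_, (hπMc c).trans (by rw [hc])⟩
  obtain ⟨sN, hsN⟩ := Module.projective_lifting_property πB LinearMap.id hsB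
  obtain ⟨sM, hsM'⟩ := Module.projective_lifting_property πM LinearMap.id hsM
  have hsN1 : ∀ n, πB (sN n) = n := LinearMap.congr_fun hsN
  have hsM1 : ∀ m, πM (sM m) = m := LinearMap.congr_fun hsM'
  let β : (Fin r → B) →ₗ[B] (Fin r → A) :=
    LinearMap.pi fun k => (Algebra.linearMap B A).comp (LinearMap.proj k)
  let α : (Fin r → A') →ₗ[A'] (Fin r → A) :=
    LinearMap.pi fun k => (Algebra.linearMap A' A).comp (LinearMap.proj k)
  have hβ : ∀ c, πA (β c) = φ ((1 : A) ⊗ₜ[B] πB c) := fun c => by
    simp only [πA, πB, β, Fintype.linearCombination_apply, TensorProduct.tmul_sum, map_sum,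
      LinearMap.pi_apply, LinearMap.comp_apply, LinearMap.proj_apply, Algebra.linearMap_apply]
    refine Finset.sum_congr rfl fun k _ => ?_
    rw [TensorProduct.tmul_smul, ← LinearEquiv.coe_coe, LinearMap.map_smul_of_tower, algebraMap_smul, LinearEquiv.coe_coe, mem_glue.1 (x k).2]
  have hα : ∀ c, πA (α c) = (1 : A) ⊗ₜ[A'] πM c := fun c => by
    simp only [πA, πM, α, Fintype.linearCombination_apply, TensorProduct.tmul_sum,
      LinearMap.pi_apply, LinearMap.comp_apply, LinearMap.proj_apply, Algebra.linearMap_apply,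
      algebraMap_smul, TensorProduct.tmul_smul]
  let sA : A ⊗[B] N →ₗ[A] (Fin r → A) := LinearMap.liftBaseChange A (β.comp sN)
  have hsA : ∀ t, πA (sA t) = φ t := fun t => by
    induction t using TensorProduct.induction_on with
    | zero => simp
    | tmul a n =>
      rw [LinearMap.liftBaseChange_tmul, map_smul, LinearMap.comp_apply, hβ, hsN1, ← map_smul,
        TensorProduct.smul_tmul', smul_eq_mul, mul_one]
    | add u v hu hv => simp only [map_add, hu, hv]
  let hh : M' →ₗ[A'] (Fin r → A) :=
    ((sA.restrictScalars A').comp ((φ.symm.toLinearMap.restrictScalars A').comp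
      (TensorProduct.mk A' A M' 1))) - α.comp sM
  let R₀ := (LinearMap.ker πM).map α
  have hmem : ∀ m, hh m ∈ R₀ := fun m => by
    have h0 : πA (hh m) = 0 := by
      show πA (sA (φ.symm ((1 : A) ⊗ₜ[A'] m)) - α (sM m)) = 0
      rw [map_sub, hsA, φ.apply_symm_apply, hα, hsM1, sub_self]
    have hαs : Function.Surjective α := fun c =>
      ⟨fun k => Function.surjInv hw.surj (c k), funext fun k => Function.surjInv_eq hw.surj (c k)⟩
    obtain ⟨c, hc⟩ := hαs (hh m)
    rw [← hc, hα] at h0
    obtain hI := (one_tmul_eq_zero_of_surjective hw.surj _).1 h0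
    -- elements of `I M'` come from vectors reducing to zero
    have key : RingHom.ker (algebraMap A' A) • (⊤ : Submodule A' M') ≤ (LinearMap.ker α).map πM :=
      Submodule.smul_le.2 fun i hi m' _ => by
        obtain ⟨d, rfl⟩ := hsM m'
        refine ⟨i • d, funext fun k => ?_, map_smul _ _ _⟩
        show algebraMap A' A (i * d k) = 0
        rw [map_mul, RingHom.mem_ker.1 hi, zero_mul]
    obtain ⟨d, hd, hd'⟩ := key hI
    exact ⟨c - d, by rw [SetLike.mem_coe, LinearMap.mem_ker, map_sub, hd', sub_self],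
      by rw [map_sub, hc, LinearMap.mem_ker.1 hd, sub_zero]⟩
  let αk : LinearMap.ker πM →ₗ[A'] R₀ :=
    (α.comp (LinearMap.ker πM).subtype).codRestrict R₀ fun c => ⟨c, c.2, rfl⟩
  have hαk : Function.Surjective αk := fun ⟨_, c, hc, e⟩ => ⟨⟨c, hc⟩, Subtype.ext e⟩
  obtain ⟨g, hg⟩ := Module.projective_lifting_property αk (hh.codRestrict R₀ hmem) hαk
  let sM2 : M' →ₗ[A'] (Fin r → A') := sM + (LinearMap.ker πM).subtype.comp g
  have hcompat : ∀ (p : G) (k : Fin r), algebraMap B A (sN p.1.1 k) = algebraMap A' A (sM2 p.1.2 k) := by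
    intro p k
    have e : α (g p.1.2 : Fin r → A') = hh p.1.2 := congrArg Subtype.val (LinearMap.congr_fun hg p.1.2)
    have e' : hh p.1.2 = β (sN p.1.1) - α (sM p.1.2) := by
      show sA (φ.symm ((1 : A) ⊗ₜ[A'] p.1.2)) - _ = _
      rw [← mem_glue.1 p.2, φ.symm_apply_apply, LinearMap.liftBaseChange_tmul, one_smul]
      rfl
    have := congrFun (e.trans e') k
    show algebraMap B A (sN p.1.1 k) = algebraMap A' A (sM p.1.2 k + (g p.1.2 : Fin r → A') k)
    rw [map_add]
    show algebraMap B A (sN p.1.1 k) = _ + α (g p.1.2 : Fin r → A') k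
    rw [this]
    show _ = _ + (algebraMap B A (sN p.1.1 k) - algebraMap A' A (sM p.1.2 k))
    ring
  choose c hc₁ hc₂ using fun (p : G) (k : Fin r) => hw.lift _ _ (hcompat p k)
  let s : G →ₗ[B'] (Fin r → B') :=
    { toFun := c
      map_add' := fun p q => funext fun k => eq_of_map_eq h
        (by simp [hc₁]) (by simp [hc₂])
      map_smul' := fun b p => funext fun k => eq_of_map_eq h
        (by simp [hc₁, LinearMap.map_smul_of_tower, Algebra.smul_def])
        (by simp [hc₂, LinearMap.map_smul_of_tower, Algebra.smul_def]) }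
  refine Module.Projective.of_split s π (LinearMap.ext fun p => Subtype.ext (Prod.ext ?_ ?_))
  · show (π (c p)).1.1 = p.1.1
    rw [← hπBc, funext (hc₁ p), hsN1]
  · show (π (c p)).1.2 = p.1.2
    rw [← hπMc, funext (hc₂ p)]
    show πM (sM p.1.2 + (g p.1.2 : Fin r → A')) = p.1.2
    rw [map_add, hsM1, LinearMap.mem_ker.1 (g p.1.2).2, add_zero]

end Groth.Agent.EtAlg23
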