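import Groth.Agent.EtAlg23.GlueBasic
import Groth.Agent.FlatCrit65.Basic
import Mathlib.RingTheory.Flat.Tensor
import Mathlib.RingTheory.Localization.BaseChange
import Mathlib.RingTheory.Flat.Localization
import Mathlib.LinearAlgebra.TensorProduct.Prod

set_option autoImplicit false
set_option linter.style.haveILetI false
universe u

open TensorProduct

namespace Groth.Agent.EtAlg23

section Snake

variable {R : Type*} [CommRing R] {K F M N P Q : Type*} [AddCommGroup K] [Module R K]
  [AddCommGroup F] [Module R F] [AddCommGroup M] [Module R M] [AddCommGroup N] [Module R N]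
  [AddCommGroup P] [Module R P] [AddCommGroup Q] [Module R Q]
  {a : K →ₗ[R] F} {b : F →ₗ[R] M} {i : N →ₗ[R] P} {p : P →ₗ[R] Q}

/-- If `K ⊗ P → F ⊗ P` is injective then the kernel of `K ⊗ Q → F ⊗ Q` is controlled by that of
`M ⊗ N → M ⊗ P`. -/
theorem snake_left (hab : Function.Exact a b) (hb : Function.Surjective b) (hip : Function.Exact i p)
    (hp : Function.Surjective p) (hKP : Function.Injective (a.rTensor P))
    (x : K ⊗[R] Q) (hx : a.rTensor Q x = 0) :
    ∃ z : M ⊗[R] N, i.lTensor M z = 0 ∧ ∀ c : R, c • z = 0 → c • x = 0 := by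
  obtain ⟨y, rfl⟩ := LinearMap.lTensor_surjective K hp x
  have h1 : p.lTensor F (a.rTensor P y) = 0 := by
    rw [← LinearMap.comp_apply, LinearMap.lTensor_comp_rTensor, ← LinearMap.rTensor_comp_lTensor,
      LinearMap.comp_apply, hx]
  obtain ⟨v, hv⟩ := ((lTensor_exact F hip hp) _).1 h1
  refine ⟨b.rTensor N v, ?_, fun c hc => ?_⟩
  · rw [← LinearMap.comp_apply, LinearMap.lTensor_comp_rTensor, ← LinearMap.rTensor_comp_lTensor,
      LinearMap.comp_apply, hv, ← LinearMap.comp_apply, ← LinearMap.rTensor_comp,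
      hab.linearMap_comp_eq_zero, LinearMap.rTensor_zero, LinearMap.zero_apply]
  · rw [← map_smul] at hc
    obtain ⟨w, hw⟩ := ((rTensor_exact N hab hb) _).1 hc
    have : c • y = i.lTensor K w := hKP (by
      rw [map_smul, ← hv, ← map_smul, ← hw, ← LinearMap.comp_apply, ← LinearMap.comp_apply,
        LinearMap.rTensor_comp_lTensor, LinearMap.lTensor_comp_rTensor])
    rw [← map_smul, this, ← LinearMap.comp_apply, ← LinearMap.lTensor_comp,
      hip.linearMap_comp_eq_zero, LinearMap.lTensor_zero, LinearMap.zero_apply]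

/-- If `F ⊗ N → F ⊗ P` and `K ⊗ Q → F ⊗ Q` are injective then so is `M ⊗ N → M ⊗ P`. -/
theorem snake_right (hab : Function.Exact a b) (hb : Function.Surjective b) (hip : Function.Exact i p)
    (hp : Function.Surjective p) (hFN : Function.Injective (i.lTensor F))
    (hKQ : Function.Injective (a.rTensor Q)) : Function.Injective (i.lTensor M) := by
  refine (injective_iff_map_eq_zero _).2 fun z hz => ?_
  obtain ⟨v, rfl⟩ := LinearMap.rTensor_surjective N hb z
  have h1 : b.rTensor P (i.lTensor F v) = 0 := by
    rw [← LinearMap.comp_apply, LinearMap.rTensor_comp_lTensor, ← LinearMap.lTensor_comp_rTensor,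
      LinearMap.comp_apply, hz]
  obtain ⟨y, hy⟩ := ((rTensor_exact P hab hb) _).1 h1
  have h2 : p.lTensor K y = 0 := hKQ (by
    rw [map_zero, ← LinearMap.comp_apply, LinearMap.rTensor_comp_lTensor,
      ← LinearMap.lTensor_comp_rTensor, LinearMap.comp_apply, hy, ← LinearMap.comp_apply,
      ← LinearMap.lTensor_comp, hip.linearMap_comp_eq_zero, LinearMap.lTensor_zero,
      LinearMap.zero_apply])
  obtain ⟨w, rfl⟩ := ((lTensor_exact K hip hp) _).1 h2
  have : v = a.rTensor N w := hFN (by
    rw [← hy, ← LinearMap.comp_apply, ← LinearMap.comp_apply, LinearMap.rTensor_comp_lTensor,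
      LinearMap.lTensor_comp_rTensor])
  rw [this, ← LinearMap.comp_apply, ← LinearMap.rTensor_comp, hab.linearMap_comp_eq_zero,
    LinearMap.rTensor_zero, LinearMap.zero_apply]

end Snake

theorem exists_free_cover (R : Type u) [CommRing R] (Q : Type u) [AddCommGroup Q] [Module R Q] :
    ∃ (P : Type u) (_ : AddCommGroup P) (_ : Module R P) (_ : Module.Free R P) (p : P →ₗ[R] Q),
      Function.Surjective p :=
  ⟨Q →₀ R, inferInstance, inferInstance, inferInstance, Finsupp.linearCombination R id,
    fun q => ⟨Finsupp.single q 1, by simp⟩⟩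

/-- An exact sequence with flat quotient stays injective after tensoring. -/
theorem rTensor_injective_of_flat_quotient {R : Type u} [CommRing R] {K F M : Type u}
    [AddCommGroup K] [Module R K] [AddCommGroup F] [Module R F] [AddCommGroup M] [Module R M]
    [Module.Flat R M] {a : K →ₗ[R] F} {b : F →ₗ[R] M} (hab : Function.Exact a b)
    (hb : Function.Surjective b) (ha : Function.Injective a) (Q : Type u) [AddCommGroup Q]
    [Module R Q] : Function.Injective (a.rTensor Q) := by
  obtain ⟨P, _, _, _, p, hp⟩ := exists_free_cover R Q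
  refine (injective_iff_map_eq_zero _).2 fun x hx => ?_
  obtain ⟨z, hz, h⟩ := snake_left hab hb (LinearMap.exact_subtype_ker_map p) hp
    (Module.Flat.rTensor_preserves_injective_linearMap a ha) x hx
  simpa using h 1 (by
    rw [one_smul]
    exact Module.Flat.lTensor_preserves_injective_linearMap _ Subtype.val_injective (hz.trans (map_zero _).symm))

variable {R R' : Type u} [CommRing R] [CommRing R'] [Algebra R R'] {f : R}

/-- The kernel of `M ⊗ N → M_f ⊗ N` is power torsion. -/
theorem torsion_of_rTensor_loc_eq_zero (M N : Type u) [AddCommGroup M] [Module R M] [AddCommGroup N]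
    [Module R N] (z : M ⊗[R] N)
    (hz : (LocalizedModule.mkLinearMap (Submonoid.powers f) M).rTensor N z = 0) :
    ∃ n : ℕ, f ^ n • z = 0 := by
  refine (loc_eq_zero_iff (f := f) (M := M ⊗[R] N) (L := LocalizedModule (Submonoid.powers f) (M ⊗[R] N))
    (LocalizedModule.mkLinearMap (Submonoid.powers f) (M ⊗[R] N))).1 ?_
  let T : LocalizedModule (Submonoid.powers f) M ⊗[R] N →ₗ[R]
      LocalizedModule (Submonoid.powers f) (M ⊗[R] N) :=
    TensorProduct.lift ((IsLocalizedModule.map (Submonoid.powers f)
      (LocalizedModule.mkLinearMap (Submonoid.powers f) M)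
      (LocalizedModule.mkLinearMap (Submonoid.powers f) (M ⊗[R] N))).comp (TensorProduct.mk R M N).flip).flip
  have h : T.comp ((LocalizedModule.mkLinearMap (Submonoid.powers f) M).rTensor N) =
      LocalizedModule.mkLinearMap (Submonoid.powers f) (M ⊗[R] N) := by
    refine TensorProduct.ext' fun m n => ?_
    exact IsLocalizedModule.map_apply (Submonoid.powers f) (LocalizedModule.mkLinearMap (Submonoid.powers f) M)
      (LocalizedModule.mkLinearMap (Submonoid.powers f) (M ⊗[R] N)) _ m
  rw [← h, LinearMap.comp_apply, hz, map_zero]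

theorem torsion_of_flat_loc (M : Type u) [AddCommGroup M] [Module R M]
    [Module.Flat R (LocalizedModule (Submonoid.powers f) M)] {N P : Type u} [AddCommGroup N]
    [Module R N] [AddCommGroup P] [Module R P] (i : N →ₗ[R] P) (hi : Function.Injective i)
    (z : M ⊗[R] N) (hz : i.lTensor M z = 0) : ∃ n : ℕ, f ^ n • z = 0 := by
  refine torsion_of_rTensor_loc_eq_zero M N z ?_
  refine Module.Flat.lTensor_preserves_injective_linearMap i hi ?_
  rw [map_zero, ← LinearMap.comp_apply, LinearMap.lTensor_comp_rTensor,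
    ← LinearMap.rTensor_comp_lTensor, LinearMap.comp_apply, hz, map_zero]

/-- Power torsion elements of a flat module are detected in `R' ⊗ F`. -/
theorem eq_zero_of_torsion_of_flat (hg : EtGlue.IsGlueingPair R R' f) (F : Type u) [AddCommGroup F]
    [Module R F] [Module.Flat R F] (m : F) (n : ℕ) (hn : f ^ n • m = 0)
    (h : (1 : R') ⊗ₜ[R] m = 0) : m = 0 := by
  let v : R →ₗ[R] R' × R := (Algebra.linearMap R R').prod (LinearMap.lsmul R R (f ^ n))
  have hv : Function.Injective v := (injective_iff_map_eq_zero _).2 fun r hr => by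
    have h₁ : algebraMap R R' r = 0 := congrArg Prod.fst hr
    have h₂ : f ^ n * r = 0 := congrArg Prod.snd hr
    exact ((isGlueingPair_iff hg.1).1 hg).1 r ⟨n, h₂⟩ h₁
  have hz : v.rTensor F ((1 : R) ⊗ₜ[R] m) = 0 := by
    apply (TensorProduct.prodLeft R R R' R F).injective
    rw [LinearMap.rTensor_tmul, map_zero, prodLeft_tmul]
    refine Prod.ext ?_ ?_
    · show algebraMap R R' 1 ⊗ₜ[R] m = 0
      rw [map_one, h]
    · show (f ^ n • (1 : R)) ⊗ₜ[R] m = 0
      rw [TensorProduct.smul_tmul, hn, TensorProduct.tmul_zero]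
  have := Module.Flat.rTensor_preserves_injective_linearMap v hv (hz.trans (map_zero _).symm)
  simpa using congrArg (TensorProduct.lid R F) this

variable (hg : EtGlue.IsGlueingPair R R' f) (M : Type u) [AddCommGroup M] [Module R M]
  [Module.Flat R' (R' ⊗[R] M)] [Module.Flat R (LocalizedModule (Submonoid.powers f) M)]

include hg in
omit [Module.Flat R' (R' ⊗[R] M)] in
/-- The first Tor of `R'` with such a module vanishes. -/
theorem baseChange_ker_injective {K F : Type u} [AddCommGroup K] [Module R K] [AddCommGroup F]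
    [Module R F] [Module.Flat R F] {a : K →ₗ[R] F} {b : F →ₗ[R] M} (hab : Function.Exact a b)
    (hb : Function.Surjective b) (ha : Function.Injective a) :
    Function.Injective (a.lTensor R') := by
  obtain ⟨P, _, _, _, p, hp⟩ := exists_free_cover R R'
  refine (injective_iff_map_eq_zero _).2 fun x hx => ?_
  have hx' : a.rTensor R' (TensorProduct.comm R R' K x) = 0 := by
    rw [← LinearEquiv.coe_coe, ← LinearMap.comp_apply, LinearMap.rTensor_def,
      TensorProduct.map_comp_comm_eq, LinearMap.comp_apply, ← LinearMap.lTensor_def, hx, map_zero]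
  obtain ⟨z, hz, h⟩ := snake_left hab hb (LinearMap.exact_subtype_ker_map p) hp
    (Module.Flat.rTensor_preserves_injective_linearMap a ha) _ hx'
  obtain ⟨n, hn⟩ := torsion_of_flat_loc (f := f) M _ Subtype.val_injective z hz
  have h' : f ^ n • x = 0 := (TensorProduct.comm R R' K).injective (by
    rw [map_smul, map_zero, h _ hn])
  obtain ⟨k, ⟨l, hl⟩, rfl⟩ := torsion_surjective hg K x ⟨n, h'⟩
  have : a k = 0 := eq_zero_of_torsion_of_flat hg F (a k) l (by rw [← map_smul, hl, map_zero])
    (by rw [← LinearMap.lTensor_tmul, hx])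
  rw [ha (this.trans (map_zero a).symm), TensorProduct.tmul_zero]

include hg in
/-- Injections with power torsion cokernel stay injective after tensoring with such a module. -/
theorem lTensor_injective_of_torsion_coker {N P : Type u} [AddCommGroup N] [Module R N]
    [AddCommGroup P] [Module R P] (i : N →ₗ[R] P) (hi : Function.Injective i)
    (ht : ∀ y : P, ∃ n : ℕ, f ^ n • y ∈ LinearMap.range i) : Function.Injective (i.lTensor M) := by
  obtain ⟨F, _, _, _, b, hb⟩ := exists_free_cover R M
  refine snake_right (p := (LinearMap.range i).mkQ) (LinearMap.exact_subtype_ker_map b) hb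
    (LinearMap.exact_map_mkQ_range i) (Submodule.mkQ_surjective _)
    (Module.Flat.lTensor_preserves_injective_linearMap i hi) ?_
  let Q := P ⧸ LinearMap.range i
  have hQ : ∀ q : Q, ∃ n : ℕ, f ^ n • q = 0 := fun q => by
    obtain ⟨y, rfl⟩ := Submodule.Quotient.mk_surjective _ q
    obtain ⟨n, hn⟩ := ht y
    exact ⟨n, by rw [← Submodule.Quotient.mk_smul]; exact (Submodule.Quotient.mk_eq_zero _).2 hn⟩
  let e : Q ≃ₗ[R] R' ⊗[R] Q := LinearEquiv.ofBijective _ (mk_bijective_of_torsion hg.1 hQ)
  let a := (LinearMap.ker b).subtype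
  let a' : R' ⊗[R] LinearMap.ker b →ₗ[R'] R' ⊗[R] F := a.baseChange R'
  have ha' : Function.Injective a' :=
    baseChange_ker_injective hg M (LinearMap.exact_subtype_ker_map b) hb Subtype.val_injective
  have hex : Function.Exact a' (b.baseChange R') :=
    lTensor_exact R' (LinearMap.exact_subtype_ker_map b) hb
  have h1 : Function.Injective (a'.lTensor (R' ⊗[R] Q)) :=
    (LinearMap.lTensor_inj_iff_rTensor_inj _ _).2
      (rTensor_injective_of_flat_quotient hex (LinearMap.lTensor_surjective R' hb) ha' _)
  have h2 : Function.Injective (a.lTensor (R' ⊗[R] Q)) := by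
    refine (injective_iff_map_eq_zero _).2 fun x hx => ?_
    obtain ⟨y, rfl⟩ := (AlgebraTensorModule.cancelBaseChange R R' R' (R' ⊗[R] Q) (LinearMap.ker b)).surjective x
    have key : ∀ y, a.lTensor (R' ⊗[R] Q) (AlgebraTensorModule.cancelBaseChange R R' R' (R' ⊗[R] Q) _ y) =
        AlgebraTensorModule.cancelBaseChange R R' R' (R' ⊗[R] Q) F (a'.lTensor (R' ⊗[R] Q) y) := fun y => by
      induction y using TensorProduct.induction_on with
      | zero => simp
      | tmul q w =>
        induction w using TensorProduct.induction_on with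
        | zero => simp
        | tmul r k => simp [a', AlgebraTensorModule.cancelBaseChange_tmul]
        | add u v hu hv => simp only [TensorProduct.tmul_add, map_add, hu, hv]
      | add u v hu hv => simp only [map_add, hu, hv]
    rw [key, LinearEquiv.map_eq_zero_iff] at hx
    rw [(injective_iff_map_eq_zero _).1 h1 y hx, map_zero]
  have h3 : Function.Injective (a.rTensor (R' ⊗[R] Q)) := (LinearMap.lTensor_inj_iff_rTensor_inj _ _).1 h2
  intro x y hxy
  refine (LinearEquiv.lTensor (LinearMap.ker b) e).injective (h3 ?_)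
  simp only [← LinearEquiv.coe_coe, LinearEquiv.coe_lTensor]
  rw [← LinearMap.comp_apply, ← LinearMap.comp_apply, LinearMap.rTensor_comp_lTensor,
    ← LinearMap.lTensor_comp_rTensor, LinearMap.comp_apply, LinearMap.comp_apply, hxy]

include hg in
/-- Modules flat after both base changes are flat. -/
theorem flat_of_glueingPair : Module.Flat R M := by
  rw [Module.Flat.iff_lTensor_injective]
  intro I _
  let T : Submodule R R :=
    { carrier := {r | ∃ n : ℕ, f ^ n * r = 0}
      add_mem' := fun {x y} ⟨n, hn⟩ ⟨k, hk⟩ => ⟨n + k, by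
        rw [mul_add, pow_add, mul_right_comm, hn, zero_mul, mul_assoc, hk, mul_zero, add_zero]⟩
      zero_mem' := ⟨0, by simp⟩
      smul_mem' := fun c x ⟨n, hn⟩ => ⟨n, by rw [smul_eq_mul, mul_left_comm, hn, mul_zero]⟩ }
  let N₁ : Submodule R R := I ⊔ T
  let i₁ : I →ₗ[R] N₁ := Submodule.inclusion le_sup_left
  have h₁ : Function.Injective (i₁.lTensor M) :=
    lTensor_injective_of_torsion_coker hg M i₁ (Submodule.inclusion_injective _) fun y => by
      obtain ⟨x, hx, t, ⟨n, hn⟩, hxt⟩ := Submodule.mem_sup.1 y.2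
      refine ⟨n, ⟨f ^ n * x, I.mul_mem_left _ hx⟩, Subtype.ext ?_⟩
      show f ^ n * x = f ^ n * (y : R)
      rw [← hxt, mul_add, hn, add_zero]
  refine (injective_iff_map_eq_zero _).2 fun z₀ hz₀ => h₁ ?_
  rw [map_zero]
  have hz : N₁.subtype.lTensor M (i₁.lTensor M z₀) = 0 := by
    rw [← LinearMap.comp_apply, ← LinearMap.lTensor_comp, Submodule.subtype_comp_inclusion]
    exact hz₀
  obtain ⟨n, hn⟩ := torsion_of_flat_loc (f := f) M _ Subtype.val_injective _ hz
  let iT : T →ₗ[R] N₁ := Submodule.inclusion le_sup_right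
  let Q := N₁ ⧸ LinearMap.range iT
  let μ : Q →ₗ[R] Q := LinearMap.lsmul R Q f
  have hμ : Function.Injective μ := (injective_iff_map_eq_zero _).2 fun q hq => by
    obtain ⟨y, rfl⟩ := Submodule.Quotient.mk_surjective _ q
    replace hq : Submodule.Quotient.mk (f • y) = (0 : Q) := hq
    obtain ⟨⟨t, k, hk⟩, ht⟩ := (Submodule.Quotient.mk_eq_zero _).1 hq
    have ht' : t = f * (y : R) := congrArg Subtype.val ht
    exact (Submodule.Quotient.mk_eq_zero _).2
      ⟨⟨y, k + 1, by rw [pow_succ, mul_assoc, ← ht', hk]⟩, rfl⟩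
  have hμM : Function.Injective (μ.lTensor M) :=
    lTensor_injective_of_torsion_coker hg M μ hμ fun q => ⟨1, q, by simp [μ]⟩
  have hfree : ∀ (k : ℕ) (w : M ⊗[R] Q), f ^ k • w = 0 → w = 0 := by
    intro k
    induction k with
    | zero => simp
    | succ k ih =>
      intro w hw
      rw [pow_succ, mul_smul] at hw
      refine hμM ?_
      rw [map_zero, show μ = f • (LinearMap.id : Q →ₗ[R] Q) from rfl, LinearMap.lTensor_smul,
        LinearMap.smul_apply, LinearMap.lTensor_id, LinearMap.id_apply, ih _ hw]
  have hq0 : (LinearMap.range iT).mkQ.lTensor M (i₁.lTensor M z₀) = 0 :=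
    hfree n _ (by rw [← map_smul, hn, map_zero])
  obtain ⟨w, hw⟩ := ((lTensor_exact M (LinearMap.exact_map_mkQ_range iT) (Submodule.mkQ_surjective _)) _).1 hq0
  suffices w = 0 by rw [← hw, this, map_zero]
  have hT : ∀ t : T, ∃ k : ℕ, f ^ k • t = 0 := fun ⟨t, k, hk⟩ => ⟨k, Subtype.ext hk⟩
  let e : T ≃ₗ[R] R' ⊗[R] T := LinearEquiv.ofBijective _ (mk_bijective_of_torsion hg.1 hT)
  let g : R' ⊗[R] T →ₗ[R'] R' := LinearMap.liftBaseChange R' ((Algebra.linearMap R R').comp T.subtype)
  have hge : ∀ t : T, g (e t) = algebraMap R R' (t : R) := fun t => by simp [g, e]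
  have hgi : Function.Injective g := (injective_iff_map_eq_zero _).2 fun x hx => by
    obtain ⟨⟨t, k, hk⟩, rfl⟩ := e.surjective x
    rw [hge] at hx
    have : t = 0 := ((isGlueingPair_iff hg.1).1 hg).1 t ⟨k, hk⟩ hx
    subst this
    exact map_zero e
  refine (LinearEquiv.lTensor M e).injective
    (FlatCrit65.lTensor_injective_of_flat_baseChange R' g hgi ?_)
  have hcomp : (g.restrictScalars R).comp e.toLinearMap =
      (Algebra.linearMap R R').comp (N₁.subtype.comp iT) := LinearMap.ext hge
  rw [map_zero, map_zero, ← LinearEquiv.coe_coe, LinearEquiv.coe_lTensor, ← LinearMap.comp_apply,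
    ← LinearMap.lTensor_comp, hcomp, LinearMap.lTensor_comp, LinearMap.comp_apply,
    LinearMap.lTensor_comp, LinearMap.comp_apply, hw, hz, map_zero]

end Groth.Agent.EtAlg23
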