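import Groth.Prelude.Def_EtRam
import Groth.Agent.Ram24.ReducedFibre
import Groth.Agent.EtRam26.Unr
import Groth.Agent.Unr55.EtAscent
import Groth.Agent.S14457
import Mathlib.RingTheory.AdjoinRoot
import Mathlib.RingTheory.SimpleModule.Basic
import Mathlib.LinearAlgebra.TensorProduct.RightExactness
import Mathlib.RingTheory.TensorProduct.Maps
import Mathlib.RingTheory.TensorProduct.Finite

/-! Abhyankar's lemma at one place, with possibly transcendental residue extensions. -/

set_option autoImplicit false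
set_option linter.style.haveILetI false
universe u

open IsLocalRing Polynomial
open scoped TensorProduct

namespace Groth.Agent.EtAlg23.AbhLocal

theorem isReduced_quotient_idempotent {R : Type u} [CommRing R] [IsReduced R] {ε : R}
    (hε : IsIdempotentElem ε) : IsReduced (R ⧸ Ideal.span {ε}) := by
  refine ⟨fun x hx => ?_⟩
  obtain ⟨x, rfl⟩ := Ideal.Quotient.mk_surjective x
  obtain ⟨n, hn⟩ := hx
  rw [← map_pow, Ideal.Quotient.eq_zero_iff_mem, Ideal.mem_span_singleton] at hn
  obtain ⟨c, hc⟩ := hn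
  have h0 : ((1 - ε) * x) ^ (n + 1) = 0 := by
    rw [mul_pow, pow_succ x, hc, pow_succ']
    linear_combination ((-(c * x * (1 - ε) ^ n)) : R) * hε.eq
  have h1 := eq_zero_of_pow_eq_zero h0
  rw [Ideal.Quotient.eq_zero_iff_mem, Ideal.mem_span_singleton]
  exact ⟨x, by linear_combination h1⟩

/-- A field quotient of a reduced Artinian geometrically reduced algebra is geometrically
reduced. -/
theorem isGeometricallyReduced_of_surjective {k F G : Type u} [Field k] [CommRing F] [Field G]
    [Algebra k F] [Algebra k G] [IsArtinianRing F] [IsReduced F]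
    [Algebra.IsGeometricallyReduced k F] (f : F →ₐ[k] G) (hf : Function.Surjective f) :
    Algebra.IsGeometricallyReduced k G := by
  haveI : IsSemisimpleRing F := IsArtinianRing.isSemisimpleRing_of_isReduced F
  obtain ⟨ε, hε, hker⟩ := IsSemisimpleRing.ideal_eq_span_idempotent (RingHom.ker f)
  rw [Algebra.isGeometricallyReduced_field_iff]
  let Ω := AlgebraicClosure k
  haveI : IsReduced (Ω ⊗[k] F) := inferInstance
  let g := Algebra.TensorProduct.map (AlgHom.id k Ω) f
  have hg : Function.Surjective g := LinearMap.lTensor_surjective Ω hf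
  have hkg : RingHom.ker g = Ideal.span {(1 : Ω) ⊗ₜ[k] ε} := by
    rw [Algebra.TensorProduct.lTensor_ker f hf, hker, Ideal.map_span, Set.image_singleton]
    rfl
  have hε' : IsIdempotentElem ((1 : Ω) ⊗ₜ[k] ε) := by
    rw [IsIdempotentElem, Algebra.TensorProduct.tmul_mul_tmul, one_mul, hε.eq]
  haveI : IsReduced ((Ω ⊗[k] F) ⧸ RingHom.ker g) := by
    rw [hkg]; exact isReduced_quotient_idempotent hε'
  haveI : IsReduced ((Ω ⊗[k] F) ⧸ RingHom.ker g.toRingHom) :=
    inferInstanceAs (IsReduced ((Ω ⊗[k] F) ⧸ RingHom.ker g))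
  exact isReduced_of_injective (RingHom.quotientKerEquivOfSurjective (f := g.toRingHom) hg).symm
    (RingEquiv.injective _)

/-- Adjoining a root of a unit of invertible order preserves geometric reducedness. -/
theorem isGeometricallyReduced_adjoinRoot {k T : Type u} [Field k] [CommRing T] [Algebra k T]
    [Algebra.IsGeometricallyReduced k T] {e : ℕ} (he : 1 ≤ e) (w : T) (hu : IsUnit ((e : T) * w)) :
    Algebra.IsGeometricallyReduced k (AdjoinRoot (X ^ e - C w : T[X])) := by
  rw [Algebra.isGeometricallyReduced_field_iff]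
  let Ω := AlgebraicClosure k
  let q : (Ω ⊗[k] T)[X] := X ^ e - C ((1 : Ω) ⊗ₜ[k] w)
  have hq : (X ^ e - C w : T[X]).map
      (Algebra.TensorProduct.includeRight : T →ₐ[k] Ω ⊗[k] T).toRingHom = q := by
    simp [q]
  haveI : Algebra.Etale (Ω ⊗[k] T) (AdjoinRoot q) := by
    refine (S14457.result _ _ e he).2 (Or.inr ?_)
    have := hu.map (Algebra.TensorProduct.includeRight : T →ₐ[k] Ω ⊗[k] T)
    rwa [map_mul, map_natCast] at this
  haveI : IsReduced (Ω ⊗[k] T) := inferInstance
  haveI : IsReduced (AdjoinRoot q) := Unr55.isReduced_of_etale (A := Ω ⊗[k] T)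
  exact isReduced_of_injective (AdjoinRoot.tensorAlgEquiv (X ^ e - C w : T[X]) q hq)
    (AlgEquiv.injective _)

variable {A B V M : Type u} [CommRing A] [IsLocalRing A]
  [CommRing B] [IsDomain B] [IsDiscreteValuationRing B]
  [CommRing V] [IsDomain V] [IsDiscreteValuationRing V]
  [Algebra A B] [IsLocalHom (algebraMap A B)] [Algebra A V] [IsLocalHom (algebraMap A V)]
  [Field M] (W : ValuationSubring M) [IsDiscreteValuationRing W]

/-- Abhyankar's lemma at one place. -/
theorem abhyankar_local [Module.Finite (ResidueField A) (ResidueField V)]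
    [Algebra.IsGeometricallyReduced (ResidueField A) (ResidueField B)]
    (ψB : B →+* W) (ψV : V →+* W) [IsLocalHom ψV] (hψV : Function.Injective ψV)
    (hagree : ∀ a, ψB (algebraMap A B a) = ψV (algebraMap A V a))
    (hgen : Subfield.closure (Set.range (fun b => (ψB b : M)) ∪ Set.range (fun c => (ψV c : M))) = ⊤)
    {e k : ℕ} (he : 0 < e) (he' : (e : ResidueField A) ≠ 0) (hk : 0 < k)
    {πB : B} (hπB : Irreducible πB) {π₁ : V} (hπ₁ : Irreducible π₁) (v : Bˣ) (u : Vˣ)
    (hrel : ψB (v * πB ^ e) = ψV (u * π₁ ^ (e * k))) :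
    letI : Algebra V W := ψV.toAlgebra
    EtRam.IsWeaklyUnramified V W ∧
      @Algebra.IsGeometricallyReduced (ResidueField V) (ResidueField W) _ _
        (ResidueField.map ψV).toAlgebra := by
  classical
  -- the root of the unit
  have hP0 : (ψV π₁ : M) ≠ 0 := fun h =>
    hπ₁.ne_zero ((map_eq_zero_iff ψV hψV).1 (Subtype.ext h))
  let t : M := (ψB πB : M) / (ψV π₁ : M) ^ k
  have hvu : ((ψB v : W) : M) ≠ 0 := fun h => (v.isUnit.map ψB).ne_zero (Subtype.ext h)
  have hte : t ^ e = ((ψV u * ψB ↑v⁻¹ : W) : M) := by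
    have h1 : (ψB v : M) * (ψB πB : M) ^ e = (ψV u : M) * (ψV π₁ : M) ^ (e * k) := by
      have h := congrArg Subtype.val hrel
      simpa only [map_mul, map_pow, MulMemClass.coe_mul, SubmonoidClass.coe_pow] using h
    have h2 : (ψB v : M) * (ψB (↑v⁻¹ : B) : M) = 1 := by
      have h := congrArg Subtype.val ((map_mul ψB _ _).symm.trans
        ((congrArg ψB v.mul_inv).trans (map_one ψB)))
      exact h
    rw [div_pow, div_eq_iff (pow_ne_zero _ (pow_ne_zero _ hP0)), ← pow_mul, mul_comm k e,
      MulMemClass.coe_mul]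
    linear_combination ((ψB (↑v⁻¹ : B) : W) : M) * h1 - (ψB πB : M) ^ e * h2
  have hu1 : W.valuation (t ^ e) = 1 := by
    rw [hte]
    exact (W.valuation_eq_one_iff _).mp ((u.isUnit.map ψV).mul (v⁻¹.isUnit.map ψB))
  rw [map_pow] at hu1
  have htv : W.valuation t = 1 := (pow_eq_one_iff.mp hu1).resolve_right he.ne'
  let tW : W := ⟨t, (W.valuation_le_one_iff t).mp htv.le⟩
  have htW : tW ^ e = ψV u * ψB ↑v⁻¹ := Subtype.ext hte
  have hBt : ψB πB = tW * ψV π₁ ^ k := Subtype.ext (by
    show (ψB πB : M) = t * ((ψV π₁ ^ k : W) : M)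
    rw [SubmonoidClass.coe_pow, div_mul_cancel₀ _ (pow_ne_zero _ hP0)])
  -- the ring generated by `B`, `V` and the root
  let s : Set W := Set.range ψB ∪ Set.range ψV ∪ {tW}
  let R := Subring.closure s
  let bB : B →+* R := ψB.codRestrict R fun b => Subring.subset_closure (Or.inl (Or.inl ⟨b, rfl⟩))
  let bV : V →+* R := ψV.codRestrict R fun b => Subring.subset_closure (Or.inl (Or.inr ⟨b, rfl⟩))
  let tR : R := ⟨tW, Subring.subset_closure (Or.inr rfl)⟩
  let P : R := bV π₁
  let F := R ⧸ Ideal.span {P}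
  let mk : R →+* F := Ideal.Quotient.mk _
  have hP : mk P = 0 := Ideal.Quotient.eq_zero_iff_mem.2 (Ideal.mem_span_singleton_self P)
  have hkillV : ∀ c ∈ maximalIdeal V, mk.comp bV c = 0 := fun c hc => by
    rw [(IsDiscreteValuationRing.irreducible_iff_uniformizer π₁).mp hπ₁,
      Ideal.mem_span_singleton] at hc
    obtain ⟨d, rfl⟩ := hc
    rw [map_mul, RingHom.comp_apply, show bV π₁ = P from rfl, hP, zero_mul]
  have hkillB : ∀ c ∈ maximalIdeal B, mk.comp bB c = 0 := fun c hc => by
    rw [(IsDiscreteValuationRing.irreducible_iff_uniformizer πB).mp hπB,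
      Ideal.mem_span_singleton] at hc
    obtain ⟨d, rfl⟩ := hc
    rw [map_mul, RingHom.comp_apply, show bB πB = tR * P ^ k from Subtype.ext hBt, map_mul,
      map_pow, hP, zero_pow hk.ne', mul_zero, zero_mul]
  let fB₀ : ResidueField B →+* F := Ideal.Quotient.lift _ (mk.comp bB) hkillB
  let fV₀ : ResidueField V →+* F := Ideal.Quotient.lift _ (mk.comp bV) hkillV
  letI : Algebra (ResidueField A) F :=
    (fB₀.comp (algebraMap (ResidueField A) (ResidueField B))).toAlgebra
  let fB : ResidueField B →ₐ[ResidueField A] F := { fB₀ with commutes' := fun _ => rfl }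
  let fV : ResidueField V →ₐ[ResidueField A] F :=
    { fV₀ with
      commutes' := fun a => by
        obtain ⟨a, rfl⟩ := residue_surjective a
        show mk (bV (algebraMap A V a)) = mk (bB (algebraMap A B a))
        exact congrArg mk (Subtype.ext (hagree a).symm) }
  let T₀ := ResidueField V ⊗[ResidueField A] ResidueField B
  let θ₀ : T₀ →ₐ[ResidueField A] F :=
    Algebra.TensorProduct.lift fV fB fun _ _ => Commute.all _ _
  let w : T₀ := residue V u ⊗ₜ residue B ↑v⁻¹
  have hw : θ₀ w = mk tR ^ e := by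
    rw [Algebra.TensorProduct.lift_tmul, ← map_pow]
    show mk (bV u) * mk (bB ↑v⁻¹) = _
    rw [← map_mul]
    exact congrArg mk (Subtype.ext htW.symm)
  let f₀ : T₀[X] := X ^ e - C w
  have hf₀ : f₀.Monic := monic_X_pow_sub_C w he.ne'
  let F₀ := AdjoinRoot f₀
  let θ : F₀ →+* F := AdjoinRoot.lift θ₀.toRingHom (mk tR) (by
    simp only [f₀, eval₂_sub, eval₂_X_pow, eval₂_C]
    exact sub_eq_zero.mpr hw.symm)
  have hθ : Function.Surjective θ := by
    intro x
    obtain ⟨⟨x, hx⟩, rfl⟩ := Ideal.Quotient.mk_surjective x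
    have hle : R ≤ (θ.range.comap mk).map R.subtype := by
      refine Subring.closure_le.mpr ?_
      rintro y ((⟨b, rfl⟩ | ⟨c, rfl⟩) | rfl)
      · refine ⟨bB b, ⟨AdjoinRoot.of f₀ (1 ⊗ₜ residue B b), ?_⟩, rfl⟩
        rw [AdjoinRoot.lift_of]
        show θ₀ ((1 : ResidueField V) ⊗ₜ residue B b) = _
        rw [Algebra.TensorProduct.lift_tmul, map_one, one_mul]
        rfl
      · refine ⟨bV c, ⟨AdjoinRoot.of f₀ (residue V c ⊗ₜ 1), ?_⟩, rfl⟩
        rw [AdjoinRoot.lift_of]
        show θ₀ (residue V c ⊗ₜ (1 : ResidueField B)) = _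
        rw [Algebra.TensorProduct.lift_tmul, map_one, mul_one]
        rfl
      · exact ⟨tR, ⟨AdjoinRoot.root f₀, AdjoinRoot.lift_root _⟩, rfl⟩
    obtain ⟨r, hr, hrx⟩ := hle hx
    obtain ⟨y, hy⟩ := hr
    exact ⟨y, hy.trans (congrArg mk (Subtype.ext hrx))⟩
  -- properties of the model of the fibre
  haveI : Algebra.IsGeometricallyReduced (ResidueField V) T₀ := by
    rw [Algebra.isGeometricallyReduced_field_iff]
    let Ω := AlgebraicClosure (ResidueField V)
    haveI : Algebra.IsAlgebraic (ResidueField A) Ω :=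
      Algebra.IsAlgebraic.trans (ResidueField A) (ResidueField V) Ω
    exact isReduced_of_injective (Algebra.TensorProduct.cancelBaseChange (ResidueField A)
      (ResidueField V) (ResidueField V) Ω (ResidueField B)) (AlgEquiv.injective _)
  haveI : IsArtinianRing T₀ := by
    haveI : IsArtinianRing (ResidueField B ⊗[ResidueField A] ResidueField V) :=
      IsArtinianRing.of_finite (ResidueField B) _
    exact (Algebra.TensorProduct.comm (ResidueField A) (ResidueField B)
      (ResidueField V)).surjective.isArtinianRing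
  haveI : Module.Finite T₀ F₀ := hf₀.finite_adjoinRoot
  haveI : IsArtinianRing F₀ := IsArtinianRing.of_finite T₀ F₀
  haveI : Algebra.IsGeometricallyReduced (ResidueField V) F₀ := by
    refine isGeometricallyReduced_adjoinRoot he w (IsUnit.mul ?_ ?_)
    · rw [← map_natCast (algebraMap (ResidueField A) T₀)]
      exact he'.isUnit.map _
    · have h := ((u.isUnit.map (residue V)).map
        (Algebra.TensorProduct.includeLeft : ResidueField V →ₐ[ResidueField A] T₀)).mul
        ((v⁻¹.isUnit.map (residue B)).map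
          (Algebra.TensorProduct.includeRight : ResidueField B →ₐ[ResidueField A] T₀))
      rwa [Algebra.TensorProduct.includeLeft_apply, Algebra.TensorProduct.includeRight_apply,
        Algebra.TensorProduct.tmul_mul_tmul, mul_one, one_mul] at h
  haveI : IsReduced F₀ :=
    Algebra.isReduced_of_isGeometricallyReduced (ResidueField V)
  -- the map to the residue field
  have hPnu : ¬ IsUnit (ψV π₁) := fun h => hπ₁.not_isUnit (isUnit_of_map_unit ψV _ h)
  let χ : F →+* ResidueField W :=
    Ideal.Quotient.lift _ ((residue W).comp R.subtype) fun r hr => by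
      obtain ⟨c, rfl⟩ := Ideal.mem_span_singleton.1 hr
      rw [map_mul, RingHom.comp_apply,
        show residue W (R.subtype P) = 0 from (residue_eq_zero_iff _).2 ((mem_maximalIdeal _).2 hPnu),
        zero_mul]
  let g₀ : F₀ →+* ResidueField W := χ.comp θ
  haveI : IsSemisimpleRing F₀ := IsArtinianRing.isSemisimpleRing_of_isReduced F₀
  obtain ⟨ε, hεi, hker⟩ := IsSemisimpleRing.ideal_eq_span_idempotent (RingHom.ker g₀)
  have hε0 : g₀ ε = 0 := by
    have : ε ∈ RingHom.ker g₀ := hker ▸ Ideal.mem_span_singleton_self ε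
    exact this
  obtain ⟨x', hx'⟩ := Ideal.Quotient.mk_surjective (θ (1 - ε))
  have hx'u : IsUnit (R.subtype x') := by
    rw [← residue_ne_zero_iff_isUnit]
    show χ (mk x') ≠ 0
    rw [hx']
    show g₀ (1 - ε) ≠ 0
    rw [map_sub, map_one, hε0, sub_zero]
    exact one_ne_zero
  have hkerdvd : ∀ r, ¬ IsUnit (R.subtype r) → P ∣ x' * r := fun r hr => by
    rw [← Ideal.mem_span_singleton, ← Ideal.Quotient.eq_zero_iff_mem, map_mul, hx']
    obtain ⟨f, hf⟩ := hθ (mk r)
    have : f ∈ RingHom.ker g₀ := by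
      rw [RingHom.mem_ker]
      show χ (θ f) = 0
      rw [hf]
      exact (residue_eq_zero_iff _).2 ((mem_maximalIdeal _).2 hr)
    rw [hker, Ideal.mem_span_singleton] at this
    obtain ⟨c, rfl⟩ := this
    show θ (1 - ε) * mk r = 0
    have hidem : (1 - ε) * ε = 0 := hεi.one_sub_mul_self
    rw [← hf, ← map_mul, ← mul_assoc, hidem, zero_mul, map_zero]
  have hfrac : ∀ y : M, ∃ a b : R, ((R.subtype b : W) : M) ≠ 0 ∧
      y * (R.subtype b : W) = (R.subtype a : W) := by
    refine EtRam26.frac_of_gen (W.subtype.comp R.subtype) _ ?_ hgen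
    rintro y (⟨b, rfl⟩ | ⟨c, rfl⟩)
    · exact ⟨bB b, 1, by simp, by simp; rfl⟩
    · exact ⟨bV c, 1, by simp, by simp; rfl⟩
  obtain ⟨hirr, hres⟩ := Ram24.uniformizer_of_fibre W R.subtype P
    (fun h => hπ₁.ne_zero ((map_eq_zero_iff ψV hψV).1 h)) hPnu x' hx'u hkerdvd hfrac
  refine ⟨?_, ?_⟩
  · show (maximalIdeal V).map ψV = maximalIdeal W
    rw [(IsDiscreteValuationRing.irreducible_iff_uniformizer π₁).mp hπ₁, Ideal.map_span,
      Set.image_singleton]
    exact ((IsDiscreteValuationRing.irreducible_iff_uniformizer _).mp hirr).symm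
  · letI : Algebra (ResidueField V) (ResidueField W) := (ResidueField.map ψV).toAlgebra
    let g : F₀ →ₐ[ResidueField V] ResidueField W :=
      { g₀ with
        commutes' := fun c => by
          obtain ⟨c, rfl⟩ := residue_surjective c
          show χ (θ (AdjoinRoot.of f₀ (residue V c ⊗ₜ 1))) = _
          rw [AdjoinRoot.lift_of]
          show χ (θ₀ (residue V c ⊗ₜ (1 : ResidueField B))) = _
          rw [Algebra.TensorProduct.lift_tmul, map_one, mul_one]
          rfl }
    refine isGeometricallyReduced_of_surjective g fun y => ?_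
    haveI : (RingHom.ker g₀).IsPrime := RingHom.ker_isPrime g₀
    haveI : (RingHom.ker g₀).IsMaximal := IsArtinianRing.isMaximal_of_isPrime _
    obtain ⟨y, rfl⟩ := residue_surjective y
    by_cases hy : IsUnit y
    · obtain ⟨r, s', hs, hrs⟩ := hres y hy
      obtain ⟨fr, hfr⟩ := hθ (mk r)
      obtain ⟨fs, hfs⟩ := hθ (mk s')
      have hgs : g₀ fs = residue W (R.subtype s') := congrArg χ hfs
      have hgs0 : fs ∉ RingHom.ker g₀ := by
        rw [RingHom.mem_ker, hgs]
        exact (residue_ne_zero_iff_isUnit _).2 hs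
      obtain ⟨fi, m, hm, hfi⟩ := Ideal.IsMaximal.exists_inv ‹_› hgs0
      refine ⟨fr * fi, ?_⟩
      show g₀ (fr * fi) = residue W y
      have h1 : g₀ fi * g₀ fs = 1 := by
        have := congrArg g₀ hfi
        rwa [map_add, map_mul, RingHom.mem_ker.1 hm, add_zero, map_one] at this
      have h2 : residue W y * g₀ fs = g₀ fr := by
        rw [hgs, ← map_mul, hrs]
        exact (congrArg χ hfr).symm
      rw [map_mul, ← h2, mul_assoc, mul_comm (g₀ fs), h1, mul_one]
    · exact ⟨0, (map_zero g).trans ((residue_eq_zero_iff _).2 ((mem_maximalIdeal _).2 hy)).symm⟩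

end Groth.Agent.EtAlg23.AbhLocal
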