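import Groth.Agent.Ram24.Dominated
import Groth.Agent.Dvr24.EF
import Groth.Agent.Ram24.RootCriteria
import Mathlib.FieldTheory.PurelyInseparable.Tower
import Mathlib.NumberTheory.RamificationInertia.Ramification

/-! Ramification index times inseparable residue degree, for valuation subrings over a DVR. -/

set_option autoImplicit false
set_option linter.style.haveILetI false
universe u

open IsLocalRing

namespace Groth.Agent.EtAlg23.RamTower

variable {A F : Type u} [CommRing A] [IsLocalRing A] [Field F] {g : A →+* F} {V : ValuationSubring F}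

/-- The map of a local ring into a dominating valuation subring. -/
def dmap (h : EtRam.Dominates A g V) : A →+* V := g.codRestrict V h.1

instance isLocalHom_dmap (h : EtRam.Dominates A g V) : IsLocalHom (dmap h) :=
  ⟨fun a ha => by
    by_contra hna
    exact ((ValuationSubring.valuation_lt_one_iff V (dmap h a)).mpr
      (h.2 a ((mem_maximalIdeal _).mpr hna))) ha⟩

/-- The ramification index times the inseparable degree of the residue extension. -/
noncomputable def ei (h : EtRam.Dominates A g V) : ℕ :=
  letI : Algebra A V := (dmap h).toAlgebra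
  haveI : IsLocalHom (algebraMap A V) := isLocalHom_dmap h
  Ideal.ramificationIdx' (maximalIdeal A) (maximalIdeal V) *
    Field.finInsepDegree (ResidueField A) (ResidueField V)

section Finite

variable {A K L : Type u} [CommRing A] [IsDomain A] [IsDiscreteValuationRing A] [Field K]
  [Algebra A K] [IsFractionRing A K] [Field L] [Algebra K L] [FiniteDimensional K L]

theorem dmap_injective {V : ValuationSubring L}
    (h : EtRam.Dominates A ((algebraMap K L).comp (algebraMap A K)) V) :
    Function.Injective (dmap h) := fun _ _ e =>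
  IsFractionRing.injective A K ((algebraMap K L).injective (congrArg Subtype.val e :))

theorem residue_finite {V : ValuationSubring L}
    (h : EtRam.Dominates A ((algebraMap K L).comp (algebraMap A K)) V) :
    letI : Algebra A V := (dmap h).toAlgebra
    haveI : IsLocalHom (algebraMap A V) := isLocalHom_dmap h
    Module.Finite (ResidueField A) (ResidueField V) := by
  haveI := Ram24.dvr_of_dominates (B := A) (L := K) V h
  letI : Algebra A V := (dmap h).toAlgebra
  haveI : IsLocalHom (algebraMap A V) := isLocalHom_dmap h
  letI : Algebra A L := ((algebraMap K L).comp (algebraMap A K)).toAlgebra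
  haveI : IsScalarTower A K L := .of_algebraMap_eq fun _ => rfl
  haveI : IsScalarTower A V L := .of_algebraMap_eq fun _ => rfl
  exact (Dvr24.finite_and_mul_le (A := A) (B := V) (K := K) (L := L) (dmap_injective h)).1

/-- Weak unramifiedness is `e = 1`. -/
theorem isWeaklyUnramified_iff {V : ValuationSubring L}
    (h : EtRam.Dominates A ((algebraMap K L).comp (algebraMap A K)) V) :
    letI : Algebra A V := (dmap h).toAlgebra
    EtRam.IsWeaklyUnramified A V ↔ Ideal.ramificationIdx' (maximalIdeal A) (maximalIdeal V) = 1 := by
  haveI := Ram24.dvr_of_dominates (B := A) (L := K) V h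
  letI : Algebra A V := (dmap h).toAlgebra
  haveI : IsLocalHom (algebraMap A V) := isLocalHom_dmap h
  obtain ⟨π, hπ⟩ := IsDiscreteValuationRing.exists_irreducible V
  obtain ⟨e, -, hmap, he⟩ := Dvr24.exists_map_maximalIdeal_eq (A := A) (B := V) (dmap_injective h) hπ
  rw [EtRam.IsWeaklyUnramified, he, hmap, (IsDiscreteValuationRing.irreducible_iff_uniformizer π).mp hπ]
  refine ⟨fun heq => ?_, fun h1 => by rw [h1, pow_one]⟩
  rw [Ideal.span_singleton_eq_span_singleton] at heq
  have h2 : π ^ e ∣ π ^ 1 := by rw [pow_one]; exact heq.dvd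
  have h3 : π ^ 1 ∣ π ^ e := by rw [pow_one]; exact heq.symm.dvd
  rw [pow_dvd_pow_iff hπ.ne_zero hπ.not_isUnit] at h2 h3
  omega

theorem isUnramifiedExt_iff :
    EtRam.IsUnramifiedExt A ((algebraMap K L).comp (algebraMap A K)) ↔
      ∀ (V : ValuationSubring L) (h : EtRam.Dominates A ((algebraMap K L).comp (algebraMap A K)) V),
        ei h = 1 := by
  refine forall_congr' fun V => forall_congr' fun h => ?_
  letI : Algebra A V := (dmap h).toAlgebra
  haveI : IsLocalHom (algebraMap A V) := isLocalHom_dmap h
  constructor
  · intro hV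
    obtain ⟨hw, hs⟩ := @hV (isLocalHom_dmap h)
    show _ * _ = 1
    rw [(isWeaklyUnramified_iff h).1 hw, one_mul]
    exact (isSeparable_iff_finInsepDegree_eq_one _ _).1 hs
  · intro he _
    obtain ⟨h1, h2⟩ := mul_eq_one.1 he
    exact ⟨(isWeaklyUnramified_iff h).2 h1, (isSeparable_iff_finInsepDegree_eq_one _ _).2 h2⟩

theorem isTamelyRamified_iff :
    EtRam.IsTamelyRamified A ((algebraMap K L).comp (algebraMap A K)) ↔
      ∀ (V : ValuationSubring L) (h : EtRam.Dominates A ((algebraMap K L).comp (algebraMap A K)) V),
        ∀ p : ℕ, p.Prime → CharP (ResidueField A) p → ¬ p ∣ ei h := by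
  refine forall_congr' fun V => forall_congr' fun h => ?_
  letI : Algebra A V := (dmap h).toAlgebra
  haveI : IsLocalHom (algebraMap A V) := isLocalHom_dmap h
  haveI := residue_finite h
  constructor
  · intro hV p hp hch hdvd
    obtain ⟨hs, he⟩ := @hV (isLocalHom_dmap h)
    change p ∣ _ * _ at hdvd
    have h1 := (isSeparable_iff_finInsepDegree_eq_one _ _).1 hs
    exact he p hp hch ((hdvd.trans (congrArg _ h1).dvd).trans (mul_one _).dvd)
  · intro he _
    refine ⟨(isSeparable_iff_finInsepDegree_eq_one _ _).2 ?_,
      fun p hp hch hdvd => he p hp hch (dvd_mul_of_dvd_left hdvd _)⟩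
    obtain ⟨q, hq⟩ := ExpChar.exists (ResidueField A)
    obtain ⟨n, hn⟩ := finInsepDegree_eq_pow (ResidueField A) (ResidueField V) q
    rcases hq with _ | hprime
    · exact hn.trans (one_pow n)
    · rename_i hch
      rcases n with _ | n
      · exact hn.trans (pow_zero q)
      · exact absurd (dvd_mul_of_dvd_right (hn ▸ dvd_pow_self q n.succ_ne_zero) _)
          (he q hprime hch)

end Finite

section Tower

variable {A K L M : Type u} [CommRing A] [IsDomain A] [IsDiscreteValuationRing A] [Field K]
  [Algebra A K] [IsFractionRing A K] [Field L] [Field M] [Algebra K L] [Algebra K M] [Algebra L M]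
  [IsScalarTower K L M] [FiniteDimensional K L] [FiniteDimensional L M]

omit [IsDomain A] [IsDiscreteValuationRing A] [IsFractionRing A K] [FiniteDimensional K L]
  [FiniteDimensional L M] in
theorem dominates_comap [IsLocalRing A] {W : ValuationSubring M}
    (h : EtRam.Dominates A ((algebraMap K M).comp (algebraMap A K)) W) :
    EtRam.Dominates A ((algebraMap K L).comp (algebraMap A K)) (W.comap (algebraMap L M)) := by
  have hc : ∀ a, algebraMap L M (((algebraMap K L).comp (algebraMap A K)) a) =
      ((algebraMap K M).comp (algebraMap A K)) a :=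
    fun a => (IsScalarTower.algebraMap_apply K L M _).symm
  have hmem : ∀ a, ((algebraMap K L).comp (algebraMap A K)) a ∈ W.comap (algebraMap L M) := fun a => by
    rw [ValuationSubring.mem_comap, hc]; exact h.1 a
  refine ⟨hmem, fun a ha => ?_⟩
  refine (ValuationSubring.valuation_lt_one_iff _ ⟨_, hmem a⟩).mp ?_
  rw [mem_maximalIdeal, mem_nonunits_iff,
    ← isUnit_map_iff (EtRam.inclOfComap W (algebraMap L M)), ← mem_nonunits_iff, ← mem_maximalIdeal,
    ValuationSubring.valuation_lt_one_iff W]
  simp only [EtRam.inclOfComap_apply_coe, hc]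
  exact h.2 a ha

omit [FiniteDimensional L M] in
theorem dominates_base (W : ValuationSubring M) :
    EtRam.Dominates (W.comap (algebraMap L M))
      ((algebraMap L M).comp (algebraMap (W.comap (algebraMap L M)) L)) W :=
  ⟨fun v => v.2, fun v hv => (ValuationSubring.valuation_lt_one_iff W
    (EtRam.inclOfComap W (algebraMap L M) v)).mp (map_nonunit _ v hv)⟩

omit [FiniteDimensional L M] in
theorem comap_eq_of_dominates {V : ValuationSubring L} {W : ValuationSubring M}
    (hW : EtRam.Dominates V ((algebraMap L M).comp (algebraMap V L)) W) :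
    W.comap (algebraMap L M) = V := by
  refine le_antisymm (fun x hx => ?_) fun x hx => hW.1 ⟨x, hx⟩
  by_contra hxV
  have hx' : x⁻¹ ∈ V := (V.mem_or_inv_mem x).resolve_left hxV
  have hnu : (⟨x⁻¹, hx'⟩ : V) ∈ maximalIdeal V := by
    rw [mem_maximalIdeal, mem_nonunits_iff]
    intro hu
    obtain ⟨c, hc⟩ := hu.exists_right_inv
    refine hxV ?_
    have h1 : x⁻¹ * (c : L) = 1 := congrArg Subtype.val hc
    have h2 : (c : L) = x := by rw [eq_inv_of_mul_eq_one_right h1, inv_inv]
    exact h2 ▸ c.2
  have hlt := hW.2 _ hnu
  have hle : W.valuation (algebraMap L M x) ≤ 1 := (W.valuation_le_one_iff _).mpr hx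
  have hx0 : x ≠ 0 := fun h0 => hxV (h0 ▸ V.zero_mem)
  have : W.valuation (algebraMap L M x) * W.valuation (((algebraMap L M).comp (algebraMap V L)) ⟨x⁻¹, hx'⟩) = 1 := by
    rw [← map_mul]
    show W.valuation (algebraMap L M x * algebraMap L M x⁻¹) = 1
    rw [← map_mul, mul_inv_cancel₀ hx0, map_one, map_one]
  have h4 := ((mul_le_mul_left hle (W.valuation
    (((algebraMap L M).comp (algebraMap V L)) ⟨x⁻¹, hx'⟩))).trans_eq (one_mul _)).trans_lt hlt
  exact h4.ne this

/-- Every dominating valuation subring extends. -/
theorem exists_over {V : ValuationSubring L}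
    (h : EtRam.Dominates A ((algebraMap K L).comp (algebraMap A K)) V) :
    ∃ W : ValuationSubring M, EtRam.Dominates A ((algebraMap K M).comp (algebraMap A K)) W ∧
      W.comap (algebraMap L M) = V := by
  haveI := Ram24.dvr_of_dominates (B := A) (L := K) V h
  letI : Algebra V M := ((algebraMap L M).comp (algebraMap V L)).toAlgebra
  haveI : IsScalarTower V L M := .of_algebraMap_eq fun _ => rfl
  obtain ⟨W, hW⟩ := Ram24.exists_dominates V L (L := M)
  refine ⟨W, ?_, comap_eq_of_dominates hW⟩
  have hc : ∀ a, ((algebraMap K M).comp (algebraMap A K)) a =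
      ((algebraMap L M).comp (algebraMap V L)) (dmap h a) := fun a =>
    IsScalarTower.algebraMap_apply K L M _
  exact ⟨fun a => hc a ▸ hW.1 _, fun a ha => hc a ▸ hW.2 _ (map_nonunit (dmap h) a ha)⟩

/-- Multiplicativity. -/
theorem ei_tower {W : ValuationSubring M}
    (h : EtRam.Dominates A ((algebraMap K M).comp (algebraMap A K)) W) :
    ei h = ei (dominates_comap (L := L) h) * ei (dominates_base (L := L) W) := by
  haveI : FiniteDimensional K M := FiniteDimensional.trans K L M
  let V := W.comap (algebraMap L M)
  let hV := dominates_comap (L := L) h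
  let hW := dominates_base (L := L) W
  haveI := Ram24.dvr_of_dominates (B := A) (L := K) W h
  haveI := Ram24.dvr_of_dominates (B := A) (L := K) V hV
  letI : Algebra A V := (dmap hV).toAlgebra
  haveI : IsLocalHom (algebraMap A V) := isLocalHom_dmap hV
  letI : Algebra V W := (dmap hW).toAlgebra
  haveI : IsLocalHom (algebraMap V W) := isLocalHom_dmap hW
  letI : Algebra A W := (dmap h).toAlgebra
  haveI : IsLocalHom (algebraMap A W) := isLocalHom_dmap h
  haveI : IsScalarTower A V W := .of_algebraMap_eq fun a =>
    Subtype.ext (IsScalarTower.algebraMap_apply K L M _)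
  haveI := residue_finite hV
  show _ * _ = _ * _ * (_ * _)
  rw [← Field.finInsepDegree_mul_finInsepDegree_of_isAlgebraic (ResidueField A) (ResidueField V)
    (ResidueField W)]
  have he : Ideal.ramificationIdx' (maximalIdeal A) (maximalIdeal W) =
      Ideal.ramificationIdx' (maximalIdeal A) (maximalIdeal V) *
        Ideal.ramificationIdx' (maximalIdeal V) (maximalIdeal W) := by
    refine Ideal.ramificationIdx'_algebra_tower ?_ ?_ ?_
    · exact (Ideal.map_eq_bot_iff_of_injective (dmap_injective (A := V) (K := L) hW)).not.mpr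
        (IsDiscreteValuationRing.not_a_field V)
    · exact (Ideal.map_eq_bot_iff_of_injective (dmap_injective (A := A) (K := K) h)).not.mpr
        (IsDiscreteValuationRing.not_a_field A)
    · exact Ideal.map_le_iff_le_comap.mpr fun x hx => map_nonunit (algebraMap V W) x hx
  rw [he]
  exact mul_mul_mul_comm _ _ _ _

end Tower

end Groth.Agent.EtAlg23.RamTower
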