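import Groth.Agent.EtAlg23.RamTower
import Groth.Agent.Ram24.SmoothBase
import Mathlib.RingTheory.Valuation.LocalSubring
import Mathlib.RingTheory.Flat.TorsionFree
import Mathlib.RingTheory.Ideal.GoingDown
import Mathlib.RingTheory.TensorProduct.Basic
import Mathlib.FieldTheory.IsAlgClosed.AlgebraicClosure

/-! Lifting dominating valuation subrings along an extension of discrete valuation rings. -/

set_option autoImplicit false
set_option linter.style.haveILetI false
universe u

open IsLocalRing TensorProduct

namespace Groth.Agent.EtAlg23.SolutionTower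

/-- If `W` dominates `B` in a finite extension `M` of `Frac B`, and `B → C` is an extension of
discrete valuation rings, then `M` and `Frac C` have a compositum with a valuation subring
dominating both `W` and `C`. -/
theorem exists_compositum {B C L M₀ M : Type u} [CommRing B] [IsDomain B] [IsDiscreteValuationRing B]
    [CommRing C] [IsDomain C] [IsDiscreteValuationRing C] [Algebra B C] [IsLocalHom (algebraMap B C)]
    (hinj : Function.Injective (algebraMap B C))
    [Field L] [Algebra B L] [IsFractionRing B L] [Field M₀] [Algebra C M₀] [IsFractionRing C M₀]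
    [Algebra L M₀] [Algebra B M₀] [IsScalarTower B C M₀] [IsScalarTower B L M₀]
    [Field M] [Algebra L M] [FiniteDimensional L M] (W : ValuationSubring M)
    (hW : EtRam.Dominates B ((algebraMap L M).comp (algebraMap B L)) W) :
    ∃ (M' : Type u) (_ : Field M') (g : M →+* M') (h : M₀ →+* M') (W' : ValuationSubring M'),
      g.comp (algebraMap L M) = h.comp (algebraMap L M₀) ∧
      EtRam.Dominates C (h.comp (algebraMap C M₀)) W' ∧ W'.comap g = W ∧
      ∀ S : Subfield M', (∀ x, g x ∈ S) → (∀ x, h x ∈ S) → ∀ y, y ∈ S := by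
  letI : Algebra B W := (RamTower.dmap hW).toAlgebra
  haveI : IsLocalHom (algebraMap B W) := RamTower.isLocalHom_dmap hW
  haveI : Module.Finite (ResidueField B) (ResidueField W) := RamTower.residue_finite hW
  haveI : Module.IsTorsionFree B C := (Module.isTorsionFree_iff_algebraMap_injective ..).2 hinj
  haveI : Module.Flat B C := inferInstance
  let Ω := AlgebraicClosure (ResidueField C)
  let ψ : ResidueField W →ₐ[ResidueField B] Ω := IsAlgClosed.lift
  have hψ : ∀ b : B, ψ (residue W (algebraMap B W b)) = algebraMap B Ω b := fun b => by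
    rw [← ResidueField.algebraMap_eq W, ← IsScalarTower.algebraMap_apply B W (ResidueField W),
      IsScalarTower.algebraMap_apply B (ResidueField B) (ResidueField W), AlgHom.commutes,
      IsScalarTower.algebraMap_apply (ResidueField B) (ResidueField C) Ω,
      ← IsScalarTower.algebraMap_apply B (ResidueField B) (ResidueField C),
      ← IsScalarTower.algebraMap_apply B (ResidueField C) Ω]
  let f₁ : W →ₐ[B] Ω := { (ψ.toRingHom.comp (residue W)) with commutes' := hψ }
  let φ : W ⊗[B] C →ₐ[B] Ω :=
    Algebra.TensorProduct.lift f₁ (IsScalarTower.toAlgHom B C Ω) fun _ _ => Commute.all _ _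
  let q := RingHom.ker φ.toRingHom
  haveI : q.IsPrime := RingHom.ker_isPrime _
  have hqW : ∀ w : W, algebraMap W (W ⊗[B] C) w ∈ q ↔ w ∈ maximalIdeal W := fun w => by
    show φ (w ⊗ₜ[B] (1 : C)) = 0 ↔ _
    rw [Algebra.TensorProduct.lift_tmul, map_one, mul_one]
    show ψ (residue W w) = 0 ↔ _
    rw [map_eq_zero, residue_eq_zero_iff]
  have hqC : ∀ c ∈ maximalIdeal C, (Algebra.TensorProduct.includeRight : C →ₐ[B] W ⊗[B] C) c ∈ q :=
    fun c hc => by
      show φ ((1 : W) ⊗ₜ[B] c) = 0
      rw [Algebra.TensorProduct.lift_tmul, map_one, one_mul, IsScalarTower.coe_toAlgHom',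
        IsScalarTower.algebraMap_apply C (ResidueField C) Ω, ResidueField.algebraMap_eq,
        (residue_eq_zero_iff c).2 hc, map_zero]
  haveI : q.LiesOver (maximalIdeal W) := ⟨Ideal.ext fun w => (hqW w).symm⟩
  haveI : (⊥ : Ideal W).IsPrime := Ideal.isPrime_bot
  obtain ⟨q₀, hle, hq₀, hq₀W⟩ :=
    Ideal.exists_ideal_le_liesOver_of_le (p := (⊥ : Ideal W)) (q := maximalIdeal W) q bot_le
  let M' := FractionRing ((W ⊗[B] C) ⧸ q₀)
  let ι : W ⊗[B] C →+* M' :=
    (algebraMap ((W ⊗[B] C) ⧸ q₀) M').comp (Ideal.Quotient.mk q₀)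
  have hι : ∀ t, ι t = 0 ↔ t ∈ q₀ := fun t => by
    rw [RingHom.comp_apply, map_eq_zero_iff _ (IsFractionRing.injective _ M'),
      Ideal.Quotient.eq_zero_iff_mem]
  let gW : W →+* M' := ι.comp (algebraMap W (W ⊗[B] C))
  have hgW : Function.Injective gW := (injective_iff_map_eq_zero gW).2 fun w hw => by
    have : w ∈ q₀.under W := (hι _).1 hw
    rwa [← hq₀W.over, Ideal.mem_bot] at this
  let gC : C →+* M' := ι.comp (Algebra.TensorProduct.includeRight : C →ₐ[B] W ⊗[B] C).toRingHom
  have hWC : ∀ b : B, gW (algebraMap B W b) = gC (algebraMap B C b) := fun b => by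
    show ι _ = ι (Algebra.TensorProduct.includeRight (algebraMap B C b))
    rw [AlgHom.commutes, IsScalarTower.algebraMap_apply B W (W ⊗[B] C)]
  have hgC : Function.Injective gC := (injective_iff_map_eq_zero gC).2 fun c hc => by
    by_contra hc0
    obtain ⟨ϖ, hϖ⟩ := IsDiscreteValuationRing.exists_irreducible C
    obtain ⟨n, v, rfl⟩ := IsDiscreteValuationRing.eq_unit_mul_pow_irreducible hc0 hϖ
    rw [map_mul, map_pow, mul_eq_zero, or_iff_right (v.isUnit.map gC).ne_zero] at hc
    have hϖ0 : gC ϖ = 0 := eq_zero_of_pow_eq_zero hc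
    obtain ⟨π, hπ⟩ := IsDiscreteValuationRing.exists_irreducible B
    have hmem : algebraMap B C π ∈ maximalIdeal C :=
      map_nonunit (algebraMap B C) π ((mem_maximalIdeal _).2 hπ.not_isUnit)
    rw [(IsDiscreteValuationRing.irreducible_iff_uniformizer ϖ).1 hϖ,
      Ideal.mem_span_singleton] at hmem
    obtain ⟨d, hd⟩ := hmem
    have h0 : gW (algebraMap B W π) = 0 := by rw [hWC, hd, map_mul, hϖ0, zero_mul]
    rw [map_eq_zero_iff _ hgW,
      map_eq_zero_iff (algebraMap B W) (RamTower.dmap_injective (A := B) (K := L) hW)] at h0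
    exact hπ.ne_zero h0
  let g : M →+* M' := IsFractionRing.lift hgW
  let h : M₀ →+* M' := IsFractionRing.lift hgC
  have hg : ∀ w : W, g (w : M) = gW w := fun w => IsFractionRing.lift_algebraMap hgW w
  have hh : ∀ c : C, h (algebraMap C M₀ c) = gC c := fun c => IsFractionRing.lift_algebraMap hgC c
  have hL : g.comp (algebraMap L M) = h.comp (algebraMap L M₀) := by
    refine IsLocalization.ringHom_ext (nonZeroDivisors B) (RingHom.ext fun b => ?_)
    show g (((RamTower.dmap hW b : W) : M)) = h (algebraMap L M₀ (algebraMap B L b))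
    rw [← IsScalarTower.algebraMap_apply B L M₀, IsScalarTower.algebraMap_apply B C M₀, hh, hg]
    exact hWC b
  -- the valuation subring
  let I : Ideal ι.range := q.map ι.rangeRestrict
  have hI : I ≠ ⊤ := fun htop => by
    have h1 := Ideal.comap_map_of_surjective ι.rangeRestrict ι.rangeRestrict_surjective q
    rw [show q.map ι.rangeRestrict = ⊤ from htop, Ideal.comap_top] at h1
    refine (inferInstance : q.IsPrime).ne_top ?_
    rw [h1, eq_comm, sup_eq_left]
    exact fun t ht => hle ((hι t).1 (congrArg Subtype.val ht))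
  obtain ⟨W', hle', hnu⟩ := Ideal.image_subset_nonunits_valuationSubring I hI
  have hmem : ∀ t, ι t ∈ W' := fun t => hle' ⟨t, rfl⟩
  have hlt : ∀ t ∈ q, W'.valuation (ι t) < 1 := fun t ht =>
    (ValuationSubring.mem_nonunits_iff W').1
      (hnu ⟨ι.rangeRestrict t, Ideal.mem_map_of_mem _ ht, rfl⟩)
  refine ⟨M', inferInstance, g, h, W', hL, ⟨fun c => ?_, fun c hc => ?_⟩, ?_, ?_⟩
  · rw [RingHom.comp_apply, hh]; exact hmem _
  · rw [RingHom.comp_apply, hh]; exact hlt _ (hqC c hc)
  · letI : Algebra M M' := g.toAlgebra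
    refine RamTower.comap_eq_of_dominates (L := M) (M := M') (V := W) ⟨fun w => ?_, fun w hw => ?_⟩
    · show g (w : M) ∈ W'
      rw [hg]; exact hmem _
    · show W'.valuation (g (w : M)) < 1
      rw [hg]; exact hlt _ ((hqW w).2 hw)
  · intro S hSg hSh y
    have hT : ∀ t, ι t ∈ S := fun t => by
      induction t using TensorProduct.induction_on with
      | zero => rw [map_zero]; exact S.zero_mem
      | tmul w c =>
        have e : w ⊗ₜ[B] c = algebraMap W (W ⊗[B] C) w *
            (Algebra.TensorProduct.includeRight : C →ₐ[B] W ⊗[B] C) c := by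
          simp [Algebra.TensorProduct.algebraMap_apply]
        rw [e, map_mul]
        refine S.mul_mem ?_ ?_
        · exact (hg w) ▸ hSg _
        · exact (hh c) ▸ hSh _
      | add x y hx hy => rw [map_add]; exact S.add_mem hx hy
    obtain ⟨a, b, -, rfl⟩ := IsFractionRing.div_surjective (A := (W ⊗[B] C) ⧸ q₀) y
    obtain ⟨a, rfl⟩ := Ideal.Quotient.mk_surjective a
    obtain ⟨b, rfl⟩ := Ideal.Quotient.mk_surjective b
    exact S.div_mem (hT a) (hT b)

/-- Weak unramifiedness descends along a dominating extension. -/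
theorem weaklyUnramified_descends {K₁ M M' : Type u} [Field K₁] [Field M] [Field M'] (f : K₁ →+* M)
    (g : M →+* M') (W' : ValuationSubring M') [IsDiscreteValuationRing W']
    [IsDiscreteValuationRing (W'.comap g)]
    (h : letI : Algebra (W'.comap (g.comp f)) W' := (EtRam.inclOfComap W' (g.comp f)).toAlgebra
      EtRam.IsWeaklyUnramified (W'.comap (g.comp f)) W') :
    letI : Algebra ((W'.comap g).comap f) (W'.comap g) :=
      (EtRam.inclOfComap (W'.comap g) f).toAlgebra
    EtRam.IsWeaklyUnramified ((W'.comap g).comap f) (W'.comap g) := by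
  let i := EtRam.inclOfComap (W'.comap g) f
  let j := EtRam.inclOfComap W' g
  have h' : ((maximalIdeal ((W'.comap g).comap f)).map i).map j = maximalIdeal W' := by
    rw [Ideal.map_map]
    exact h
  show (maximalIdeal ((W'.comap g).comap f)).map i = maximalIdeal (W'.comap g)
  set I := (maximalIdeal ((W'.comap g).comap f)).map i
  have hIle : I ≤ maximalIdeal (W'.comap g) :=
    Ideal.map_le_iff_le_comap.2 fun x hx => map_nonunit i x hx
  by_contra hne
  have hjm : (maximalIdeal (W'.comap g)).map j ≤ maximalIdeal W' :=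
    Ideal.map_le_iff_le_comap.2 fun x hx => map_nonunit j x hx
  have hI2 : I ≤ maximalIdeal (W'.comap g) ^ 2 := by
    rcases eq_or_ne I ⊥ with h0 | h0
    · rw [h0]; exact bot_le
    obtain ⟨π, hπ⟩ := IsDiscreteValuationRing.exists_irreducible (W'.comap g)
    obtain ⟨n, hn⟩ := IsDiscreteValuationRing.ideal_eq_span_pow_irreducible h0 hπ
    have hm : maximalIdeal (W'.comap g) = Ideal.span {π} :=
      (IsDiscreteValuationRing.irreducible_iff_uniformizer π).1 hπ
    rw [hn, ← Ideal.span_singleton_pow, ← hm] at hIle hne ⊢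
    match n with
    | 0 =>
      rw [pow_zero, Ideal.one_eq_top, top_le_iff] at hIle
      exact absurd hIle (maximalIdeal.isMaximal _).ne_top
    | 1 => exact absurd (pow_one _) hne
    | n + 2 => exact Ideal.pow_le_pow_right (by omega)
  have h2 : maximalIdeal W' ≤ maximalIdeal W' ^ 2 := by
    calc maximalIdeal W' = I.map j := h'.symm
      _ ≤ (maximalIdeal (W'.comap g) ^ 2).map j := Ideal.map_mono hI2
      _ = ((maximalIdeal (W'.comap g)).map j) ^ 2 := Ideal.map_pow _ _ _
      _ ≤ maximalIdeal W' ^ 2 := Ideal.pow_right_mono hjm 2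
  obtain ⟨ϖ, hϖ⟩ := IsDiscreteValuationRing.exists_irreducible W'
  rw [(IsDiscreteValuationRing.irreducible_iff_uniformizer ϖ).1 hϖ, Ideal.span_singleton_pow,
    Ideal.span_singleton_le_span_singleton] at h2
  have h3 : ϖ ^ 2 ∣ ϖ ^ 1 := by rwa [pow_one]
  rw [pow_dvd_pow_iff hϖ.ne_zero hϖ.not_isUnit] at h3
  omega

/-- Separability of the residue extension descends along a dominating extension. -/
theorem isGeometricallyReduced_descends {K₁ M M' : Type u} [Field K₁] [Field M] [Field M']
    (f : K₁ →+* M) (g : M →+* M') (W' : ValuationSubring M')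
    (h : @Algebra.IsGeometricallyReduced (ResidueField (W'.comap (g.comp f))) (ResidueField W') _ _
      (ResidueField.map (EtRam.inclOfComap W' (g.comp f))).toAlgebra) :
    @Algebra.IsGeometricallyReduced (ResidueField ((W'.comap g).comap f))
      (ResidueField (W'.comap g)) _ _
      (ResidueField.map (EtRam.inclOfComap (W'.comap g) f)).toAlgebra := by
  letI := (ResidueField.map (EtRam.inclOfComap (W'.comap g) f)).toAlgebra
  letI : Algebra (ResidueField ((W'.comap g).comap f)) (ResidueField W') :=
    (ResidueField.map (EtRam.inclOfComap W' (g.comp f))).toAlgebra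
  haveI : Algebra.IsGeometricallyReduced (ResidueField ((W'.comap g).comap f)) (ResidueField W') := h
  refine Algebra.IsGeometricallyReduced.of_injective
    { ResidueField.map (EtRam.inclOfComap W' g) with commutes' := fun r => ?_ }
    (RingHom.injective (ResidueField.map (EtRam.inclOfComap W' g)))
  obtain ⟨r, rfl⟩ := residue_surjective r
  rfl

end Groth.Agent.EtAlg23.SolutionTower
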