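import Groth.Prelude.Def_EtGlue
import Mathlib.LinearAlgebra.TensorProduct.RightExactness
import Mathlib.LinearAlgebra.DirectSum.Finsupp
import Mathlib.LinearAlgebra.Finsupp.LinearCombination
import Mathlib.RingTheory.Localization.Module
import Mathlib.Tactic.LinearCombination
import Mathlib.Tactic.Abel

set_option autoImplicit false
set_option linter.style.haveILetI false
universe u

open TensorProduct

namespace Groth.Agent.EtAlg23

variable {R R' : Type u} [CommRing R] [CommRing R'] [Algebra R R'] {f : R}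

theorem quot_surj (hq : EtGlue.QuotPowBijective R R' f) (n : ℕ) (r' : R') :
    ∃ (r : R) (x : R'), r' = algebraMap R R' r + f ^ n • x := by
  rcases Nat.eq_zero_or_pos n with rfl | hn
  · exact ⟨0, r', by simp⟩
  obtain ⟨q, hq'⟩ := (hq n hn).2 (Ideal.Quotient.mk _ r')
  obtain ⟨r, rfl⟩ := Ideal.Quotient.mk_surjective q
  rw [Ideal.quotientMap_mk, Ideal.Quotient.mk_eq_mk_iff_sub_mem, Ideal.map_span,
    Set.image_singleton, Ideal.mem_span_singleton] at hq'
  obtain ⟨c, hc⟩ := hq'
  refine ⟨r, -c, ?_⟩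
  rw [Algebra.smul_def]
  linear_combination -hc

theorem quot_inj (hq : EtGlue.QuotPowBijective R R' f) (n : ℕ) {r : R} {x : R'}
    (h : algebraMap R R' r = f ^ n • x) : ∃ s : R, r = f ^ n * s := by
  rcases Nat.eq_zero_or_pos n with rfl | hn
  · exact ⟨r, by simp⟩
  have : Ideal.Quotient.mk (Ideal.span {f ^ n}) r = 0 := by
    refine (hq n hn).1 ?_
    rw [map_zero, Ideal.quotientMap_mk, Ideal.Quotient.eq_zero_iff_mem, Ideal.map_span,
      Set.image_singleton, Ideal.mem_span_singleton, h, Algebra.smul_def]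
    exact dvd_mul_right _ _
  exact Ideal.mem_span_singleton.1 (Ideal.Quotient.eq_zero_iff_mem.1 this)

theorem tensor_decomp (hq : EtGlue.QuotPowBijective R R' f) (n : ℕ) {M : Type*} [AddCommGroup M]
    [Module R M] (z : R' ⊗[R] M) : ∃ (m : M) (y : R' ⊗[R] M), z = 1 ⊗ₜ[R] m + f ^ n • y := by
  induction z using TensorProduct.induction_on with
  | zero => exact ⟨0, 0, by simp⟩
  | tmul r' m =>
    obtain ⟨r, x, rfl⟩ := quot_surj hq n r'
    exact ⟨r • m, x ⊗ₜ[R] m, by
      rw [TensorProduct.add_tmul, Algebra.algebraMap_eq_smul_one, TensorProduct.smul_tmul,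
        TensorProduct.smul_tmul']⟩
  | add a b ha hb =>
    obtain ⟨m₁, y₁, rfl⟩ := ha
    obtain ⟨m₂, y₂, rfl⟩ := hb
    exact ⟨m₁ + m₂, y₁ + y₂, by rw [TensorProduct.tmul_add, smul_add]; abel⟩

/-- For a power torsion module the map `m ↦ 1 ⊗ m` is bijective. -/
theorem mk_bijective_of_torsion (hq : EtGlue.QuotPowBijective R R' f) {M : Type*} [AddCommGroup M]
    [Module R M] (hM : ∀ m : M, ∃ n : ℕ, f ^ n • m = 0) :
    Function.Bijective (TensorProduct.mk R R' M 1) := by
  have indep : ∀ (r' : R') (m : M) (n k : ℕ) (r s : R) (x y : R'), f ^ n • m = 0 → f ^ k • m = 0 →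
      r' = algebraMap R R' r + f ^ n • x → r' = algebraMap R R' s + f ^ k • y → r • m = s • m := by
    intro r' m n k r s x y hn hk hr hs
    wlog hle : n ≤ k generalizing n k r s x y with H
    · exact (H k n s r y x hk hn hs hr (le_of_not_ge hle)).symm
    obtain ⟨d, rfl⟩ := Nat.exists_eq_add_of_le hle
    obtain ⟨t, ht⟩ := quot_inj hq n (r := r - s) (x := f ^ d • y - x) (by
      rw [map_sub, smul_sub, smul_smul, ← pow_add]
      linear_combination hs - hr)
    rw [← sub_eq_zero, ← sub_smul, ht, mul_comm, mul_smul, hn, smul_zero]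
  choose N hN using hM
  choose ρ ξ hρ using fun (r' : R') (m : M) => quot_surj hq (N m) r'
  have hval : ∀ (r' : R') (m : M) (n : ℕ) (r : R) (x : R'), f ^ n • m = 0 →
      r' = algebraMap R R' r + f ^ n • x → ρ r' m • m = r • m :=
    fun r' m n r x hn hr => indep r' m _ n _ r _ x (hN m) hn (hρ r' m) hr
  let φ : R' →ₗ[R] M →ₗ[R] M := LinearMap.mk₂ R (fun r' m => ρ r' m • m)
    (fun a b m => by
      rw [hval (a + b) m (N m) (ρ a m + ρ b m) (ξ a m + ξ b m) (hN m) (by
        rw [map_add, smul_add]; linear_combination hρ a m + hρ b m), add_smul])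
    (fun c a m => by
      rw [hval (c • a) m (N m) (c * ρ a m) (c • ξ a m) (hN m) (by
        simp only [Algebra.smul_def, map_mul] at *
        linear_combination (algebraMap R R' c) * hρ a m), mul_smul])
    (fun a m₁ m₂ => by
      let n := N m₁ + N m₂
      have h₁ : f ^ n • m₁ = 0 := by rw [pow_add, mul_comm, mul_smul, hN, smul_zero]
      have h₂ : f ^ n • m₂ = 0 := by rw [pow_add, mul_smul, hN, smul_zero]
      obtain ⟨r, x, hr⟩ := quot_surj hq n a
      rw [hval a _ n r x (by rw [smul_add, h₁, h₂, add_zero]) hr, hval a m₁ n r x h₁ hr,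
        hval a m₂ n r x h₂ hr, smul_add])
    (fun c a m => by
      rw [hval a (c • m) (N m) (ρ a m) (ξ a m) (by rw [smul_comm, hN, smul_zero]) (hρ a m),
        smul_comm])
  refine ⟨fun a b hab => ?_, fun z => ?_⟩
  · have h := congrArg (TensorProduct.lift φ) hab
    simp only [TensorProduct.mk_apply, TensorProduct.lift.tmul, φ, LinearMap.mk₂_apply] at h
    rwa [hval 1 a (N a) 1 0 (hN a) (by simp), hval 1 b (N b) 1 0 (hN b) (by simp), one_smul,
      one_smul] at h
  · induction z using TensorProduct.induction_on with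
    | zero => exact ⟨0, map_zero _⟩
    | tmul r' m =>
      obtain ⟨r, x, rfl⟩ := quot_surj hq (N m) r'
      refine ⟨r • m, ?_⟩
      rw [TensorProduct.mk_apply, TensorProduct.add_tmul, Algebra.algebraMap_eq_smul_one,
        TensorProduct.smul_tmul, TensorProduct.smul_tmul (f ^ N m), hN, TensorProduct.tmul_zero, add_zero]
    | add a b ha hb =>
      obtain ⟨m₁, rfl⟩ := ha
      obtain ⟨m₂, rfl⟩ := hb
      exact ⟨m₁ + m₂, map_add _ _ _⟩

theorem tensor_quot_inj (hq : EtGlue.QuotPowBijective R R' f) (n : ℕ) {M : Type*} [AddCommGroup M]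
    [Module R M] {m : M} {y : R' ⊗[R] M} (h : (1 : R') ⊗ₜ[R] m = f ^ n • y) :
    ∃ m' : M, m = f ^ n • m' := by
  let S : Submodule R M := LinearMap.range (LinearMap.lsmul R M (f ^ n))
  have htor : ∀ q : M ⧸ S, ∃ k : ℕ, f ^ k • q = 0 := fun q => by
    obtain ⟨v, rfl⟩ := Submodule.Quotient.mk_surjective S q
    exact ⟨n, (Submodule.Quotient.mk_eq_zero S).2 ⟨v, rfl⟩⟩
  have h0 : Submodule.Quotient.mk (p := S) m = 0 := by
    refine (mk_bijective_of_torsion hq htor).1 ?_
    rw [map_zero, TensorProduct.mk_apply]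
    have := congrArg (S.mkQ.lTensor R') h
    rw [map_smul, LinearMap.lTensor_tmul, Submodule.mkQ_apply] at this
    rw [this]
    obtain ⟨v, hv⟩ := (mk_bijective_of_torsion hq htor).2 (S.mkQ.lTensor R' y)
    obtain ⟨v, rfl⟩ := Submodule.Quotient.mk_surjective S v
    rw [← hv, ← map_smul, ← Submodule.Quotient.mk_smul,
      (Submodule.Quotient.mk_eq_zero S).2 (show f ^ n • v ∈ S from ⟨v, rfl⟩), map_zero]
  obtain ⟨v, hv⟩ := (Submodule.Quotient.mk_eq_zero S).1 h0
  exact ⟨v, hv.symm⟩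

section Square

variable {M L M' L' : Type*} [AddCommGroup M] [Module R M] [AddCommGroup L] [Module R L]
  [AddCommGroup M'] [Module R M'] [AddCommGroup L'] [Module R L']
  (u : M →ₗ[R] M') (v : L →ₗ[R] L') (j : M →ₗ[R] L) (j' : M' →ₗ[R] L')
  [IsLocalizedModule (Submonoid.powers f) j] [IsLocalizedModule (Submonoid.powers f) j']

omit [Algebra R R'] in
theorem loc_eq_zero_iff {m : M} : j m = 0 ↔ ∃ n : ℕ, f ^ n • m = 0 := by
  rw [IsLocalizedModule.eq_zero_iff (Submonoid.powers f) j]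
  exact ⟨fun ⟨⟨_, n, rfl⟩, h⟩ => ⟨n, h⟩, fun ⟨n, h⟩ => ⟨⟨_, n, rfl⟩, h⟩⟩

include j in
theorem loc_pow_inj (n : ℕ) {a b : L} (h : f ^ n • a = f ^ n • b) : a = b :=
  ((Module.End.isUnit_iff _).1 (IsLocalizedModule.map_units j (⟨f ^ n, n, rfl⟩ : Submonoid.powers f))).1 h

theorem loc_surj (y : L) : ∃ (n : ℕ) (m : M), f ^ n • y = j m := by
  obtain ⟨⟨m, ⟨_, n, rfl⟩⟩, h⟩ := IsLocalizedModule.surj (Submonoid.powers f) j y
  exact ⟨n, m, h⟩

/-- Exactness of the glueing sequence is bijectivity on the power torsion. -/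
theorem square_iff (hcomm : ∀ m, v (j m) = j' (u m))
    (hsurj : ∀ (n : ℕ) (m : M) (y : M'), u m = f ^ n • y → ∃ m' : M, m = f ^ n • m') :
    (Function.Injective (fun m => (u m, j m)) ∧
      ∀ (x : M') (y : L), j' x = v y → ∃ m : M, u m = x ∧ j m = y) ↔
    ((∀ m : M, (∃ n : ℕ, f ^ n • m = 0) → u m = 0 → m = 0) ∧
      ∀ x : M', (∃ n : ℕ, f ^ n • x = 0) → ∃ m : M, (∃ n : ℕ, f ^ n • m = 0) ∧ u m = x) := by
  constructor
  · rintro ⟨hi, hm⟩
    refine ⟨fun m hm' h => hi (by simp [h, (loc_eq_zero_iff (f := f) j).2 hm']), fun x hx => ?_⟩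
    obtain ⟨m, h₁, h₂⟩ := hm x 0 (by rw [map_zero]; exact (loc_eq_zero_iff (f := f) j').2 hx)
    exact ⟨m, (loc_eq_zero_iff (f := f) j).1 h₂, h₁⟩
  · rintro ⟨hi, hs⟩
    refine ⟨fun a b hab => ?_, fun x y hxy => ?_⟩
    · simp only [Prod.mk.injEq] at hab
      rw [← sub_eq_zero]
      exact hi _ ((loc_eq_zero_iff (f := f) j).1 (by rw [map_sub, hab.2, sub_self]))
        (by rw [map_sub, hab.1, sub_self])
    · obtain ⟨n, m₀, hm₀⟩ := loc_surj (f := f) j y
      have h0 : j' (f ^ n • x - u m₀) = 0 := by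
        rw [map_sub, map_smul, hxy, ← map_smul, hm₀, hcomm, sub_self]
      obtain ⟨k, hk⟩ := (loc_eq_zero_iff (f := f) j').1 h0
      rw [smul_sub, smul_smul, ← pow_add, sub_eq_zero, ← map_smul] at hk
      obtain ⟨m₁, hm₁⟩ := hsurj _ _ _ hk.symm
      have hj : j m₁ = y := by
        refine loc_pow_inj (f := f) j (k + n) ?_
        rw [← map_smul, ← hm₁, map_smul, ← hm₀, smul_smul, ← pow_add]
      obtain ⟨t, ht, htx⟩ := hs (x - u m₁) ⟨k + n, by rw [smul_sub, hk, ← map_smul, ← hm₁, sub_self]⟩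
      refine ⟨m₁ + t, by rw [map_add, htx]; abel, ?_⟩
      rw [map_add, hj, (loc_eq_zero_iff (f := f) j).2 ht, add_zero]

end Square

theorem isGlueable_iff (hq : EtGlue.QuotPowBijective R R' f) (M : Type u) [AddCommGroup M]
    [Module R M] :
    EtGlue.IsGlueable R R' f M ↔
      ((∀ m : M, (∃ n : ℕ, f ^ n • m = 0) → (1 : R') ⊗ₜ[R] m = 0 → m = 0) ∧
       (∀ x : R' ⊗[R] M, (∃ n : ℕ, f ^ n • x = 0) →
          ∃ m : M, (∃ n : ℕ, f ^ n • m = 0) ∧ (1 : R') ⊗ₜ[R] m = x)) := by
  have hc : ∀ m : M, EtGlue.tensorOfLoc R R' f M (LocalizedModule.mkLinearMap (Submonoid.powers f) M m) =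
      EtGlue.locOfTensor R R' f M (TensorProduct.mk R R' M 1 m) :=
    fun m => IsLocalizedModule.map_apply _ _ _ _ m
  have h := @square_iff R _ f M (LocalizedModule (Submonoid.powers f) M) (R' ⊗[R] M)
    (LocalizedModule (Submonoid.powers f) (R' ⊗[R] M)) _ _ _ _ _ _ _ _
    (TensorProduct.mk R R' M 1) (EtGlue.tensorOfLoc R R' f M)
    (LocalizedModule.mkLinearMap (Submonoid.powers f) M) (EtGlue.locOfTensor R R' f M) _ _ hc
    (fun n _ _ h => tensor_quot_inj hq n h)
  exact h

theorem isLocalizedModule_away_algebraMap (f : R) :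
    IsLocalizedModule (Submonoid.powers f)
      ((IsScalarTower.toAlgHom R R' (Localization.Away (algebraMap R R' f))).toLinearMap) := by
  haveI : IsLocalization (Algebra.algebraMapSubmonoid R' (Submonoid.powers f))
      (Localization.Away (algebraMap R R' f)) := by
    rw [Algebra.algebraMapSubmonoid_powers]; infer_instance
  infer_instance

theorem isGlueingPair_iff (hq : EtGlue.QuotPowBijective R R' f) :
    EtGlue.IsGlueingPair R R' f ↔
      ((∀ x : R, (∃ n : ℕ, f ^ n * x = 0) → algebraMap R R' x = 0 → x = 0) ∧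
       (∀ x' : R', (∃ n : ℕ, algebraMap R R' f ^ n * x' = 0) →
          ∃ x : R, (∃ n : ℕ, f ^ n * x = 0) ∧ algebraMap R R' x = x')) := by
  haveI := isLocalizedModule_away_algebraMap (R' := R') f
  let v : Localization.Away f →ₗ[R] Localization.Away (algebraMap R R' f) :=
    { Localization.awayMap (algebraMap R R') f with
      map_smul' := fun r y => by
        simp [Algebra.smul_def, Localization.awayMap, IsLocalization.Away.map,
          IsLocalization.map_eq, ← IsScalarTower.algebraMap_apply] }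
  have hcomm : ∀ m : R, v (Algebra.linearMap R (Localization.Away f) m) =
      (IsScalarTower.toAlgHom R R' (Localization.Away (algebraMap R R' f))).toLinearMap
        (Algebra.linearMap R R' m) := fun m =>
    by simp [v, Localization.awayMap, IsLocalization.Away.map, IsLocalization.map_eq, ← IsScalarTower.algebraMap_apply]
  have sq := square_iff (f := f) (Algebra.linearMap R R') v
    (Algebra.linearMap R (Localization.Away f)) _ hcomm (fun n _ _ h => quot_inj hq n h)
  have key : (∀ x' : R', (∃ n : ℕ, algebraMap R R' f ^ n * x' = 0) →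
      ∃ x : R, (∃ n : ℕ, f ^ n * x = 0) ∧ algebraMap R R' x = x') ↔
      (∀ x' : R', (∃ n : ℕ, f ^ n • x' = 0) →
        ∃ x : R, (∃ n : ℕ, f ^ n • x = 0) ∧ Algebra.linearMap R R' x = x') := by
    simp [Algebra.smul_def]
  rw [key]
  refine Iff.trans ⟨fun h => ⟨h.2.1, h.2.2.1⟩, fun h => ⟨hq, h.1, h.2, fun z => ?_⟩⟩ sq
  obtain ⟨n, x, hx⟩ := loc_surj (f := f)
    (IsScalarTower.toAlgHom R R' (Localization.Away (algebraMap R R' f))).toLinearMap z
  obtain ⟨r, x', rfl⟩ := quot_surj hq n x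
  obtain ⟨y, hy⟩ := ((Module.End.isUnit_iff _).1 (IsLocalizedModule.map_units
    (Algebra.linearMap R (Localization.Away f)) (⟨f ^ n, n, rfl⟩ : Submonoid.powers f))).2 (algebraMap R _ r)
  refine ⟨x', -y, loc_pow_inj (f := f)
    (IsScalarTower.toAlgHom R R' (Localization.Away (algebraMap R R' f))).toLinearMap n ?_⟩
  have hy' : f ^ n • y = algebraMap R (Localization.Away f) r := hy
  show f ^ n • ((IsScalarTower.toAlgHom R R' (Localization.Away (algebraMap R R' f))).toLinearMap x'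
    - v (-y)) = _
  rw [hx, map_add, map_smul, smul_sub, map_neg, smul_neg, ← map_smul v, hy']
  have := hcomm r
  simp only [Algebra.linearMap_apply] at this
  rw [this]
  abel

theorem exists_of_pow_smul_eq (hg : EtGlue.IsGlueingPair R R' f) (n : ℕ) (z : R') (a : R)
    (h : f ^ n • z = algebraMap R R' a) : ∃ r : R, algebraMap R R' r = z ∧ f ^ n * r = a := by
  obtain ⟨hq, hinj, hmid, -⟩ := hg
  haveI := isLocalizedModule_away_algebraMap (R' := R') f
  let y : Localization.Away f := IsLocalization.mk' _ a (⟨f ^ n, n, rfl⟩ : Submonoid.powers f)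
  have hy : algebraMap R (Localization.Away f) (f ^ n) * y = algebraMap R _ a := by
    rw [mul_comm]; exact IsLocalization.mk'_spec _ a _
  have hmap : ∀ b : R, Localization.awayMap (algebraMap R R') f (algebraMap R _ b) =
      algebraMap R' (Localization.Away (algebraMap R R' f)) (algebraMap R R' b) := fun b => by
    simp [Localization.awayMap, IsLocalization.Away.map, IsLocalization.map_eq]
  have hu : IsUnit (algebraMap R' (Localization.Away (algebraMap R R' f)) (algebraMap R R' (f ^ n))) := by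
    rw [map_pow, map_pow]; exact (IsLocalization.Away.algebraMap_isUnit _).pow n
  obtain ⟨r, h₁, h₂⟩ := hmid z y (hu.mul_left_cancel (by
    rw [← map_mul, ← Algebra.smul_def, h, ← hmap a, ← hy, map_mul, hmap]))
  refine ⟨r, h₁, hinj (Prod.ext ?_ ?_)⟩
  · show algebraMap R R' (f ^ n * r) = algebraMap R R' a
    rw [map_mul, h₁, ← Algebra.smul_def, h]
  · show algebraMap R (Localization.Away f) (f ^ n * r) = algebraMap R _ a
    rw [map_mul, h₂, hy]

theorem exists_lift_pow_smul (hq : EtGlue.QuotPowBijective R R' f) {G M : Type u} [AddCommGroup G]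
    [Module R G] [AddCommGroup M] [Module R M] (π : G →ₗ[R] M) (hπ : Function.Surjective π)
    (x : R' ⊗[R] M) (n : ℕ) (hn : f ^ n • x = 0) :
    ∃ (z : R' ⊗[R] G) (k : G), π k = 0 ∧ π.lTensor R' z = x ∧ f ^ n • z = (1 : R') ⊗ₜ[R] k := by
  obtain ⟨z, rfl⟩ := LinearMap.lTensor_surjective R' hπ x
  rw [← map_smul] at hn
  obtain ⟨w, hw⟩ := ((lTensor_exact R' (LinearMap.exact_subtype_ker_map π) hπ) _).1 hn
  obtain ⟨k, w', rfl⟩ := tensor_decomp hq n w
  refine ⟨z - (LinearMap.ker π).subtype.lTensor R' w', k, k.2, ?_, ?_⟩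
  · rw [map_sub, ← LinearMap.lTensor_comp_apply, LinearMap.comp_ker_subtype, LinearMap.lTensor_zero,
      LinearMap.zero_apply, sub_zero]
  · rw [smul_sub, ← hw, map_add, map_smul, LinearMap.lTensor_tmul, Submodule.subtype_apply,
      add_sub_cancel_right]

/-- For a glueing pair, power torsion of `R' ⊗ M` always comes from `M`. -/
theorem torsion_surjective (hg : EtGlue.IsGlueingPair R R' f) (M : Type u) [AddCommGroup M]
    [Module R M] (x : R' ⊗[R] M) (hx : ∃ n : ℕ, f ^ n • x = 0) :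
    ∃ m : M, (∃ n : ℕ, f ^ n • m = 0) ∧ (1 : R') ⊗ₜ[R] m = x := by
  classical
  obtain ⟨n, hn⟩ := hx
  have hq := hg.1
  obtain ⟨π, hπ⟩ : ∃ π : (M →₀ R) →ₗ[R] M, Function.Surjective π :=
    ⟨Finsupp.linearCombination R id, fun m => ⟨Finsupp.single m 1, by simp⟩⟩
  obtain ⟨z', k, hk, hzz', hz'⟩ := exists_lift_pow_smul hq π hπ x n hn
  obtain ⟨e, he⟩ : ∃ e : R' ⊗[R] (M →₀ R) ≃ₗ[R] (M →₀ R'),
      ∀ (r' : R') (p : M →₀ R) (i : M), e (r' ⊗ₜ[R] p) i = p i • r' :=
    ⟨TensorProduct.finsuppScalarRight R R R' M, fun r' p i => finsuppScalarRight_apply_tmul_apply r' p i⟩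
  have hcoord : ∀ i, f ^ n • e z' i = algebraMap R R' (k i) := fun i => by
    rw [← Finsupp.smul_apply, ← map_smul, hz', he,
      Algebra.algebraMap_eq_smul_one]
  have hr : ∀ i, ∃ r : R, algebraMap R R' r = e z' i ∧ f ^ n * r = k i :=
    fun i => exists_of_pow_smul_eq hg n _ _ (hcoord i)
  choose ρ hρ₁ hρ₂ using hr
  let s := k.support ∪ (e z').support
  let g : M →₀ R := Finsupp.onFinset s (fun i => if i ∈ s then ρ i else 0)
    (fun i hi => by by_contra h; simp [h] at hi)
  have hg₁ : (1 : R') ⊗ₜ[R] g = z' := e.injective (Finsupp.ext fun i => by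
    rw [he, Finsupp.onFinset_apply]
    split_ifs with h
    · rw [← Algebra.algebraMap_eq_smul_one, hρ₁]
    · rw [zero_smul, Finsupp.notMem_support_iff.1 fun h' => h (Finset.mem_union_right _ h')])
  have hg₂ : f ^ n • g = k := Finsupp.ext fun i => by
    rw [Finsupp.smul_apply, Finsupp.onFinset_apply]
    split_ifs with h
    · rw [smul_eq_mul, hρ₂]
    · rw [smul_zero, Finsupp.notMem_support_iff.1 fun h' => h (Finset.mem_union_left _ h')]
  refine ⟨π g, ⟨n, by rw [← map_smul, hg₂, hk]⟩, ?_⟩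
  rw [← hzz', ← hg₁, LinearMap.lTensor_tmul]

theorem isGlueable_of_injective (hg : EtGlue.IsGlueingPair R R' f) (M : Type u) [AddCommGroup M]
    [Module R M] (h : ∀ m : M, (∃ n : ℕ, f ^ n • m = 0) → (1 : R') ⊗ₜ[R] m = 0 → m = 0) :
    EtGlue.IsGlueable R R' f M :=
  (isGlueable_iff hg.1 M).2 ⟨h, torsion_surjective hg M⟩

end Groth.Agent.EtAlg23
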