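import Mathlib.NumberTheory.RamificationInertia.Galois
import Mathlib.RingTheory.Ideal.Norm.AbsNorm
import Mathlib.RingTheory.RootsOfUnity.Basic
import Mathlib.RingTheory.RootsOfUnity.PrimitiveRoots
import Mathlib.RingTheory.Filtration
import Mathlib.FieldTheory.Separable
import Mathlib.GroupTheory.PGroup
import Mathlib.GroupTheory.SpecificGroups.Cyclic
import Mathlib.Tactic.LinearCombination

set_option autoImplicit false
set_option linter.style.haveILetI false
universe u

open scoped Pointwise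
open Polynomial

namespace Groth.Agent.EtAlg23

section Card

variable {R S : Type*} [CommRing R] [CommRing S] [Algebra R S] {G : Type*} [Group G]
  [MulSemiringAction G S] [IsGaloisGroup G R S] [Finite G]

attribute [local instance] Ideal.Quotient.field in
/-- The order of inertia is the ramification index for separable residue extensions. -/
theorem card_inertia_eq_ramificationIdx [IsDomain R] [IsDomain S] [Module.Finite R S]
    [Module.Flat R S] (p : Ideal R) (P : Ideal S) [P.LiesOver p] [p.IsMaximal] [P.IsMaximal]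
    [Algebra.IsSeparable (R ⧸ p) (S ⧸ P)] :
    Nat.card (P.inertia G) = P.ramificationIdx R := by
  haveI : IsGalois (R ⧸ p) (S ⧸ P) := { __ := Ideal.Quotient.normal G p P }
  haveI : Module.Finite (R ⧸ p) (S ⧸ P) := Ideal.Quotient.finite_of_isInvariant G p P
  have hidx : Subgroup.index _ = _ := Nat.card_congr
    (Ideal.Quotient.stabilizerQuotientInertiaEquiv G p P).toEquiv
  have hstab : Nat.card (MulAction.stabilizer G P) = Nat.card (P.inertia G) * P.inertiaDeg R := by
    rw [Ideal.inertiaDeg_eq_of_isMaximal p P, ← IsGalois.card_aut_eq_finrank, ← hidx,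
      ← ((P.inertia G).subgroupOf (MulAction.stabilizer G P)).card_mul_index,
      Nat.card_congr (Subgroup.subgroupOfEquivOfLe (Ideal.inertia_le_stabilizer (M := G) P)).toEquiv,
      AddSubgroup.subgroupOf_inertia]
  have H : (p.primesOver S).ncard * Nat.card (P.inertia G) * P.inertiaDeg R = Nat.card G := by
    rw [mul_assoc, ← hstab, ← Algebra.IsInvariant.orbit_eq_primesOver R S G p P]
    simpa using Nat.card_congr (MulAction.orbitProdStabilizerEquivGroup G P)
  rw [← Ideal.inertiaDegIn_eq_inertiaDeg p P G] at H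
  have hpos : 0 < Nat.card G := Nat.card_pos
  have h1 : (p.primesOver S).ncard ≠ 0 := fun h => by
    rw [h, zero_mul, zero_mul] at H; omega
  have h2 : p.inertiaDegIn S ≠ 0 := fun h => by
    rw [h, mul_zero] at H; omega
  rwa [← Ideal.ncard_primesOver_mul_ramificationIdxIn_mul_inertiaDegIn p S G,
    mul_assoc, mul_right_inj' h1, mul_left_inj' h2,
    Ideal.ramificationIdxIn_eq_ramificationIdx p P G] at H

end Card

section Structure

variable {G B : Type*} [Group G] [CommRing B] [MulSemiringAction G B] {m : Ideal B}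

theorem smul_pow_eq {σ : G} (h : σ ∈ MulAction.stabilizer G m) (n : ℕ) : σ • m ^ n = m ^ n := by
  rw [MulAction.mem_stabilizer_iff, Ideal.pointwise_smul_def] at h
  rw [Ideal.pointwise_smul_def, Ideal.map_pow, h]

theorem smul_mem_pow {σ : G} (h : σ ∈ MulAction.stabilizer G m) {n : ℕ} {x : B} (hx : x ∈ m ^ n) :
    σ • x ∈ m ^ n := by
  have := Ideal.smul_mem_pointwise_smul σ x (m ^ n) hx
  rwa [smul_pow_eq h] at this

theorem inertia_pow_normal (n : ℕ) :
    ((MulAction.stabilizer G m ⊓ (m ^ n).inertia G).subgroupOf (MulAction.stabilizer G m)).Normal := by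
  constructor
  rintro ⟨τ, hτD⟩ hτ ⟨σ, hσ⟩
  rw [Subgroup.mem_subgroupOf] at hτ ⊢
  refine ⟨(MulAction.stabilizer G m).mul_mem ((MulAction.stabilizer G m).mul_mem hσ hτD)
    ((MulAction.stabilizer G m).inv_mem hσ), fun x => ?_⟩
  show (σ * τ * σ⁻¹) • x - x ∈ m ^ n
  have := smul_mem_pow hσ (hτ.2 (σ⁻¹ • x))
  rwa [smul_sub, smul_inv_smul, ← mul_smul, ← mul_smul] at this

/-- Elements of the second inertia group act trivially on `m ^ i / m ^ (i + 1)`. -/
theorem smul_sub_mem_succ {σ : G} (hσ : σ ∈ (m ^ 2).inertia G) :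
    ∀ (i : ℕ) (y : B), y ∈ m ^ i → σ • y - y ∈ m ^ (i + 1) := by
  have hD : σ ∈ MulAction.stabilizer G m := Ideal.inertia_le_stabilizer (M := G) m
    fun x => Ideal.pow_le_self two_ne_zero (hσ x)
  intro i
  induction i with
  | zero => exact fun y _ => (pow_one m).symm ▸ Ideal.pow_le_self two_ne_zero (hσ y)
  | succ i ih =>
    intro y hy
    rw [pow_succ] at hy
    refine Submodule.mul_induction_on hy (fun a ha b hb => ?_) fun a b ha hb => ?_
    · have e : σ • (a * b) - a * b = (σ • a - a) * σ • b + a * (σ • b - b) := by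
        rw [smul_mul']; ring
      rw [e]
      refine add_mem ?_ ?_
      · have hb' : σ • b ∈ m ^ 1 := smul_mem_pow hD (by rwa [pow_one])
        rw [show i + 1 + 1 = (i + 1) + 1 from rfl, pow_add m (i + 1) 1]
        exact Ideal.mul_mem_mul (ih a ha) hb'
      · rw [show i + 1 + 1 = i + 2 from rfl, pow_add]
        exact Ideal.mul_mem_mul ha (hσ b)
    · rw [smul_add, add_sub_add_comm]
      exact add_mem ha hb

/-- Iterating an element of a higher inertia group. -/
theorem pow_mem_inertia_succ {σ : G} (hσ : σ ∈ (m ^ 2).inertia G) {i : ℕ}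
    (hi : σ ∈ (m ^ i).inertia G) (n : ℕ) :
    ∀ x : B, σ ^ n • x - (x + n • (σ • x - x)) ∈ m ^ (i + 1) := by
  have hD : σ ∈ MulAction.stabilizer G m := Ideal.inertia_le_stabilizer (M := G) m
    fun x => Ideal.pow_le_self two_ne_zero (hσ x)
  induction n with
  | zero => intro x; simp
  | succ n ih =>
    intro x
    have h1 := smul_mem_pow hD (ih x)
    have h2 := smul_sub_mem_succ hσ i _ (hi x)
    have e : σ ^ (n + 1) • x - (x + (n + 1) • (σ • x - x)) =
        σ • (σ ^ n • x - (x + n • (σ • x - x))) + n • (σ • (σ • x - x) - (σ • x - x)) := by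
      rw [pow_succ', mul_smul]
      simp only [nsmul_eq_mul, Nat.cast_succ, smul_sub, smul_add, smul_mul', MulSemiringAction.toRingHom_apply]
      rw [show σ • (n : B) = n from map_natCast (MulSemiringAction.toRingHom G B σ) n]
      ring
    rw [e]
    exact add_mem h1 ((m ^ (i + 1)).smul_of_tower_mem n h2)

theorem eq_one_of_forall_mem [IsDomain B] [IsNoetherianRing B] [FaithfulSMul G B] (hm : m ≠ ⊤)
    {σ : G} (h : ∀ i, σ ∈ (m ^ i).inertia G) : σ = 1 := by
  refine eq_of_smul_eq_smul (α := B) fun x => ?_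
  rw [one_smul, ← sub_eq_zero, ← Ideal.mem_bot, ← Ideal.iInf_pow_eq_bot_of_isDomain m hm,
    Submodule.mem_iInf]
  exact fun i => h i x

theorem isPGroup_inertia_sq [IsDomain B] [IsNoetherianRing B] [FaithfulSMul G B] [Finite G]
    (hm : m ≠ ⊤) (p : ℕ) (hp : (p : B) ∈ m) {σ : G} (hσ : σ ∈ (m ^ 2).inertia G) :
    ∃ k, σ ^ p ^ k = 1 := by
  have key : ∀ k, σ ^ p ^ k ∈ (m ^ (k + 2)).inertia G := by
    intro k
    induction k with
    | zero => simpa using hσ
    | succ k ih =>
      intro x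
      have h2 : σ ^ p ^ k ∈ (m ^ 2).inertia G := pow_mem hσ _
      have h := pow_mem_inertia_succ h2 ih p x
      have hpd : p • ((σ ^ p ^ k) • x - x) ∈ m ^ (k + 2 + 1) := by
        rw [nsmul_eq_mul, pow_succ']
        exact Ideal.mul_mem_mul hp (ih x)
      have := add_mem h hpd
      rw [← pow_mul, ← pow_succ] at this
      show σ ^ p ^ (k + 1) • x - x ∈ m ^ (k + 1 + 2)
      convert this using 1
      ring
  obtain ⟨τ, hτ⟩ := Finite.exists_infinite_fiber fun k : ℕ => σ ^ p ^ k
  obtain ⟨⟨k₀, hk₀⟩⟩ := (hτ.nonempty : Nonempty _)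
  refine ⟨k₀, ?_⟩
  rw [Set.mem_preimage, Set.mem_singleton_iff] at hk₀
  rw [hk₀]
  refine eq_one_of_forall_mem hm fun i x => ?_
  obtain ⟨k, hk, hik⟩ := (Set.infinite_coe_iff.1 hτ).exists_gt i
  rw [Set.mem_preimage, Set.mem_singleton_iff] at hk
  exact Ideal.pow_le_pow_right (by omega) ((hk ▸ key k) x)

theorem eq_one_of_charZero [IsDomain B] [IsNoetherianRing B] [FaithfulSMul G B] [Finite G]
    [hm : m.IsMaximal] (h0 : ∀ n : ℕ, (n : B) ∈ m → n = 0) {σ : G}
    (hσ : σ ∈ (m ^ 2).inertia G) : σ = 1 := by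
  refine eq_one_of_forall_mem hm.ne_top fun i => ?_
  induction i with
  | zero => intro x; simp
  | succ i ih =>
    intro x
    have h := pow_mem_inertia_succ hσ ih (orderOf σ) x
    rw [pow_orderOf_eq_one, one_smul, sub_add_cancel_left, nsmul_eq_mul] at h
    rcases Ideal.IsMaximal.mul_mem_pow m (neg_mem_iff.1 h) with h' | h'
    · exact absurd (h0 _ h') (orderOf_pos σ).ne'
    · exact h'

variable [IsDomain B] [IsDedekindDomain B] [hm : m.IsMaximal]

theorem exists_generator_mod_sq (hm0 : m ≠ ⊥) :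
    ∃ π ∈ m, π ∉ m ^ 2 ∧ ∀ x ∈ m, ∃ d, x - π * d ∈ m ^ 2 := by
  obtain ⟨π, hπ, hπ'⟩ := Ideal.exists_mem_pow_notMem_pow_succ m hm0 hm.ne_top 1
  rw [pow_one] at hπ
  refine ⟨π, hπ, hπ', fun x hx => ?_⟩
  obtain ⟨d, r, hr, e⟩ := Ideal.exists_mul_add_mem_pow_succ hm0 π x (i := 1)
    (by rwa [pow_one]) hπ' (by rwa [pow_one])
  exact ⟨d, by rw [← e, add_sub_cancel_left]; exact hr⟩

omit [IsDomain B] [IsDedekindDomain B] hm in
theorem pow_decomp {π : B} (hπ : π ∈ m) (hgen : ∀ x ∈ m, ∃ d, x - π * d ∈ m ^ 2) :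
    ∀ (k : ℕ) (x : B), x ∈ m ^ k → ∃ d, x - π ^ k * d ∈ m ^ (k + 1) := by
  intro k
  induction k with
  | zero => exact fun x _ => ⟨x, by simp⟩
  | succ k ih =>
    intro x hx
    rw [pow_succ] at hx
    refine Submodule.mul_induction_on hx (fun a ha b hb => ?_) fun a b ha hb => ?_
    · obtain ⟨d, hd⟩ := ih a ha
      obtain ⟨d', hd'⟩ := hgen b hb
      refine ⟨d * d', ?_⟩
      have e : a * b - π ^ (k + 1) * (d * d') =
          (a - π ^ k * d) * b + π ^ k * d * (b - π * d') := by ring
      rw [e]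
      refine add_mem ?_ ?_
      · rw [pow_succ m (k + 1)]
        exact Ideal.mul_mem_mul hd hb
      · rw [show k + 1 + 1 = k + 2 from rfl, pow_add]
        exact Ideal.mul_mem_mul (Ideal.mul_mem_right _ _ (Ideal.pow_mem_pow hπ k)) hd'
    · obtain ⟨d₁, h₁⟩ := ha
      obtain ⟨d₂, h₂⟩ := hb
      refine ⟨d₁ + d₂, ?_⟩
      rw [mul_add, add_sub_add_comm]
      exact add_mem h₁ h₂

omit [IsDomain B] [IsDedekindDomain B] in
/-- For separable residue extensions, triviality on `m / m ^ 2` gives triviality modulo `m ^ 2`. -/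
theorem mem_inertia_sq_of_separable {A : Type*} [CommRing A] [Algebra A B] [SMulCommClass G A B]
    [(m.comap (algebraMap A B)).IsMaximal]
    [Algebra.IsSeparable (A ⧸ m.comap (algebraMap A B)) (B ⧸ m)] {σ : G} (hσ : σ ∈ m.inertia G)
    (h1 : ∀ x ∈ m, σ • x - x ∈ m ^ 2) : σ ∈ (m ^ 2).inertia G := by
  let p := m.comap (algebraMap A B)
  letI := Ideal.Quotient.field p
  letI := Ideal.Quotient.field m
  intro b
  let qb : B ⧸ m := Ideal.Quotient.mk m b
  have hsep : (minpoly (A ⧸ p) qb).Separable := Algebra.IsSeparable.isSeparable _ qb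
  obtain ⟨f, hf⟩ := Polynomial.map_surjective (Ideal.Quotient.mk p) Ideal.Quotient.mk_surjective
    (minpoly (A ⧸ p) qb)
  have hev : ∀ g : A[X], Ideal.Quotient.mk m (aeval b g) = aeval qb (g.map (Ideal.Quotient.mk p)) := by
    intro g
    rw [← Ideal.Quotient.algebraMap_eq p, aeval_map_algebraMap]
    exact (Polynomial.aeval_algHom_apply (Ideal.Quotient.mkₐ A m) b g).symm
  have hfb : aeval b f ∈ m := by
    rw [← Ideal.Quotient.eq_zero_iff_mem, hev, hf, minpoly.aeval]
  have hdb : aeval b (derivative f) ∉ m := by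
    rw [← Ideal.Quotient.eq_zero_iff_mem, hev, ← derivative_map, hf]
    exact hsep.aeval_derivative_ne_zero (minpoly.aeval _ _)
  have hcom : σ • aeval b f = aeval (σ • b) f :=
    (Polynomial.aeval_algHom_apply (MulSemiringAction.toAlgHom A B σ) b f).symm
  obtain ⟨c, hc⟩ := (f.map (algebraMap A B)).binomExpansion b (σ • b - b)
  rw [add_sub_cancel, derivative_map] at hc
  simp only [eval_map_algebraMap] at hc
  have h2 := h1 _ hfb
  rw [hcom, hc] at h2
  have h3 : c * (σ • b - b) ^ 2 ∈ m ^ 2 := Ideal.mul_mem_left _ _ (Ideal.pow_mem_pow (hσ b) 2)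
  have h4 : aeval b (derivative f) * (σ • b - b) ∈ m ^ 2 := by
    have := (m ^ 2).sub_mem h2 h3
    ring_nf at this ⊢
    exact this
  exact (Ideal.IsMaximal.mul_mem_pow m h4).resolve_left hdb

end Structure

end Groth.Agent.EtAlg23
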