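import Groth.Prelude.Def_EtMil
import Groth.Agent.FlatCrit65.Injective
import Mathlib.RingTheory.Finiteness.Basic
import Mathlib.Algebra.Module.Projective

set_option autoImplicit false
set_option linter.style.haveILetI false
universe u

open TensorProduct

namespace Groth.Agent.EtAlg23

theorem one_tmul_eq_zero_of_surjective {A' A M : Type u} [CommRing A'] [CommRing A] [Algebra A' A]
    [AddCommGroup M] [Module A' M] (hA : Function.Surjective (algebraMap A' A)) (m : M) :
    (1 : A) ⊗ₜ[A'] m = 0 ↔ m ∈ RingHom.ker (algebraMap A' A) • (⊤ : Submodule A' M) := by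
  let e := Ideal.quotientKerAlgEquivOfSurjective (R₁ := A') (f := Algebra.ofId A' A) hA
  have he : LinearEquiv.rTensor M e.toLinearEquiv ((1 : A' ⧸ _) ⊗ₜ[A'] m) = (1 : A) ⊗ₜ[A'] m := by
    simp [e]
  rw [← FlatCrit65.one_tmul_eq_zero_iff, ← he, LinearEquiv.map_eq_zero_iff]
  rfl

theorem tmul_surjective_of_surjective {A' A M : Type u} [CommRing A'] [CommRing A] [Algebra A' A]
    [AddCommGroup M] [Module A' M] (hA : Function.Surjective (algebraMap A' A)) (t : A ⊗[A'] M) :
    ∃ m : M, (1 : A) ⊗ₜ[A'] m = t := by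
  induction t using TensorProduct.induction_on with
  | zero => exact ⟨0, TensorProduct.tmul_zero _ _⟩
  | tmul a m =>
    obtain ⟨a', rfl⟩ := hA a
    exact ⟨a' • m, by rw [Algebra.algebraMap_eq_smul_one, TensorProduct.smul_tmul]⟩
  | add a b ha hb =>
    obtain ⟨m₁, rfl⟩ := ha
    obtain ⟨m₂, rfl⟩ := hb
    exact ⟨m₁ + m₂, TensorProduct.tmul_add _ _ _⟩

section Square

variable {B' B A' A : Type u} [CommRing B'] [CommRing B] [CommRing A'] [CommRing A]
  [Algebra B' B] [Algebra B' A'] [Algebra B A] [Algebra A' A] [Algebra B' A]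
  [IsScalarTower B' B A] [IsScalarTower B' A' A]

variable (B' B A' A) in
/-- A square in which compatible pairs lift (not necessarily uniquely) and `A' → A` is surjective. -/
structure IsWeakSquare : Prop where
  surj : Function.Surjective (algebraMap A' A)
  lift : ∀ (b : B) (a' : A'), algebraMap B A b = algebraMap A' A a' →
    ∃ b' : B', algebraMap B' B b' = b ∧ algebraMap B' A' b' = a'

theorem isWeakSquare_of_isFibreSquare (h : EtMil.IsFibreSquare B' B A' A) :
    IsWeakSquare B' B A' A :=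
  ⟨h.1, fun b a' hb => (h.2 b a' hb).exists⟩

theorem IsWeakSquare.proj_surjective (h : IsWeakSquare B' B A' A) :
    Function.Surjective (algebraMap B' B) := fun b => by
  obtain ⟨a', ha'⟩ := h.surj (algebraMap B A b)
  obtain ⟨b', hb', -⟩ := h.lift b a' ha'.symm
  exact ⟨b', hb'⟩

theorem IsWeakSquare.lift_ker (h : IsWeakSquare B' B A' A) {i : A'}
    (hi : i ∈ RingHom.ker (algebraMap A' A)) :
    ∃ j : B', algebraMap B' B j = 0 ∧ algebraMap B' A' j = i :=
  h.lift 0 i (by rw [map_zero]; exact (RingHom.mem_ker.1 hi).symm)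

omit [Algebra B A] [IsScalarTower B' B A] in
theorem eq_of_map_eq [Algebra B A] [IsScalarTower B' B A] (h : EtMil.IsFibreSquare B' B A' A)
    {x y : B'} (h₁ : algebraMap B' B x = algebraMap B' B y)
    (h₂ : algebraMap B' A' x = algebraMap B' A' y) : x = y :=
  (h.2 _ _ (by rw [← IsScalarTower.algebraMap_apply, ← IsScalarTower.algebraMap_apply])).unique
    ⟨h₁, h₂⟩ ⟨rfl, rfl⟩

theorem rTensor_proj_surjective (h : IsWeakSquare B' B A' A) (L : Type u) [AddCommGroup L]
    [Module B' L] (x : B ⊗[B'] L) : ∃ l : L, (1 : B) ⊗ₜ[B'] l = x :=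
  tmul_surjective_of_surjective h.proj_surjective x

/-- The kernel of `A' ⊗ L → A ⊗ L` comes from elements of `J L`. -/
theorem exists_of_rTensor_eq_zero (h : IsWeakSquare B' B A' A) (L : Type u) [AddCommGroup L]
    [Module B' L] (z : A' ⊗[B'] L)
    (hz : (IsScalarTower.toAlgHom B' A' A).toLinearMap.rTensor L z = 0) :
    ∃ l ∈ RingHom.ker (algebraMap B' B) • (⊤ : Submodule B' L), (1 : A') ⊗ₜ[B'] l = z := by
  let q := (IsScalarTower.toAlgHom B' A' A).toLinearMap
  obtain ⟨w, rfl⟩ := ((rTensor_exact L (LinearMap.exact_subtype_ker_map q) h.surj) z).1 hz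
  clear hz
  induction w using TensorProduct.induction_on with
  | zero => exact ⟨0, zero_mem _, by simp⟩
  | tmul i l =>
    obtain ⟨j, hj, hj'⟩ := h.lift_ker (i := (i : A')) i.2
    refine ⟨j • l, Submodule.smul_mem_smul hj Submodule.mem_top, ?_⟩
    rw [← TensorProduct.smul_tmul, ← Algebra.algebraMap_eq_smul_one, hj', LinearMap.rTensor_tmul]
    rfl
  | add a b ha hb =>
    obtain ⟨l₁, h₁, e₁⟩ := ha
    obtain ⟨l₂, h₂, e₂⟩ := hb
    exact ⟨l₁ + l₂, add_mem h₁ h₂, by rw [TensorProduct.tmul_add, map_add, e₁, e₂]⟩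

theorem baseChange_pair_surjective (h : IsWeakSquare B' B A' A) (L : Type u) [AddCommGroup L]
    [Module B' L] (x : B ⊗[B'] L) (y : A' ⊗[B'] L)
    (hxy : (IsScalarTower.toAlgHom B' B A).toLinearMap.rTensor L x =
      (IsScalarTower.toAlgHom B' A' A).toLinearMap.rTensor L y) :
    ∃ l : L, (1 : B) ⊗ₜ[B'] l = x ∧ (1 : A') ⊗ₜ[B'] l = y := by
  obtain ⟨l₀, rfl⟩ := rTensor_proj_surjective h L x
  obtain ⟨l₁, hl₁, hl₁'⟩ := exists_of_rTensor_eq_zero h L (y - (1 : A') ⊗ₜ[B'] l₀) (by
    rw [map_sub, ← hxy, LinearMap.rTensor_tmul, LinearMap.rTensor_tmul]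
    simp)
  refine ⟨l₀ + l₁, ?_, by rw [TensorProduct.tmul_add, hl₁']; abel⟩
  rw [TensorProduct.tmul_add, add_eq_left]
  clear hl₁'
  refine Submodule.smul_induction_on hl₁ (fun r hr n _ => ?_) fun a b ha hb => ?_
  · rw [← TensorProduct.smul_tmul, ← Algebra.algebraMap_eq_smul_one, RingHom.mem_ker.1 hr,
      TensorProduct.zero_tmul]
  · rw [TensorProduct.tmul_add, ha, hb, add_zero]

variable {N M' : Type u} [AddCommGroup N] [Module B N] [Module B' N] [IsScalarTower B' B N]
  [AddCommGroup M'] [Module A' M'] [Module B' M'] [IsScalarTower B' A' M']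
  {φ : A ⊗[B] N ≃ₗ[A] A ⊗[A'] M'}

theorem mem_glue {x : N × M'} :
    x ∈ EtMil.glue B' φ ↔ φ ((1 : A) ⊗ₜ[B] x.1) = (1 : A) ⊗ₜ[A'] x.2 := Iff.rfl

theorem exists_mem_glue (h : IsWeakSquare B' B A' A) (n : N) :
    ∃ x : EtMil.glue B' φ, x.1.1 = n := by
  obtain ⟨m, hm⟩ := tmul_surjective_of_surjective h.surj (φ ((1 : A) ⊗ₜ[B] n))
  exact ⟨⟨(n, m), hm.symm⟩, rfl⟩

theorem span_snd_eq_top (h : IsWeakSquare B' B A' A) {s : Set (EtMil.glue B' φ)}
    (hs : Submodule.span B ((fun x : EtMil.glue B' φ => x.1.1) '' s) = ⊤)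
    (m : M') : m ∈ Submodule.span A' ((fun x : EtMil.glue B' φ => x.1.2) '' s) ⊔
      RingHom.ker (algebraMap A' A) • (⊤ : Submodule A' M') := by
  let V := Submodule.span A' ((fun x : EtMil.glue B' φ => x.1.2) '' s)
  let I := RingHom.ker (algebraMap A' A)
  have hgen : ∀ n : N, ∀ a : A, ∃ v ∈ V, φ (a ⊗ₜ[B] n) = (1 : A) ⊗ₜ[A'] v := by
    intro n
    have hn : n ∈ Submodule.span B ((fun x : EtMil.glue B' φ => x.1.1) '' s) := hs ▸ Submodule.mem_top
    induction hn using Submodule.span_induction with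
    | mem n hn =>
      obtain ⟨x, hx, rfl⟩ := hn
      intro a
      obtain ⟨a', rfl⟩ := h.surj a
      refine ⟨a' • x.1.2, V.smul_mem _ (Submodule.subset_span ⟨x, hx, rfl⟩), ?_⟩
      have : (algebraMap A' A a') ⊗ₜ[B] x.1.1 = algebraMap A' A a' • ((1 : A) ⊗ₜ[B] x.1.1) := by
        rw [TensorProduct.smul_tmul', smul_eq_mul, mul_one]
      rw [this, map_smul, mem_glue.1 x.2, TensorProduct.smul_tmul', smul_eq_mul, mul_one,
        Algebra.algebraMap_eq_smul_one, TensorProduct.smul_tmul]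
    | zero => exact fun a => ⟨0, V.zero_mem, by simp⟩
    | add n₁ n₂ _ _ h₁ h₂ =>
      intro a
      obtain ⟨v₁, hv₁, e₁⟩ := h₁ a
      obtain ⟨v₂, hv₂, e₂⟩ := h₂ a
      exact ⟨v₁ + v₂, V.add_mem hv₁ hv₂, by rw [TensorProduct.tmul_add, map_add, e₁, e₂, TensorProduct.tmul_add]⟩
    | smul b n _ hn =>
      intro a
      rw [← TensorProduct.smul_tmul]
      exact hn _
  have hall : ∀ t : A ⊗[B] N, ∃ v ∈ V, φ t = (1 : A) ⊗ₜ[A'] v := by
    intro t
    induction t using TensorProduct.induction_on with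
    | zero => exact ⟨0, V.zero_mem, by simp⟩
    | tmul a n => exact hgen n a
    | add t₁ t₂ h₁ h₂ =>
      obtain ⟨v₁, hv₁, e₁⟩ := h₁
      obtain ⟨v₂, hv₂, e₂⟩ := h₂
      exact ⟨v₁ + v₂, V.add_mem hv₁ hv₂, by rw [map_add, e₁, e₂, TensorProduct.tmul_add]⟩
  obtain ⟨v, hv, hφ⟩ := hall (φ.symm ((1 : A) ⊗ₜ[A'] m))
  rw [φ.apply_symm_apply] at hφ
  have : m - v ∈ I • (⊤ : Submodule A' M') := (one_tmul_eq_zero_of_surjective h.surj _).1 (by
    rw [TensorProduct.tmul_sub, hφ, sub_self])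
  exact Submodule.mem_sup.2 ⟨v, hv, m - v, this, add_sub_cancel _ _⟩

theorem fst_image_univ (h : IsWeakSquare B' B A' A) :
    Submodule.span B ((fun x : EtMil.glue B' φ => x.1.1) '' Set.univ) = ⊤ :=
  eq_top_iff.2 fun n _ => by
    obtain ⟨x, hx⟩ := exists_mem_glue (φ := φ) h n
    exact Submodule.subset_span ⟨x, trivial, hx⟩

/-- Elements of the glued module with vanishing first component lie in `J N'`; more precisely
they are combinations of any family whose first components generate `N`. -/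
theorem mem_smul_of_fst_eq_zero (h : IsWeakSquare B' B A' A) (x : EtMil.glue B' φ)
    (hx : x.1.1 = 0) : x ∈ RingHom.ker (algebraMap B' B) • (⊤ : Submodule B' (EtMil.glue B' φ)) := by
  let J := RingHom.ker (algebraMap B' B)
  let I := RingHom.ker (algebraMap A' A)
  suffices key : ∀ y ∈ I • (⊤ : Submodule A' M'), ∃ w ∈ J • (⊤ : Submodule B' (EtMil.glue B' φ)),
      (w : N × M') = (0, y) by
    obtain ⟨w, hw, e⟩ := key x.1.2 ((one_tmul_eq_zero_of_surjective h.surj _).1 (by
      rw [← mem_glue.1 x.2, hx, TensorProduct.tmul_zero, map_zero]))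
    have : x = w := Subtype.ext (by rw [e]; exact Prod.ext hx rfl)
    rwa [this]
  -- elements `i • v` with `v` in the span of second components
  have hV : ∀ v ∈ Submodule.span A' ((fun x : EtMil.glue B' φ => x.1.2) '' Set.univ), ∀ i ∈ I,
      ∃ w ∈ J • (⊤ : Submodule B' (EtMil.glue B' φ)), (w : N × M') = (0, i • v) := by
    intro v hv
    induction hv using Submodule.span_induction with
    | mem v hv =>
      obtain ⟨g, -, rfl⟩ := hv
      intro i hi
      obtain ⟨j, hj, hj'⟩ := h.lift_ker hi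
      refine ⟨j • g, Submodule.smul_mem_smul hj Submodule.mem_top, Prod.ext ?_ ?_⟩
      · show j • g.1.1 = 0
        rw [← IsScalarTower.algebraMap_smul B j g.1.1, hj, zero_smul]
      · show j • g.1.2 = i • g.1.2
        rw [← IsScalarTower.algebraMap_smul A' j g.1.2, hj']
    | zero => exact fun i _ => ⟨0, zero_mem _, by rw [smul_zero]; rfl⟩
    | add v₁ v₂ _ _ h₁ h₂ =>
      intro i hi
      obtain ⟨w₁, hw₁, e₁⟩ := h₁ i hi
      obtain ⟨w₂, hw₂, e₂⟩ := h₂ i hi
      exact ⟨w₁ + w₂, add_mem hw₁ hw₂, by rw [Submodule.coe_add, e₁, e₂, Prod.mk_add_mk, add_zero, smul_add]⟩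
    | smul a v _ hv =>
      intro i hi
      obtain ⟨w, hw, e⟩ := hv (i * a) (I.mul_mem_right _ hi)
      exact ⟨w, hw, by rw [e, mul_smul]⟩
  intro y hy
  refine Submodule.smul_induction_on hy (fun i hi m _ => ?_) fun a b ha hb => ?_
  ·
    obtain ⟨v, hv, r, hr, rfl⟩ := Submodule.mem_sup.1
      (span_snd_eq_top (φ := φ) h (s := Set.univ) (fst_image_univ h) m)
    obtain ⟨w₁, hw₁, e₁⟩ := hV v hv i hi
    have hg : ((0, r) : N × M') ∈ EtMil.glue B' φ := by
      rw [mem_glue, TensorProduct.tmul_zero, map_zero, (one_tmul_eq_zero_of_surjective h.surj r).2 hr]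
    obtain ⟨j, hj, hj'⟩ := h.lift_ker hi
    refine ⟨w₁ + j • ⟨(0, r), hg⟩, add_mem hw₁ (Submodule.smul_mem_smul hj Submodule.mem_top), ?_⟩
    rw [Submodule.coe_add, e₁, Submodule.coe_smul, Prod.smul_mk, smul_zero, Prod.mk_add_mk, add_zero,
      ← IsScalarTower.algebraMap_smul A' j r, hj', smul_add]
  · obtain ⟨w₁, hw₁, e₁⟩ := ha
    obtain ⟨w₂, hw₂, e₂⟩ := hb
    exact ⟨w₁ + w₂, add_mem hw₁ hw₂, by rw [Submodule.coe_add, e₁, e₂, Prod.mk_add_mk, add_zero]⟩

omit [Algebra B' A] [Algebra B A] [Algebra A' A] [IsScalarTower B' B A] [IsScalarTower B' A' A]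
  [Algebra B' A'] in
theorem one_tmul_eq_zero_of_mem_smul {X : Type u} [AddCommGroup X] [Module B' X] {C : Type u}
    [CommRing C] [Algebra B' C] [Algebra B C] [IsScalarTower B' B C] {x : X}
    (hx : x ∈ RingHom.ker (algebraMap B' B) • (⊤ : Submodule B' X)) (c : C) : c ⊗ₜ[B'] x = 0 := by
  refine Submodule.smul_induction_on hx (fun r hr n _ => ?_) fun a b ha hb => ?_
  · rw [← TensorProduct.smul_tmul, ← IsScalarTower.algebraMap_smul B r c, RingHom.mem_ker.1 hr,
      zero_smul, TensorProduct.zero_tmul]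
  · rw [TensorProduct.tmul_add, ha, hb, add_zero]

theorem liftFst_bijective (h : IsWeakSquare B' B A' A) :
    Function.Bijective (LinearMap.liftBaseChange B (EtMil.glueFst B' φ)) := by
  refine ⟨(injective_iff_map_eq_zero _).2 fun z hz => ?_, fun n => ?_⟩
  · obtain ⟨x, rfl⟩ := rTensor_proj_surjective h _ z
    rw [LinearMap.liftBaseChange_tmul, one_smul] at hz
    exact one_tmul_eq_zero_of_mem_smul (B := B) (C := B) (mem_smul_of_fst_eq_zero h x hz) _
  · obtain ⟨x, hx⟩ := exists_mem_glue (φ := φ) h n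
    exact ⟨(1 : B) ⊗ₜ x, by rw [LinearMap.liftBaseChange_tmul, one_smul]; exact hx⟩

theorem liftSnd_surjective (h : IsWeakSquare B' B A' A) :
    Function.Surjective (LinearMap.liftBaseChange A' (EtMil.glueSnd B' φ)) := by
  let F := LinearMap.liftBaseChange A' (EtMil.glueSnd B' φ)
  have h1 : ∀ g : EtMil.glue B' φ, g.1.2 ∈ LinearMap.range F := fun g =>
    ⟨(1 : A') ⊗ₜ g, by rw [LinearMap.liftBaseChange_tmul, one_smul]; rfl⟩
  intro m
  obtain ⟨v, hv, r, hr, rfl⟩ := Submodule.mem_sup.1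
    (span_snd_eq_top (φ := φ) h (s := Set.univ) (fst_image_univ h) m)
  refine (LinearMap.range F).add_mem (Submodule.span_le.2 ?_ hv) ?_
  · rintro _ ⟨g, -, rfl⟩; exact h1 g
  · exact h1 ⟨(0, r), by
      rw [mem_glue, TensorProduct.tmul_zero, map_zero, (one_tmul_eq_zero_of_surjective h.surj r).2 hr]⟩

theorem tmul_eq_of_fst_eq (h : IsWeakSquare B' B A' A) (x y : EtMil.glue B' φ) (hxy : x.1.1 = y.1.1)
    (C : Type u) [CommRing C] [Algebra B' C] [Algebra B C] [IsScalarTower B' B C] (c : C) :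
    c ⊗ₜ[B'] x = c ⊗ₜ[B'] y := by
  have hmem : x - y ∈ RingHom.ker (algebraMap B' B) • (⊤ : Submodule B' (EtMil.glue B' φ)) :=
    mem_smul_of_fst_eq_zero h (x - y) (by
      show x.1.1 - y.1.1 = 0
      rw [hxy, sub_self])
  rw [← sub_eq_zero, ← TensorProduct.tmul_sub]
  exact one_tmul_eq_zero_of_mem_smul (B := B) (C := C) hmem c

theorem liftSnd_bijective (h : IsWeakSquare B' B A' A) :
    Function.Bijective (LinearMap.liftBaseChange A' (EtMil.glueSnd B' φ)) := by
  refine ⟨(injective_iff_map_eq_zero _).2 fun z hz => ?_, liftSnd_surjective h⟩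
  let G := EtMil.glue B' φ
  let Θ : A ⊗[B'] G →ₗ[A] A ⊗[A'] M' := LinearMap.liftBaseChange A
    (((TensorProduct.mk A' A M' 1).restrictScalars B').comp (EtMil.glueSnd B' φ))
  choose σ hσ using exists_mem_glue (φ := φ) h
  have hσz : ∀ g : G, (1 : A) ⊗ₜ[B'] σ g.1.1 = (1 : A) ⊗ₜ[B'] g := fun g => by
    exact tmul_eq_of_fst_eq h (σ g.1.1) g (hσ _) A 1
  let s : N →ₗ[B] A ⊗[B'] G :=
    { toFun := fun n => (1 : A) ⊗ₜ σ n
      map_add' := fun n₁ n₂ => by
        have := hσz (σ n₁ + σ n₂)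
        rw [Submodule.coe_add, Prod.fst_add, hσ, hσ] at this
        rw [this, TensorProduct.tmul_add]
      map_smul' := fun b n => by
        obtain ⟨b', rfl⟩ := h.proj_surjective b
        have := hσz (b' • σ n)
        rw [Submodule.coe_smul, Prod.smul_fst, hσ] at this
        rw [RingHom.id_apply, IsScalarTower.algebraMap_smul, this, TensorProduct.tmul_smul,
          IsScalarTower.algebraMap_smul] }
  have hΘ : Function.Injective Θ := by
    intro z₁ z₂ hz₁₂
    have key : ∀ z, LinearMap.liftBaseChange A s (φ.symm (Θ z)) = z := by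
      intro z
      induction z using TensorProduct.induction_on with
      | zero => simp
      | tmul a g =>
        rw [LinearMap.liftBaseChange_tmul, map_smul, map_smul]
        show a • LinearMap.liftBaseChange A s (φ.symm ((1 : A) ⊗ₜ[A'] g.1.2)) = _
        rw [← mem_glue.1 g.2, φ.symm_apply_apply, LinearMap.liftBaseChange_tmul, one_smul]
        show a • ((1 : A) ⊗ₜ[B'] σ g.1.1) = _
        rw [hσz, TensorProduct.smul_tmul', smul_eq_mul, mul_one]
      | add u v hu hv => simp only [map_add, hu, hv]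
    rw [← key z₁, hz₁₂, key]
  have hcomm : ∀ z, Θ ((IsScalarTower.toAlgHom B' A' A).toLinearMap.rTensor G z) =
      (1 : A) ⊗ₜ[A'] LinearMap.liftBaseChange A' (EtMil.glueSnd B' φ) z := by
    intro z
    induction z using TensorProduct.induction_on with
    | zero => simp
    | tmul a g =>
      rw [LinearMap.rTensor_tmul, LinearMap.liftBaseChange_tmul, LinearMap.liftBaseChange_tmul]
      show algebraMap A' A a • ((1 : A) ⊗ₜ[A'] g.1.2) = (1 : A) ⊗ₜ[A'] (a • g.1.2)
      rw [algebraMap_smul, TensorProduct.tmul_smul]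
    | add u v hu hv => simp only [map_add, hu, hv, TensorProduct.tmul_add]
  obtain ⟨x, hxJ, rfl⟩ := exists_of_rTensor_eq_zero h G z
    (hΘ (by rw [hcomm, hz, TensorProduct.tmul_zero, map_zero]))
  rw [LinearMap.liftBaseChange_tmul, one_smul] at hz
  have hx1 : x.1.1 = 0 := by
    refine Submodule.smul_induction_on hxJ (fun r hr n _ => ?_) fun a b ha hb => ?_
    · show r • n.1.1 = 0
      rw [← IsScalarTower.algebraMap_smul B r n.1.1, RingHom.mem_ker.1 hr, zero_smul]
    · show a.1.1 + b.1.1 = 0; rw [ha, hb, add_zero]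
  have : x = 0 := Subtype.ext (Prod.ext hx1 hz)
  rw [this, TensorProduct.tmul_zero]

/-- The glued module of finite modules is finite. -/
theorem finite_glue (h : IsWeakSquare B' B A' A) [Module.Finite B N] [Module.Finite A' M'] :
    Module.Finite B' (EtMil.glue B' φ) := by
  classical
  obtain ⟨S, hS⟩ := Module.Finite.fg_top (R := B) (M := N)
  choose σ hσ using exists_mem_glue (φ := φ) h
  let G := EtMil.glue B' φ
  let P : Submodule B' G := ⊤
  let F := LinearMap.liftBaseChange A' (EtMil.glueSnd B' φ)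
  obtain ⟨T, hT⟩ := Module.Finite.fg_top (R := A') (M := M')
  choose τ hτ using fun m : M' => liftSnd_surjective (φ := φ) h m
  choose E hE using fun m : M' => TensorProduct.exists_finset (R := B') (τ m)
  let U : Finset G := S.image σ ∪ T.biUnion fun m => (E m).image fun p => p.2
  let V := Submodule.span B' (U : Set G)
  refine ⟨⟨U, eq_top_iff.2 fun x _ => ?_⟩⟩
  obtain ⟨v, hv, hvx⟩ : ∃ v ∈ V, v.1.1 = x.1.1 := by
    generalize x.1.1 = n₀
    have : n₀ ∈ Submodule.span B (S : Set N) := hS ▸ Submodule.mem_top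
    induction this using Submodule.span_induction with
    | mem n hn => exact ⟨σ n, Submodule.subset_span (Finset.mem_union_left _ (Finset.mem_image_of_mem σ hn)), hσ n⟩
    | zero => exact ⟨0, V.zero_mem, rfl⟩
    | add a b _ _ ha hb =>
      obtain ⟨v₁, hv₁, e₁⟩ := ha
      obtain ⟨v₂, hv₂, e₂⟩ := hb
      exact ⟨v₁ + v₂, V.add_mem hv₁ hv₂, by rw [← e₁, ← e₂]; rfl⟩
    | smul b n _ hn =>
      obtain ⟨v, hv, e⟩ := hn
      obtain ⟨b', rfl⟩ := h.proj_surjective b
      exact ⟨b' • v, V.smul_mem _ hv, by rw [IsScalarTower.algebraMap_smul, ← e]; rfl⟩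
  suffices ∀ y ∈ RingHom.ker (algebraMap B' B) • (⊤ : Submodule B' G), y ∈ V by
    have h₂ := V.add_mem (this _ (mem_smul_of_fst_eq_zero h (x - v) (by
      show x.1.1 - v.1.1 = 0
      rw [hvx, sub_self]))) hv
    rwa [sub_add_cancel] at h₂
  intro y hy
  refine Submodule.smul_induction_on hy (fun j hj g _ => ?_) fun a b ha hb => V.add_mem ha hb
  ·
    have hg : ∀ m : M', ∀ a : A', ∃ w ∈ V, (w : N × M') = (0, (algebraMap B' A' j * a) • m) := by
      intro m
      have : m ∈ Submodule.span A' (T : Set M') := hT ▸ Submodule.mem_top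
      induction this using Submodule.span_induction with
      | mem m hm =>
        intro a
        have hI : ∀ b : A', algebraMap A' A (algebraMap B' A' j * b) = 0 := fun b => by
          rw [map_mul, ← IsScalarTower.algebraMap_apply, IsScalarTower.algebraMap_apply B' B A,
            RingHom.mem_ker.1 hj, map_zero, zero_mul]
        choose l hl₁ hl₂ using fun b : A' => h.lift_ker (i := algebraMap B' A' j * b) (hI b)
        refine ⟨∑ p ∈ E m, l (a * p.1) • p.2, V.sum_mem fun p hp => V.smul_mem _ (Submodule.subset_span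
          (Finset.mem_union_right _ (Finset.mem_biUnion.2 ⟨m, hm, Finset.mem_image_of_mem _ hp⟩))), ?_⟩
        rw [AddSubmonoidClass.coe_finset_sum]
        refine Prod.ext ?_ ?_
        · rw [Prod.fst_sum]
          refine Finset.sum_eq_zero fun p _ => ?_
          show l (a * p.1) • p.2.1.1 = 0
          rw [← IsScalarTower.algebraMap_smul B (l (a * p.1)) p.2.1.1, hl₁, zero_smul]
        · rw [Prod.snd_sum]
          conv_rhs => rw [← hτ m, hE m, map_sum, Finset.smul_sum]
          refine Finset.sum_congr rfl fun p _ => ?_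
          show l (a * p.1) • p.2.1.2 = _
          rw [← IsScalarTower.algebraMap_smul A' (l (a * p.1)) p.2.1.2, hl₂,
            LinearMap.liftBaseChange_tmul, smul_smul, mul_assoc]
          rfl
      | zero => exact fun a => ⟨0, V.zero_mem, by rw [smul_zero]; rfl⟩
      | add m₁ m₂ _ _ h₁ h₂ =>
        intro a
        obtain ⟨w₁, hw₁, e₁⟩ := h₁ a
        obtain ⟨w₂, hw₂, e₂⟩ := h₂ a
        exact ⟨w₁ + w₂, V.add_mem hw₁ hw₂, by rw [Submodule.coe_add, e₁, e₂, Prod.mk_add_mk, add_zero, smul_add]⟩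
      | smul c m _ hm =>
        intro a
        obtain ⟨w, hw, e⟩ := hm (a * c)
        exact ⟨w, hw, by rw [e, ← mul_assoc, mul_smul]⟩
    obtain ⟨w, hw, e⟩ := hg g.1.2 1
    have : j • g = w := Subtype.ext (by
      rw [e, mul_one]
      exact Prod.ext (by
        show j • g.1.1 = 0
        rw [← IsScalarTower.algebraMap_smul B j g.1.1, RingHom.mem_ker.1 hj, zero_smul])
        (IsScalarTower.algebraMap_smul A' j g.1.2).symm)
    rwa [this]

end Square

end Groth.Agent.EtAlg23
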