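import Groth.Agent.EtAlg23.MilnorFlat
import Groth.Agent.Glue24.Milnor
import Mathlib.RingTheory.Smooth.Fiber
import Mathlib.RingTheory.FiniteStability
import Mathlib.RingTheory.Kaehler.TensorProduct
import Mathlib.RingTheory.Smooth.Flat

/-! Properties of algebras over a fibre square of rings are detected on the two factors. -/

set_option autoImplicit false
set_option linter.style.haveILetI false
universe u

open TensorProduct

namespace Groth.Agent.EtAlg23

variable {B' B A' A : Type u} [CommRing B'] [CommRing B] [CommRing A'] [CommRing A]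
  [Algebra B' B] [Algebra B' A'] [Algebra B A] [Algebra A' A] [Algebra B' A]
  [IsScalarTower B' B A] [IsScalarTower B' A' A]
  {E : Type u} [CommRing E] [Algebra B' E]

/-- Finite type descends along a fibre square. -/
theorem finiteType_of_square (h : EtMil.IsFibreSquare B' B A' A)
    [Algebra.FiniteType B (B ⊗[B'] E)] [Algebra.FiniteType A' (A' ⊗[B'] E)] :
    Algebra.FiniteType B' E := by
  classical
  have key : ∀ (R : Type u) [CommRing R] [Algebra B' R] [Algebra.FiniteType R (R ⊗[B'] E)],
      ∃ s : Finset E, ∀ T : Subalgebra B' E, (∀ e ∈ s, e ∈ T) →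
        Function.Surjective (T.val.toLinearMap.lTensor R) := by
    intro R _ _ _
    obtain ⟨g, hg⟩ := Algebra.FiniteType.out (R := R) (A := R ⊗[B'] E)
    choose S hS using fun z : R ⊗[B'] E => TensorProduct.exists_finset (R := B') z
    refine ⟨g.biUnion fun z => (S z).image Prod.snd, fun T hT => ?_⟩
    let F : R ⊗[B'] T →ₐ[R] R ⊗[B'] E := Algebra.TensorProduct.map (AlgHom.id R R) T.val
    suffices F.range = ⊤ by
      intro z
      obtain ⟨y, hy⟩ := (this ▸ Algebra.mem_top : z ∈ F.range)
      exact ⟨y, hy⟩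
    rw [eq_top_iff, ← hg, Algebra.adjoin_le_iff]
    intro z hz
    rw [hS z]
    refine sum_mem fun p hp => ⟨p.1 ⊗ₜ ⟨p.2, hT _ ?_⟩, rfl⟩
    exact Finset.mem_biUnion.2 ⟨z, hz, Finset.mem_image_of_mem _ hp⟩
  obtain ⟨s₁, h₁⟩ := key B
  obtain ⟨s₂, h₂⟩ := key A'
  let T := Algebra.adjoin B' (↑(s₁ ∪ s₂) : Set E)
  let q := (LinearMap.range T.val.toLinearMap).mkQ
  have hsub : ∀ (R : Type u) [CommRing R] [Algebra B' R],
      Function.Surjective (T.val.toLinearMap.lTensor R) →
      Subsingleton (R ⊗[B'] (E ⧸ LinearMap.range T.val.toLinearMap)) := by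
    intro R _ _ hR
    refine subsingleton_of_forall_eq 0 fun z => ?_
    obtain ⟨w, rfl⟩ := LinearMap.lTensor_surjective R (Submodule.mkQ_surjective _) z
    obtain ⟨v, rfl⟩ := hR w
    rw [← LinearMap.comp_apply, ← LinearMap.lTensor_comp, LinearMap.range_mkQ_comp,
      LinearMap.lTensor_zero, LinearMap.zero_apply]
  have := Glue24.Milnor.subsingleton_of_subsingleton h
    (hsub B (h₁ T fun e he => Algebra.subset_adjoin (Finset.mem_union_left _ he)))
    (hsub A' (h₂ T fun e he => Algebra.subset_adjoin (Finset.mem_union_right _ he)))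
  rw [Submodule.Quotient.subsingleton_iff] at this
  refine ⟨⟨s₁ ∪ s₂, eq_top_iff.2 fun e _ => ?_⟩⟩
  obtain ⟨x, rfl⟩ := (this ▸ Submodule.mem_top : e ∈ LinearMap.range T.val.toLinearMap)
  exact x.2

/-- Finite presentation descends along a fibre square for flat algebras. -/
theorem finitePresentation_of_square (h : EtMil.IsFibreSquare B' B A' A) [Module.Flat B' E]
    [Algebra.FinitePresentation B (B ⊗[B'] E)] [Algebra.FinitePresentation A' (A' ⊗[B'] E)] :
    Algebra.FinitePresentation B' E := by
  classical
  haveI := finiteType_of_square (E := E) h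
  obtain ⟨n, f, hf⟩ := Algebra.FiniteType.iff_quotient_mvPolynomial''.1 ‹Algebra.FiniteType B' E›
  let P := MvPolynomial (Fin n) B'
  have key : ∀ (R : Type u) [CommRing R] [Algebra B' R] [Algebra.FinitePresentation R (R ⊗[B'] E)],
      ∃ s : Finset P, (∀ p ∈ s, f p = 0) ∧ ∀ K : Ideal P, (∀ p ∈ s, p ∈ K) →
        RingHom.ker (Algebra.TensorProduct.map (AlgHom.id R R) f) ≤
          K.map (Algebra.TensorProduct.includeRight : P →ₐ[B'] R ⊗[B'] P) := by
    intro R _ _ _
    haveI : Algebra.FinitePresentation R (MvPolynomial (Fin n) R) := inferInstance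
    haveI : Algebra.FinitePresentation R (R ⊗[B'] P) := inferInstance
    have hfg := Algebra.FinitePresentation.ker_fG_of_surjective
      (Algebra.TensorProduct.map (AlgHom.id R R) f) (LinearMap.lTensor_surjective R hf)
    have hker : RingHom.ker (Algebra.TensorProduct.map (AlgHom.id R R) f) =
        (RingHom.ker f).map (Algebra.TensorProduct.includeRight : P →ₐ[B'] R ⊗[B'] P) :=
      Algebra.TensorProduct.lTensor_ker (A := R) f hf
    have hker' := hker
    rw [Ideal.map] at hker'
    change (RingHom.ker (Algebra.TensorProduct.map (AlgHom.id R R) f)).FG at hfg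
    rw [hker', Ideal.span] at hfg
    obtain ⟨t, ht, hspan⟩ := (Submodule.fg_span_iff_fg_span_finset_subset _).1 hfg
    choose! pre hpre₁ hpre₂ using fun x (hx : x ∈ t) => ht hx
    refine ⟨t.image pre, fun p hp => ?_, fun K hK => ?_⟩
    · obtain ⟨x, hx, rfl⟩ := Finset.mem_image.1 hp
      exact hpre₁ x hx
    · rw [hker']
      show Submodule.span _ _ ≤ _
      rw [hspan, Submodule.span_le]
      intro x hx
      rw [← hpre₂ x hx]
      exact Ideal.mem_map_of_mem _ (hK _ (Finset.mem_image_of_mem _ hx))
  obtain ⟨s₁, hs₁, h₁⟩ := key B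
  obtain ⟨s₂, hs₂, h₂⟩ := key A'
  let K : Ideal P := Ideal.span (↑(s₁ ∪ s₂) : Set P)
  have hK : K ≤ RingHom.ker f := Ideal.span_le.2 fun p hp => by
    rcases Finset.mem_union.1 hp with hp | hp
    exacts [hs₁ p hp, hs₂ p hp]
  let g : (P ⧸ K) →ₐ[B'] E := Ideal.Quotient.liftₐ K f fun p hp => hK hp
  have hg : Function.Surjective g := fun e => by
    obtain ⟨p, rfl⟩ := hf e
    exact ⟨Ideal.Quotient.mk K p, rfl⟩
  let i := (LinearMap.ker g.toLinearMap).subtype
  have hsub : ∀ (R : Type u) [CommRing R] [Algebra B' R],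
      RingHom.ker (Algebra.TensorProduct.map (AlgHom.id R R) f) ≤
          K.map (Algebra.TensorProduct.includeRight : P →ₐ[B'] R ⊗[B'] P) →
      Subsingleton (R ⊗[B'] LinearMap.ker g.toLinearMap) := by
    intro R _ _ hR
    have hi : Function.Injective (i.lTensor R) :=
      Glue24.lTensor_injective_of_flat_coker i g.toLinearMap Subtype.val_injective
        (LinearMap.exact_subtype_ker_map _) hg
    refine subsingleton_of_forall_eq 0 fun z => hi ?_
    rw [map_zero]
    obtain ⟨w, hw⟩ := LinearMap.lTensor_surjective R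
      (g := (Ideal.Quotient.mkₐ B' K).toLinearMap) Ideal.Quotient.mk_surjective (i.lTensor R z)
    have h0 : g.toLinearMap.lTensor R (i.lTensor R z) = 0 := by
      rw [← LinearMap.comp_apply, ← LinearMap.lTensor_comp,
        LinearMap.exact_subtype_ker_map g.toLinearMap |>.linearMap_comp_eq_zero,
        LinearMap.lTensor_zero, LinearMap.zero_apply]
    rw [← hw, ← LinearMap.comp_apply, ← LinearMap.lTensor_comp] at h0
    have hmem : w ∈ RingHom.ker (Algebra.TensorProduct.map (AlgHom.id R R) f) := h0
    rw [← hw]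
    have hle : K.map (Algebra.TensorProduct.includeRight : P →ₐ[B'] R ⊗[B'] P) ≤
        RingHom.ker (Algebra.TensorProduct.map (AlgHom.id R R) (Ideal.Quotient.mkₐ B' K)) := by
      refine Ideal.map_le_iff_le_comap.2 fun p hp => ?_
      rw [Ideal.mem_comap, RingHom.mem_ker, Algebra.TensorProduct.includeRight_apply,
        Algebra.TensorProduct.map_tmul]
      show _ ⊗ₜ[B'] Ideal.Quotient.mk K p = 0
      rw [Ideal.Quotient.eq_zero_iff_mem.2 hp, TensorProduct.tmul_zero]
    exact hle (hR hmem)
  have := Glue24.Milnor.subsingleton_of_subsingleton h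
    (hsub B (h₁ K fun p hp => Ideal.subset_span (Finset.mem_union_left _ hp)))
    (hsub A' (h₂ K fun p hp => Ideal.subset_span (Finset.mem_union_right _ hp)))
  refine Algebra.FinitePresentation.of_surjective hf ⟨s₁ ∪ s₂, le_antisymm hK fun p hp => ?_⟩
  have hp' : Ideal.Quotient.mk K p ∈ LinearMap.ker g.toLinearMap := hp
  have : (⟨_, hp'⟩ : LinearMap.ker g.toLinearMap) = 0 := Subsingleton.elim _ _
  exact Ideal.Quotient.eq_zero_iff_mem.1 (congrArg Subtype.val this)

/-- Every point of the spectrum of the fibre product factors through one of the factors. -/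
theorem exists_algHom_field (h : EtMil.IsFibreSquare B' B A' A) (K : Type u) [Field K] [Algebra B' K] :
    Nonempty (B →ₐ[B'] K) ∨ Nonempty (A' →ₐ[B'] K) := by
  have hw := isWeakSquare_of_isFibreSquare h
  by_cases hJ : RingHom.ker (algebraMap B' B) ≤ RingHom.ker (algebraMap B' K)
  · exact Or.inl ⟨
      { RingHom.liftOfSurjective (algebraMap B' B) hw.proj_surjective ⟨algebraMap B' K, hJ⟩ with
        commutes' := fun r => RingHom.liftOfRightInverse_comp_apply _ _ _ _ r }⟩
  obtain ⟨j, hj, hjK⟩ := SetLike.not_le_iff_exists.1 hJ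
  have hI : algebraMap A' A (algebraMap B' A' j) = 0 := by
    rw [← IsScalarTower.algebraMap_apply, IsScalarTower.algebraMap_apply B' B A,
      RingHom.mem_ker.1 hj, map_zero]
  have hex : ∀ a : A', ∃ l : B', algebraMap B' B l = 0 ∧
      algebraMap B' A' l = algebraMap B' A' j * a := fun a =>
    hw.lift 0 _ (by rw [map_zero, map_mul, hI, zero_mul])
  choose L hL₁ hL₂ using hex
  have hjK' : algebraMap B' K j ≠ 0 := hjK
  have hadd : ∀ a b, L (a + b) = L a + L b := fun a b =>
    eq_of_map_eq h (by simp [hL₁]) (by simp [hL₂, mul_add])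
  have hmul : ∀ a b, j * L (a * b) = L a * L b := fun a b =>
    eq_of_map_eq h (by simp [hL₁, RingHom.mem_ker.1 hj]) (by simp [hL₂]; ring)
  have hlin : ∀ b : B', L (algebraMap B' A' b) = j * b := fun b =>
    eq_of_map_eq h (by simp [hL₁, RingHom.mem_ker.1 hj]) (by simp [hL₂])
  refine Or.inr ⟨
    { toFun := fun a => algebraMap B' K (L a) / algebraMap B' K j
      map_one' := by
        rw [← map_one (algebraMap B' A'), hlin, mul_one, div_self hjK']
      map_mul' := fun a b => by
        rw [div_mul_div_comm, ← map_mul, ← hmul, map_mul,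
          mul_div_mul_left _ _ hjK']
      map_zero' := by
        rw [← map_zero (algebraMap B' A'), hlin, mul_zero, map_zero, zero_div]
      map_add' := fun a b => by rw [hadd, map_add, add_div]
      commutes' := fun b => by
        show algebraMap B' K (L (algebraMap B' A' b)) / algebraMap B' K j = _
        rw [hlin, map_mul, mul_div_cancel_left₀ _ hjK'] }⟩

/-- Smoothness descends along a fibre square. -/
theorem smooth_of_square (h : EtMil.IsFibreSquare B' B A' A) [Module.Flat B' E]
    [Algebra.Smooth B (B ⊗[B'] E)] [Algebra.Smooth A' (A' ⊗[B'] E)] : Algebra.Smooth B' E := by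
  haveI := finitePresentation_of_square (E := E) h
  refine Algebra.Smooth.of_formallySmooth_fiber fun p _ => ?_
  rcases exists_algHom_field h p.ResidueField with ⟨⟨g⟩⟩ | ⟨⟨g⟩⟩
  all_goals
    letI := g.toRingHom.toAlgebra
    first
    | haveI : IsScalarTower B' B p.ResidueField := IsScalarTower.of_algebraMap_eq fun x => (g.commutes x).symm
      exact Algebra.FormallySmooth.of_equiv
        (Algebra.TensorProduct.cancelBaseChange B' B p.ResidueField p.ResidueField E)
    | haveI : IsScalarTower B' A' p.ResidueField := IsScalarTower.of_algebraMap_eq fun x => (g.commutes x).symm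
      exact Algebra.FormallySmooth.of_equiv
        (Algebra.TensorProduct.cancelBaseChange B' A' p.ResidueField p.ResidueField E)

/-- Étaleness descends along a fibre square. -/
theorem etale_of_square (h : EtMil.IsFibreSquare B' B A' A) [Module.Flat B' E]
    [Algebra.Etale B (B ⊗[B'] E)] [Algebra.Etale A' (A' ⊗[B'] E)] : Algebra.Etale B' E := by
  haveI := finitePresentation_of_square (E := E) h
  have hsub : ∀ (R : Type u) [CommRing R] [Algebra B' R] [Algebra.Etale R (R ⊗[B'] E)],
      Subsingleton (R ⊗[B'] Ω[E⁄B']) := by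
    intro R _ _ _
    letI : Algebra E (R ⊗[B'] E) := Algebra.TensorProduct.rightAlgebra
    haveI : Algebra.IsPushout B' R E (R ⊗[B'] E) := inferInstance
    exact (KaehlerDifferential.tensorKaehlerEquivBase B' R E (R ⊗[B'] E)).toEquiv.subsingleton
  haveI : Algebra.FormallyUnramified B' E :=
    ⟨Glue24.Milnor.subsingleton_of_subsingleton h (hsub B) (hsub A')⟩
  exact Algebra.Etale.of_formallyUnramified_of_flat

end Groth.Agent.EtAlg23
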