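import Groth.Agent.EtAlg23.Milnor
import Groth.Agent.Glue24.SurjTor
import Mathlib.RingTheory.TensorProduct.Pi
import Mathlib.LinearAlgebra.TensorProduct.Pi
import Mathlib.RingTheory.IsTensorProduct
import Mathlib.RingTheory.Finiteness.Finsupp
import Mathlib.RingTheory.Flat.Stability
import Mathlib.Algebra.Module.FinitePresentation
import Mathlib.RingTheory.FinitePresentation
import Mathlib.RingTheory.Finiteness.Ideal

/-! Finite presentation of glued modules in the relative situation. -/

set_option autoImplicit false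
set_option linter.style.haveILetI false
universe u

open TensorProduct

namespace Groth.Agent.EtAlg23

section Abstract

variable {P Q Q' QA : Type u} [CommRing P] [CommRing Q] [CommRing Q'] [CommRing QA]
  [Algebra P Q] [Algebra P Q'] [Algebra Q QA] [Algebra Q' QA] [Algebra P QA]
  [IsScalarTower P Q QA] [IsScalarTower P Q' QA] {n : ℕ}

/-- Gluing finitely generated modules of relations over a fibre square. -/
theorem fg_relations (h : EtMil.IsFibreSquare P Q Q' QA) (S : Submodule Q (Fin n → Q))
    (S' : Submodule Q' (Fin n → Q')) (hS : S.FG) (hS' : S'.FG)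
    (hlift : ∀ v ∈ S, ∃ w ∈ S', ∀ i, algebraMap Q QA (v i) = algebraMap Q' QA (w i))
    (hA : ∀ w ∈ S', (Algebra.linearMap Q' QA).compLeft (Fin n) w ∈
      Submodule.span QA ((Algebra.linearMap Q QA).compLeft (Fin n) '' (S : Set (Fin n → Q))))
    (hTor : ∀ w ∈ S', (∀ i, algebraMap Q' QA (w i) = 0) →
      w ∈ RingHom.ker (algebraMap Q' QA) • S') :
    ((S.restrictScalars P).comap ((Algebra.linearMap P Q).compLeft (Fin n)) ⊓
      (S'.restrictScalars P).comap ((Algebra.linearMap P Q').compLeft (Fin n))).FG := by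
  classical
  let p₁ : (Fin n → P) →ₗ[P] (Fin n → Q) := (Algebra.linearMap P Q).compLeft (Fin n)
  let p₂ : (Fin n → P) →ₗ[P] (Fin n → Q') := (Algebra.linearMap P Q').compLeft (Fin n)
  let K := (S.restrictScalars P).comap p₁ ⊓ (S'.restrictScalars P).comap p₂
  have hw := isWeakSquare_of_isFibreSquare h
  have hpair : ∀ (v : Fin n → Q) (w : Fin n → Q'),
      (∀ i, algebraMap Q QA (v i) = algebraMap Q' QA (w i)) → ∃ x, p₁ x = v ∧ p₂ x = w := by
    intro v w hvw
    choose x hx₁ hx₂ using fun i => hw.lift (v i) (w i) (hvw i)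
    exact ⟨x, funext hx₁, funext hx₂⟩
  have hinj : ∀ x, p₁ x = 0 → p₂ x = 0 → x = 0 := fun x h₁ h₂ => funext fun i =>
    eq_of_map_eq h (by simpa [p₁] using congrFun h₁ i) (by simpa [p₂] using congrFun h₂ i)
  obtain ⟨s, hs⟩ := hS
  obtain ⟨s', hs'⟩ := hS'
  have hsS : ∀ v ∈ s, v ∈ S := fun v hv => hs ▸ Submodule.subset_span hv
  have hsS' : ∀ w ∈ s', w ∈ S' := fun w hw => hs' ▸ Submodule.subset_span hw
  choose! lw hlw hlw' using hlift
  choose! xv hxv₁ hxv₂ using fun v (hv : v ∈ S) => hpair v (lw v) (hlw' v hv)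
  let A₀ : Submodule Q' (Fin n → Q') := Submodule.span Q' (lw '' (s : Set (Fin n → Q)))
  have hA₀ : A₀ ≤ S' := Submodule.span_le.2 (by rintro _ ⟨v, hv, rfl⟩; exact hlw v (hsS v hv))
  have hdec : ∀ w ∈ S', ∃ u ∈ A₀, ∀ i, algebraMap Q' QA (u i) = algebraMap Q' QA (w i) := by
    intro w hw'
    have hspan : Submodule.span QA ((Algebra.linearMap Q QA).compLeft (Fin n) ''
        (S : Set (Fin n → Q))) ≤ Submodule.span QA ((Algebra.linearMap Q' QA).compLeft (Fin n) ''
        (A₀ : Set (Fin n → Q'))) := by
      rw [Submodule.span_le]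
      rintro _ ⟨v, hv, rfl⟩
      rw [← hs] at hv
      induction hv using Submodule.span_induction with
      | mem v hv =>
        refine Submodule.subset_span ⟨lw v, Submodule.subset_span ⟨v, hv, rfl⟩, ?_⟩
        exact funext fun i => (hlw' v (hsS v hv) i).symm
      | zero => rw [map_zero]; exact zero_mem _
      | add a b _ _ ha hb => rw [map_add]; exact add_mem ha hb
      | smul c a _ ha =>
        rw [map_smul, ← IsScalarTower.algebraMap_smul QA c]
        exact Submodule.smul_mem _ _ ha
    have hmem := hspan (hA w hw')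
    suffices ∀ z ∈ Submodule.span QA ((Algebra.linearMap Q' QA).compLeft (Fin n) ''
        (A₀ : Set (Fin n → Q'))), ∃ u ∈ A₀, (Algebra.linearMap Q' QA).compLeft (Fin n) u = z by
      obtain ⟨u, hu, hu'⟩ := this _ hmem
      exact ⟨u, hu, fun i => congrFun hu' i⟩
    intro z hz
    induction hz using Submodule.span_induction with
    | mem z hz => exact hz
    | zero => exact ⟨0, zero_mem _, map_zero _⟩
    | add a b _ _ ha hb =>
      obtain ⟨u₁, hu₁, e₁⟩ := ha
      obtain ⟨u₂, hu₂, e₂⟩ := hb
      exact ⟨u₁ + u₂, add_mem hu₁ hu₂, by rw [map_add, e₁, e₂]⟩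
    | smul c a _ ha =>
      obtain ⟨u, hu, e⟩ := ha
      obtain ⟨c, rfl⟩ := hw.surj c
      exact ⟨c • u, Submodule.smul_mem _ _ hu, by rw [map_smul, e, algebraMap_smul]⟩
  choose! ua hua hua' using hdec
  choose! zw hzw₁ hzw₂ using fun w (hw' : w ∈ S') => hpair 0 (w - ua w) (fun i => by
    rw [Pi.zero_apply, map_zero, Pi.sub_apply, map_sub, hua' w hw' i, sub_self])
  let K' : Submodule P (Fin n → P) := Submodule.span P (↑(s.image xv ∪ s'.image zw))
  suffices K = K' by
    change K.FG
    rw [this]
    exact Submodule.fg_span (Finset.finite_toSet _)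
  have hK'K : K' ≤ K := by
    rw [Submodule.span_le]
    intro x hx
    rcases Finset.mem_union.1 hx with hx | hx
    · obtain ⟨v, hv, rfl⟩ := Finset.mem_image.1 hx
      refine ⟨?_, ?_⟩
      · show p₁ _ ∈ S; rw [hxv₁ v (hsS v hv)]; exact hsS v hv
      · show p₂ _ ∈ S'; rw [hxv₂ v (hsS v hv)]; exact hlw v (hsS v hv)
    · obtain ⟨w, hw', rfl⟩ := Finset.mem_image.1 hx
      refine ⟨?_, ?_⟩
      · show p₁ _ ∈ S; rw [hzw₁ w (hsS' w hw')]; exact zero_mem _
      · show p₂ _ ∈ S'; rw [hzw₂ w (hsS' w hw')]
        exact sub_mem (hsS' w hw') (hA₀ (hua w (hsS' w hw')))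
  let W : Submodule Q' (Fin n → Q') := Submodule.span Q' (p₂ '' (K' : Set (Fin n → P)))
  have hW : S' ≤ W := by
    rw [← hs', Submodule.span_le]
    intro w hw'
    have hA₀W : A₀ ≤ W := Submodule.span_le.2 (by
      rintro _ ⟨v, hv, rfl⟩
      exact Submodule.subset_span ⟨xv v, Submodule.subset_span
        (Finset.mem_union_left _ (Finset.mem_image_of_mem _ hv)), hxv₂ v (hsS v hv)⟩)
    have h1 : w - ua w ∈ W := Submodule.subset_span ⟨zw w, Submodule.subset_span
      (Finset.mem_union_right _ (Finset.mem_image_of_mem _ hw')), hzw₂ w (hsS' w hw')⟩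
    simpa using W.add_mem h1 (hA₀W (hua w (hsS' w hw')))
  have hI : ∀ k ∈ W, ∀ q ∈ RingHom.ker (algebraMap Q' QA), ∃ z ∈ K', p₁ z = 0 ∧ p₂ z = q • k := by
    intro k hk
    induction hk using Submodule.span_induction with
    | mem k hk =>
      obtain ⟨x, hx, rfl⟩ := hk
      intro q hq
      obtain ⟨j, hj, hj'⟩ := hw.lift_ker hq
      refine ⟨j • x, Submodule.smul_mem _ _ hx, ?_, ?_⟩
      · rw [map_smul, ← IsScalarTower.algebraMap_smul Q j, hj, zero_smul]
      · rw [map_smul, ← IsScalarTower.algebraMap_smul Q' j, hj']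
    | zero => exact fun q _ => ⟨0, zero_mem _, map_zero _, by rw [map_zero, smul_zero]⟩
    | add a b _ _ ha hb =>
      intro q hq
      obtain ⟨z₁, hz₁, e₁, e₁'⟩ := ha q hq
      obtain ⟨z₂, hz₂, e₂, e₂'⟩ := hb q hq
      exact ⟨z₁ + z₂, add_mem hz₁ hz₂, by rw [map_add, e₁, e₂, add_zero],
        by rw [map_add, e₁', e₂', smul_add]⟩
    | smul a k _ ha =>
      intro q hq
      obtain ⟨z, hz, e, e'⟩ := ha (q * a) (Ideal.mul_mem_right _ _ hq)
      exact ⟨z, hz, e, by rw [e', mul_smul]⟩
  refine le_antisymm (fun x hx => ?_) hK'K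
  obtain ⟨y, hy, hy'⟩ : ∃ y ∈ K', p₁ y = p₁ x := by
    have hx₁ : p₁ x ∈ S := hx.1
    rw [← hs] at hx₁
    generalize p₁ x = v at hx₁ ⊢
    induction hx₁ using Submodule.span_induction with
    | mem v hv =>
      exact ⟨xv v, Submodule.subset_span
        (Finset.mem_union_left _ (Finset.mem_image_of_mem _ hv)), hxv₁ v (hsS v hv)⟩
    | zero => exact ⟨0, zero_mem _, map_zero _⟩
    | add a b _ _ ha hb =>
      obtain ⟨u₁, hu₁, e₁⟩ := ha
      obtain ⟨u₂, hu₂, e₂⟩ := hb
      exact ⟨u₁ + u₂, add_mem hu₁ hu₂, by rw [map_add, e₁, e₂]⟩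
    | smul c a _ ha =>
      obtain ⟨u, hu, e⟩ := ha
      obtain ⟨c, rfl⟩ := hw.proj_surjective c
      exact ⟨c • u, Submodule.smul_mem _ _ hu, by rw [map_smul, e, algebraMap_smul]⟩
  have hd₂ : p₂ (x - y) ∈ S' := sub_mem hx.2 (hK'K hy).2 |> fun h => by simpa [map_sub] using h
  have hd₁ : p₁ (x - y) = 0 := by rw [map_sub, hy', sub_self]
  have hd₀ : ∀ i, algebraMap Q' QA (p₂ (x - y) i) = 0 := fun i => by
    have h0 : algebraMap P Q ((x - y) i) = 0 := congrFun hd₁ i
    show algebraMap Q' QA (algebraMap P Q' ((x - y) i)) = 0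
    rw [← IsScalarTower.algebraMap_apply, IsScalarTower.algebraMap_apply P Q QA, h0, map_zero]
  obtain ⟨z, hz, hz₁, hz₂⟩ : ∃ z ∈ K', p₁ z = 0 ∧ p₂ z = p₂ (x - y) := by
    refine Submodule.smul_induction_on (hTor _ hd₂ hd₀) (fun q hq k hk => hI k (hW hk) q hq)
      fun a b ha hb => ?_
    obtain ⟨z₁, hz₁, e₁, e₁'⟩ := ha
    obtain ⟨z₂, hz₂, e₂, e₂'⟩ := hb
    exact ⟨z₁ + z₂, add_mem hz₁ hz₂, by rw [map_add, e₁, e₂, add_zero], by rw [map_add, e₁', e₂']⟩
  have : x - y = z := sub_eq_zero.1 (hinj _ (by rw [map_sub, hd₁, hz₁, sub_zero])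
    (by rw [map_sub _ (x - y), hz₂, sub_self]))
  rw [sub_eq_iff_eq_add] at this
  exact this ▸ add_mem hz hy

end Abstract

section Kernels

variable {R S P D DS : Type u} [CommRing R] [CommRing S] [CommRing P] [CommRing D] [CommRing DS]
  [Algebra R S] [Algebra R P] [Algebra R D] [Algebra S DS] [Algebra D DS] [Algebra R DS]
  [IsScalarTower R S DS] [IsScalarTower R D DS] [Algebra.IsPushout R S D DS]

/-- The map `S ⊗ P → D_S` of a base change of a quotient map `P → D`. -/
noncomputable def baseChangeHom (S DS : Type u) [CommRing S] [CommRing DS] [Algebra R S]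
    [Algebra S DS] [Algebra D DS] [Algebra R DS] [IsScalarTower R S DS] [IsScalarTower R D DS]
    (f : P →ₐ[R] D) : S ⊗[R] P →ₐ[S] DS :=
  Algebra.TensorProduct.lift (Algebra.ofId S DS) ((IsScalarTower.toAlgHom R D DS).comp f)
    fun _ _ => Commute.all _ _

theorem baseChangeHom_surjective_ker (f : P →ₐ[R] D) (hf : Function.Surjective f) :
    Function.Surjective (baseChangeHom S DS f) ∧
      RingHom.ker (baseChangeHom S DS f) =
        (RingHom.ker f).map (Algebra.TensorProduct.includeRight : P →ₐ[R] S ⊗[R] P) := by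
  have e := (Algebra.IsPushout.out : IsBaseChange S (IsScalarTower.toAlgHom R D DS).toLinearMap)
  have key : ∀ z, baseChangeHom S DS f z =
      e.equiv (Algebra.TensorProduct.map (AlgHom.id R S) f z) := fun z => by
    induction z using TensorProduct.induction_on with
    | zero => simp
    | tmul s p => simp [baseChangeHom, IsBaseChange.equiv_tmul, Algebra.smul_def]
    | add a b ha hb => simp only [map_add, ha, hb]
  refine ⟨fun c => ?_, ?_⟩
  · obtain ⟨z, hz⟩ := LinearMap.lTensor_surjective (R := R) S (g := f.toLinearMap) hf (e.equiv.symm c)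
    refine ⟨z, ?_⟩
    rw [key]
    exact (congrArg e.equiv hz).trans (e.equiv.apply_symm_apply c)
  · rw [← Algebra.TensorProduct.lTensor_ker _ hf]
    ext z
    rw [RingHom.mem_ker, RingHom.mem_ker, key, LinearEquiv.map_eq_zero_iff]

end Kernels

section Main

variable {B' B A' A : Type u} [CommRing B'] [CommRing B] [CommRing A'] [CommRing A]
  [Algebra B' B] [Algebra B' A'] [Algebra B A] [Algebra A' A] [Algebra B' A]
  [IsScalarTower B' B A] [IsScalarTower B' A' A]
  {D' D C' C : Type u} [CommRing D'] [CommRing D] [CommRing C'] [CommRing C]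
  [Algebra B' D'] [Algebra B D] [Algebra A' C'] [Algebra A C]
  [Algebra D' D] [Algebra B' D] [IsScalarTower B' B D] [IsScalarTower B' D' D] [Algebra.IsPushout B' B D' D]
  [Algebra D' C'] [Algebra B' C'] [IsScalarTower B' A' C'] [IsScalarTower B' D' C'] [Algebra.IsPushout B' A' D' C']
  [Algebra D' C] [Algebra B' C] [IsScalarTower B' A C] [IsScalarTower B' D' C] [Algebra.IsPushout B' A D' C]
  [Algebra D C] [IsScalarTower D' D C] [Algebra B C] [IsScalarTower B A C] [IsScalarTower B D C]
  [Algebra C' C] [IsScalarTower D' C' C] [Algebra A' C] [IsScalarTower A' A C] [IsScalarTower A' C' C]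

omit [Algebra D C] [IsScalarTower D' D C] [Algebra B C] [IsScalarTower B A C] [IsScalarTower B D C]
  [Algebra B A] [IsScalarTower B' B A] [Algebra B' B] [Algebra B D] [Algebra D' D] [Algebra B' D]
  [IsScalarTower B' B D] [IsScalarTower B' D' D] [Algebra.IsPushout B' B D' D] in
include B' D' A in
theorem surjective_corner (hs : Function.Surjective (algebraMap A' A)) :
    Function.Surjective (algebraMap C' C) := fun c => by
  have hb := (Algebra.IsPushout.out : IsBaseChange A (IsScalarTower.toAlgHom B' D' C).toLinearMap)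
  induction c using hb.inductionOn with
  | zero => exact ⟨0, map_zero _⟩
  | tmul d => exact ⟨algebraMap D' C' d, (IsScalarTower.algebraMap_apply D' C' C d).symm⟩
  | smul a x hx =>
    obtain ⟨c', rfl⟩ := hx
    obtain ⟨a', rfl⟩ := hs a
    exact ⟨algebraMap A' C' a' * c', by
      rw [map_mul, ← IsScalarTower.algebraMap_apply A' C' C, IsScalarTower.algebraMap_apply A' A C,
        Algebra.smul_def]⟩
  | add x y hx hy =>
    obtain ⟨u, rfl⟩ := hx
    obtain ⟨v, rfl⟩ := hy
    exact ⟨u + v, map_add _ _ _⟩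

theorem isWeakSquare_pushout (h : EtMil.IsFibreSquare B' B A' A) : IsWeakSquare D' D C' C := by
  refine ⟨surjective_corner (B' := B') (D' := D') (A := A) (C := C) h.1, fun d c' hdc => ?_⟩
  have eB := (Algebra.IsPushout.out : IsBaseChange B (IsScalarTower.toAlgHom B' D' D).toLinearMap)
  have eA' := (Algebra.IsPushout.out : IsBaseChange A' (IsScalarTower.toAlgHom B' D' C').toLinearMap)
  have eA := (Algebra.IsPushout.out : IsBaseChange A (IsScalarTower.toAlgHom B' D' C).toLinearMap)
  have hB : ∀ x, eA.equiv ((IsScalarTower.toAlgHom B' B A).toLinearMap.rTensor D' x) =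
      algebraMap D C (eB.equiv x) := fun x => by
    induction x using TensorProduct.induction_on with
    | zero => simp
    | tmul b l => simp [IsBaseChange.equiv_tmul, Algebra.smul_def, ← IsScalarTower.algebraMap_apply]
    | add u v hu hv => simp only [map_add, hu, hv]
  have hA' : ∀ x, eA.equiv ((IsScalarTower.toAlgHom B' A' A).toLinearMap.rTensor D' x) =
      algebraMap C' C (eA'.equiv x) := fun x => by
    induction x using TensorProduct.induction_on with
    | zero => simp
    | tmul b l => simp [IsBaseChange.equiv_tmul, Algebra.smul_def, ← IsScalarTower.algebraMap_apply]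
    | add u v hu hv => simp only [map_add, hu, hv]
  obtain ⟨l, hl, hl'⟩ := baseChange_pair_surjective (isWeakSquare_of_isFibreSquare h) D'
    (eB.equiv.symm d) (eA'.equiv.symm c') (eA.equiv.injective (by
      rw [hB, hA', LinearEquiv.apply_symm_apply, LinearEquiv.apply_symm_apply, hdc]))
  refine ⟨l, ?_, ?_⟩
  · simpa [IsBaseChange.equiv_tmul] using congrArg eB.equiv hl
  · simpa [IsBaseChange.equiv_tmul] using congrArg eA'.equiv hl'

variable {N M' : Type u} [AddCommGroup N] [Module D N] [Module D' N] [IsScalarTower D' D N]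
  [AddCommGroup M'] [Module C' M'] [Module D' M'] [IsScalarTower D' C' M']
  [Module A' M'] [IsScalarTower A' C' M']

/-- Finite presentation of the glued module, over a flat presentation of `D'`. -/
theorem finitePresentation_glue (h : EtMil.IsFibreSquare B' B A' A)
    (φ : C ⊗[D] N ≃ₗ[C] C ⊗[C'] M')
    [Module.FinitePresentation D N] [Module.FinitePresentation C' M'] [Module.Flat A' M']
    {P : Type u} [CommRing P] [Algebra B' P] [Module.Flat B' P] (f : P →ₐ[B'] D')
    (hf : Function.Surjective f) (hfg : (RingHom.ker f).FG) :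
    Module.FinitePresentation D' (EtMil.glue D' φ) := by
  classical
  have hwD : IsWeakSquare D' D C' C := isWeakSquare_pushout h
  let G := EtMil.glue D' φ
  haveI : Module.Finite D' G := finite_glue (φ := φ) hwD
  obtain ⟨n, π, hπ⟩ := Module.Finite.exists_fin' D' G
  let g : Fin n → G := fun i => π (Pi.single i 1)
  have hπg : ∀ x : Fin n → D', π x = ∑ i, x i • g i := fun x => by
    conv_lhs => rw [pi_eq_sum_univ' x]
    simp only [map_sum, map_smul, g]
  -- the two projections, over `D` and over `C'`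
  let πD : (Fin n → D) →ₗ[D] N := Fintype.linearCombination D fun i => (g i).1.1
  let πC : (Fin n → C') →ₗ[C'] M' := Fintype.linearCombination C' fun i => (g i).1.2
  have hπD : Function.Surjective πD := by
    intro x
    obtain ⟨y, hy⟩ := exists_mem_glue (φ := φ) hwD x
    obtain ⟨c, hc⟩ := hπ y
    refine ⟨fun i => algebraMap D' D (c i), ?_⟩
    rw [← hy, ← hc, hπg]
    simp only [πD, Fintype.linearCombination_apply, algebraMap_smul, Submodule.coe_sum,
      Submodule.coe_smul, Prod.fst_sum, Prod.smul_fst]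
  have hπC : Function.Surjective πC := by
    intro x
    have hy : x ∈ LinearMap.range πC := by
      obtain ⟨z, rfl⟩ := liftSnd_surjective (φ := φ) hwD x
      induction z using TensorProduct.induction_on with
      | zero => simp
      | tmul a y =>
        rw [LinearMap.liftBaseChange_tmul]
        refine Submodule.smul_mem _ _ ?_
        obtain ⟨c, rfl⟩ := hπ y
        refine ⟨fun i => algebraMap D' C' (c i), ?_⟩
        show _ = (π c).1.2
        rw [hπg]
        simp only [πC, Fintype.linearCombination_apply, algebraMap_smul, Submodule.coe_sum,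
          Submodule.coe_smul, Prod.snd_sum, Prod.smul_snd]
      | add a b ha hb => rw [map_add]; exact add_mem ha hb
    exact hy
  -- the flat square
  let Q := B ⊗[B'] P
  let Q' := A' ⊗[B'] P
  let QA := A ⊗[B'] P
  let sQ : Q →ₐ[B'] QA := Algebra.TensorProduct.map (IsScalarTower.toAlgHom B' B A) (AlgHom.id B' P)
  let sQ' : Q' →ₐ[B'] QA := Algebra.TensorProduct.map (IsScalarTower.toAlgHom B' A' A) (AlgHom.id B' P)
  have hsQt : ∀ (b : B) (p : P), sQ (b ⊗ₜ[B'] p) = algebraMap B A b ⊗ₜ[B'] p := fun _ _ => rfl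
  have hsQ't : ∀ (b : A') (p : P), sQ' (b ⊗ₜ[B'] p) = algebraMap A' A b ⊗ₜ[B'] p := fun _ _ => rfl
  letI algPQ : Algebra P Q := (Algebra.TensorProduct.includeRight : P →ₐ[B'] Q).toRingHom.toAlgebra
  letI algPQ' : Algebra P Q' := (Algebra.TensorProduct.includeRight : P →ₐ[B'] Q').toRingHom.toAlgebra
  letI algPQA : Algebra P QA := (Algebra.TensorProduct.includeRight : P →ₐ[B'] QA).toRingHom.toAlgebra
  letI algQ : Algebra Q QA := sQ.toRingHom.toAlgebra
  letI algQ' : Algebra Q' QA := sQ'.toRingHom.toAlgebra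
  haveI : IsScalarTower P Q QA := IsScalarTower.of_algebraMap_eq fun p => by
    show (1 : A) ⊗ₜ[B'] p = sQ ((1 : B) ⊗ₜ[B'] p)
    rw [hsQt, map_one]
  haveI : IsScalarTower P Q' QA := IsScalarTower.of_algebraMap_eq fun p => by
    show (1 : A) ⊗ₜ[B'] p = sQ' ((1 : A') ⊗ₜ[B'] p)
    rw [hsQ't, map_one]
  have hsQ' : Function.Surjective (algebraMap Q' QA) :=
    LinearMap.rTensor_surjective P (g := (IsScalarTower.toAlgHom B' A' A).toLinearMap) h.1
  have hkerQ' : RingHom.ker (algebraMap Q' QA) =
      (RingHom.ker (algebraMap A' A)).map (algebraMap A' Q') :=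
    Algebra.TensorProduct.rTensor_ker (C := P) (IsScalarTower.toAlgHom B' A' A) h.1
  have hsquare : EtMil.IsFibreSquare P Q Q' QA := by
    refine ⟨hsQ', fun b a hba => ?_⟩
    obtain ⟨p, hp₁, hp₂⟩ := baseChange_pair_surjective (isWeakSquare_of_isFibreSquare h) P b a hba
    refine ⟨p, ⟨hp₁, hp₂⟩, fun q ⟨hq₁, hq₂⟩ => ?_⟩
    let α : B' →ₗ[B'] B × A' := (Algebra.linearMap B' B).prod (Algebra.linearMap B' A')
    have hα : Function.Injective (α.rTensor P) :=
      Module.Flat.rTensor_preserves_injective_linearMap α fun x y hxy =>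
        eq_of_map_eq h (congrArg Prod.fst hxy) (congrArg Prod.snd hxy)
    refine (TensorProduct.lid B' P).symm.injective (hα ((TensorProduct.prodLeft B' B' B A' P).injective ?_))
    have hval : ∀ x : P, TensorProduct.prodLeft B' B' B A' P
        (α.rTensor P ((TensorProduct.lid B' P).symm x)) = ((1 : B) ⊗ₜ[B'] x, (1 : A') ⊗ₜ[B'] x) := by
      intro x
      rw [TensorProduct.lid_symm_apply, LinearMap.rTensor_tmul]
      rw [show α 1 = ((1 : B), (1 : A')) from Prod.ext (map_one (algebraMap B' B)) (map_one (algebraMap B' A'))]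
      rfl
    rw [hval, hval]
    exact Prod.ext (hq₁.trans hp₁.symm) (hq₂.trans hp₂.symm)
  let fB : Q →ₐ[B] D := baseChangeHom B D f
  let fA' : Q' →ₐ[A'] C' := baseChangeHom A' C' f
  let fA : QA →ₐ[A] C := baseChangeHom A C f
  obtain ⟨hfB, hkB⟩ := baseChangeHom_surjective_ker (S := B) (DS := D) f hf
  obtain ⟨hfA', hkA'⟩ := baseChangeHom_surjective_ker (S := A') (DS := C') f hf
  obtain ⟨hfA, hkA⟩ := baseChangeHom_surjective_ker (S := A) (DS := C) f hf
  have hfPB : ∀ p, fB (algebraMap P Q p) = algebraMap D' D (f p) := fun p => by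
    show baseChangeHom B D f ((1 : B) ⊗ₜ[B'] p) = _
    simp [baseChangeHom]
  have hfPA' : ∀ p, fA' (algebraMap P Q' p) = algebraMap D' C' (f p) := fun p => by
    show baseChangeHom A' C' f ((1 : A') ⊗ₜ[B'] p) = _
    simp [baseChangeHom]
  have hfBA : ∀ z, fA (algebraMap Q QA z) = algebraMap D C (fB z) := fun z => by
    show baseChangeHom A C f (sQ z) = algebraMap D C (baseChangeHom B D f z)
    induction z using TensorProduct.induction_on with
    | zero => simp
    | tmul b p =>
      rw [hsQt]
      simp [baseChangeHom, ← IsScalarTower.algebraMap_apply]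
    | add a b ha hb => simp only [map_add, ha, hb]
  have hfA'A : ∀ z, fA (algebraMap Q' QA z) = algebraMap C' C (fA' z) := fun z => by
    show baseChangeHom A C f (sQ' z) = algebraMap C' C (baseChangeHom A' C' f z)
    induction z using TensorProduct.induction_on with
    | zero => simp
    | tmul b p =>
      rw [hsQ't]
      simp [baseChangeHom, ← IsScalarTower.algebraMap_apply]
    | add a b ha hb => simp only [map_add, ha, hb]
  -- relations over `Q` and over `Q'`
  letI : Algebra Q D := fB.toRingHom.toAlgebra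
  letI : Algebra Q' C' := fA'.toRingHom.toAlgebra
  let ψ : (Fin n → Q) →ₗ[Q] (Fin n → D) := (Algebra.linearMap Q D).compLeft (Fin n)
  let ψ' : (Fin n → Q') →ₗ[Q'] (Fin n → C') := (Algebra.linearMap Q' C').compLeft (Fin n)
  let S : Submodule Q (Fin n → Q) := ((LinearMap.ker πD).restrictScalars Q).comap ψ
  let S' : Submodule Q' (Fin n → Q') := ((LinearMap.ker πC).restrictScalars Q').comap ψ'
  have hψ : Function.Surjective ψ := fun v => by
    choose w hw using fun i => hfB (v i)
    exact ⟨w, funext hw⟩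
  have hψ' : Function.Surjective ψ' := fun v => by
    choose w hw using fun i => hfA' (v i)
    exact ⟨w, funext hw⟩
  have hSfg : S.FG := by
    refine Submodule.fg_of_fg_map_of_fg_inf_ker ψ ?_ ?_
    · rw [Submodule.map_comap_eq_of_surjective hψ]
      exact (Module.FinitePresentation.fg_ker πD hπD).restrictScalars_of_surjective hfB
    · have : LinearMap.ker ψ = Submodule.pi Set.univ fun _ : Fin n => RingHom.ker fB := by
        ext v; simp [ψ, funext_iff, RingHom.mem_ker]; rfl
      rw [inf_eq_right.2 (fun v hv => by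
        show ψ v ∈ LinearMap.ker πD
        rw [LinearMap.mem_ker.1 hv]; exact zero_mem _), this]
      exact Submodule.fg_pi fun _ => hkB ▸ hfg.map _
  have hS'fg : S'.FG := by
    refine Submodule.fg_of_fg_map_of_fg_inf_ker ψ' ?_ ?_
    · rw [Submodule.map_comap_eq_of_surjective hψ']
      exact (Module.FinitePresentation.fg_ker πC hπC).restrictScalars_of_surjective hfA'
    · have : LinearMap.ker ψ' = Submodule.pi Set.univ fun _ : Fin n => RingHom.ker fA' := by
        ext v; simp [ψ', funext_iff, RingHom.mem_ker]; rfl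
      rw [inf_eq_right.2 (fun v hv => by
        show ψ' v ∈ LinearMap.ker πC
        rw [LinearMap.mem_ker.1 hv]; exact zero_mem _), this]
      exact Submodule.fg_pi fun _ => hkA' ▸ hfg.map _
  -- compatibility through `φ`
  have hcompat : ∀ (v : Fin n → D) (w : Fin n → C'),
      (∀ i, algebraMap D C (v i) = algebraMap C' C (w i)) →
        φ ((1 : C) ⊗ₜ[D] πD v) = (1 : C) ⊗ₜ[C'] πC w := by
    intro v w hvw
    simp only [πD, πC, Fintype.linearCombination_apply, TensorProduct.tmul_sum, map_sum,
      TensorProduct.tmul_smul]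
    refine Finset.sum_congr rfl fun i _ => ?_
    rw [← algebraMap_smul C (v i), map_smul, mem_glue.1 (g i).2, hvw i, algebraMap_smul]
  have hkerC : ∀ c : C', algebraMap C' C c = 0 → ∃ q : Q', algebraMap Q' QA q = 0 ∧ fA' q = c := by
    intro c hc
    obtain ⟨q₀, rfl⟩ := hfA' c
    have h0 : algebraMap Q' QA q₀ ∈ (RingHom.ker fA').map (algebraMap Q' QA) := by
      have h1 : algebraMap Q' QA q₀ ∈ RingHom.ker fA := by rw [RingHom.mem_ker, hfA'A, hc]
      rw [hkA] at h1
      refine (Ideal.map_le_iff_le_comap.2 fun p hp => ?_) h1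
      rw [Ideal.mem_comap, Algebra.TensorProduct.includeRight_apply]
      have : (1 : A) ⊗ₜ[B'] p = algebraMap Q' QA ((1 : A') ⊗ₜ[B'] p) := by
        show _ = sQ' _; rw [hsQ't, map_one]
      rw [this]
      refine Ideal.mem_map_of_mem _ ?_
      rw [RingHom.mem_ker]
      show baseChangeHom A' C' f ((1 : A') ⊗ₜ[B'] p) = 0
      simp [baseChangeHom, RingHom.mem_ker.1 hp]
    obtain ⟨r, hr, hr'⟩ := (Ideal.mem_map_iff_of_surjective _ hsQ').1 h0
    exact ⟨q₀ - r, by rw [map_sub, hr', sub_self], by rw [map_sub, RingHom.mem_ker.1 hr, sub_zero]⟩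
  have hlift : ∀ v ∈ S, ∃ w ∈ S', ∀ i, algebraMap Q QA (v i) = algebraMap Q' QA (w i) := by
    intro v hv
    choose w₀ hw₀ using fun i => hsQ' (algebraMap Q QA (v i))
    have h1 : (1 : C) ⊗ₜ[C'] πC (fun i => fA' (w₀ i)) = 0 := by
      rw [← hcompat (fun i => fB (v i)) _ fun i => by rw [← hfBA, ← hfA'A, hw₀]]
      have hv' : πD (fun i => fB (v i)) = 0 := hv
      rw [hv', TensorProduct.tmul_zero, map_zero]
    rw [one_tmul_eq_zero_of_surjective hwD.surj] at h1
    obtain ⟨u, hu, hu'⟩ : ∃ u : Fin n → Q', (∀ i, algebraMap Q' QA (u i) = 0) ∧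
        πC (fun i => fA' (u i)) = πC fun i => fA' (w₀ i) := by
      generalize πC (fun i => fA' (w₀ i)) = m at h1 ⊢
      refine Submodule.smul_induction_on h1 (fun c hc m' _ => ?_) fun a b ha hb => ?_
      · obtain ⟨q, hq, hq'⟩ := hkerC c hc
        obtain ⟨x, hx⟩ := hπC m'
        choose x' hx' using fun i => hfA' (x i)
        refine ⟨fun i => q * x' i, fun i => by rw [map_mul, hq, zero_mul], ?_⟩
        rw [← hx, ← map_smul]
        congr 1
        funext i
        rw [map_mul, hq', hx', Pi.smul_apply, smul_eq_mul]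
      · obtain ⟨u₁, h₁, e₁⟩ := ha
        obtain ⟨u₂, h₂, e₂⟩ := hb
        refine ⟨fun i => u₁ i + u₂ i, fun i => by rw [map_add, h₁, h₂, add_zero], ?_⟩
        rw [← e₁, ← e₂, ← map_add]
        congr 1
        funext i
        rw [map_add, Pi.add_apply]
    refine ⟨fun i => w₀ i - u i, ?_, fun i => by rw [map_sub, hu, sub_zero, hw₀]⟩
    show πC (fun i => fA' (w₀ i - u i)) = 0
    have : (fun i => fA' (w₀ i - u i)) = (fun i => fA' (w₀ i)) - fun i => fA' (u i) :=
      funext fun i => by rw [map_sub, Pi.sub_apply]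
    rw [this, map_sub, hu', sub_self]
  have hA : ∀ w ∈ S', (Algebra.linearMap Q' QA).compLeft (Fin n) w ∈
      Submodule.span QA ((Algebra.linearMap Q QA).compLeft (Fin n) '' (S : Set (Fin n → Q))) := by
    intro w hw
    letI : Algebra QA C := fA.toRingHom.toAlgebra
    let U := Submodule.span QA ((Algebra.linearMap Q QA).compLeft (Fin n) '' (S : Set (Fin n → Q)))
    let ψA : (Fin n → QA) →ₗ[QA] (Fin n → C) := (Algebra.linearMap QA C).compLeft (Fin n)
    -- the kernel of `QA^n → C^n` lies in `U`
    have hker : LinearMap.ker ψA ≤ U := by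
      intro x hx
      rw [← Finset.univ_sum_single x]
      refine sum_mem fun i _ => ?_
      have hxi : x i ∈ RingHom.ker fA := congrFun (LinearMap.mem_ker.1 hx) i
      rw [hkA] at hxi
      suffices ∀ a ∈ (RingHom.ker f).map (Algebra.TensorProduct.includeRight : P →ₐ[B'] QA),
          Pi.single i a ∈ U from this _ hxi
      intro a ha
      induction ha using Submodule.span_induction with
      | mem a ha =>
        obtain ⟨p, hp, rfl⟩ := ha
        refine Submodule.subset_span ⟨Pi.single i ((1 : B) ⊗ₜ[B'] p), ?_, ?_⟩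
        · show πD (fun j => fB ((Pi.single i ((1 : B) ⊗ₜ[B'] p) : Fin n → Q) j)) = 0
          have h0 : (fun j => fB ((Pi.single i ((1 : B) ⊗ₜ[B'] p) : Fin n → Q) j)) = 0 := funext fun j => by
            rcases eq_or_ne j i with rfl | hj
            · rw [Pi.single_eq_same, Pi.zero_apply]
              show baseChangeHom B D f _ = 0
              simp [baseChangeHom, RingHom.mem_ker.1 hp]
            · rw [Pi.single_eq_of_ne hj, map_zero, Pi.zero_apply]
          rw [h0, map_zero]
        · funext j
          show algebraMap Q QA _ = _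
          rcases eq_or_ne j i with rfl | hj
          · rw [Pi.single_eq_same, Pi.single_eq_same]
            show sQ _ = _
            rw [hsQt, map_one]; rfl
          · rw [Pi.single_eq_of_ne hj, Pi.single_eq_of_ne hj, map_zero]
      | zero => rw [Pi.single_zero]; exact zero_mem _
      | add a b _ _ ha hb => rw [Pi.single_add]; exact add_mem ha hb
      | smul c a _ ha => rw [Pi.single_smul]; exact Submodule.smul_mem _ c ha
    let z : C ⊗[D] (Fin n → D) := (TensorProduct.piScalarRight D C C (Fin n)).symm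
      fun i => algebraMap C' C (fA' (w i))
    have hz : ((LinearMap.ker πD).subtype.lTensor C).range.restrictScalars D = (πD.lTensor C).ker.restrictScalars D := by
      rw [(lTensor_exact C (LinearMap.exact_subtype_ker_map πD) hπD).linearMap_ker_eq]
    have hzker : πD.lTensor C z = 0 := by
      have hzsum : z = ∑ i, algebraMap C' C (fA' (w i)) ⊗ₜ[D] Pi.single i (1 : D) := by
        simp only [z]
        rw [LinearEquiv.symm_apply_eq, map_sum]
        funext j
        simp [Finset.sum_apply, Pi.single_apply, eq_comm]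
      refine φ.injective ?_
      rw [map_zero, hzsum]
      simp only [map_sum, LinearMap.lTensor_tmul]
      have : ∀ i, φ (algebraMap C' C (fA' (w i)) ⊗ₜ[D] πD (Pi.single i 1)) =
          (1 : C) ⊗ₜ[C'] (fA' (w i) • (g i).1.2) := fun i => by
        rw [show πD (Pi.single i 1) = (g i).1.1 by simp [πD, Fintype.linearCombination_apply_single],
          show algebraMap C' C (fA' (w i)) ⊗ₜ[D] (g i).1.1 =
            algebraMap C' C (fA' (w i)) • ((1 : C) ⊗ₜ[D] (g i).1.1) by
            rw [TensorProduct.smul_tmul', smul_eq_mul, mul_one],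
          map_smul, mem_glue.1 (g i).2, algebraMap_smul, TensorProduct.tmul_smul]
      rw [Finset.sum_congr rfl fun i _ => this i, ← TensorProduct.tmul_sum]
      have hw' : πC (fun i => fA' (w i)) = 0 := hw
      rw [← Fintype.linearCombination_apply C' (fun i => (g i).1.2) (fun i => fA' (w i))]
      rw [show Fintype.linearCombination C' (fun i => (g i).1.2) = πC from rfl, hw',
        TensorProduct.tmul_zero]
    obtain ⟨t, ht⟩ := (lTensor_exact C (LinearMap.exact_subtype_ker_map πD) hπD z).1 hzker
    have hU : ∀ t : C ⊗[D] LinearMap.ker πD, TensorProduct.piScalarRight D C C (Fin n)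
        ((LinearMap.ker πD).subtype.lTensor C t) ∈ U.map ψA := by
      intro t
      induction t using TensorProduct.induction_on with
      | zero => rw [map_zero, map_zero]; exact zero_mem _
      | tmul c k =>
        obtain ⟨c', rfl⟩ := hfA c
        obtain ⟨v, hv⟩ := hψ k.1
        have hvS : v ∈ S := by show ψ v ∈ LinearMap.ker πD; rw [hv]; exact k.2
        refine ⟨c' • (Algebra.linearMap Q QA).compLeft (Fin n) v,
          U.smul_mem _ (Submodule.subset_span ⟨v, hvS, rfl⟩), ?_⟩
        funext i
        rw [map_smul, LinearMap.lTensor_tmul]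
        simp only [Submodule.coe_subtype, TensorProduct.piScalarRight_apply,
          TensorProduct.piScalarRightHom_tmul, ← hv]
        show fA c' * fA (algebraMap Q QA (v i)) = fB (v i) • fA c'
        rw [hfBA, Algebra.smul_def, mul_comm]
      | add a b ha hb => rw [map_add, map_add]; exact add_mem ha hb
    obtain ⟨u, hu, hu'⟩ := hU t
    rw [ht, show TensorProduct.piScalarRight D C C (Fin n) z = fun i => algebraMap C' C (fA' (w i))
      from LinearEquiv.apply_symm_apply _ _] at hu'
    have : (Algebra.linearMap Q' QA).compLeft (Fin n) w - u ∈ LinearMap.ker ψA := by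
      rw [LinearMap.mem_ker, map_sub, hu', sub_eq_zero]
      funext i
      exact hfA'A (w i)
    simpa using add_mem (hker this) hu
  have hTor : ∀ w ∈ S', (∀ i, algebraMap Q' QA (w i) = 0) →
      w ∈ RingHom.ker (algebraMap Q' QA) • S' := by
    intro w hw hw0
    let I := RingHom.ker (algebraMap A' A)
    let ψ'' : (Fin n → Q') →ₗ[A'] (Fin n → C') := fA'.toLinearMap.compLeft (Fin n)
    let πA : (Fin n → Q') →ₗ[A'] M' := (πC.restrictScalars A').comp ψ''
    have hψ'' : ∀ x, ψ'' x = ψ' x := fun x => rfl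
    have hπA : Function.Surjective πA := hπC.comp (fun v => by
      obtain ⟨x, hx⟩ := hψ' v; exact ⟨x, hx⟩)
    have hmem : ∀ x ∈ LinearMap.ker πA, x ∈ S' := fun x hx => hx
    have hwI : w ∈ I • (⊤ : Submodule A' (Fin n → Q')) := by
      rw [← Finset.univ_sum_single w]
      refine sum_mem fun i _ => ?_
      have hwi : w i ∈ I.map (algebraMap A' Q') := hkerQ' ▸ hw0 i
      rw [← Submodule.restrictScalars_mem A', ← Ideal.smul_top_eq_map] at hwi
      have := Submodule.mem_map_of_mem (f := LinearMap.single A' (fun _ : Fin n => Q') i) hwi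
      rw [Submodule.map_smul''] at this
      exact (Submodule.smul_mono le_rfl le_top : _ ≤ I • (⊤ : Submodule A' (Fin n → Q'))) this
    let wk : LinearMap.ker πA := ⟨w, hw⟩
    have h0 : ((1 : A' ⧸ I) ⊗ₜ[A'] wk) = 0 := by
      apply Glue24.lTensor_injective_of_flat_coker (N := A' ⧸ I) (LinearMap.ker πA).subtype πA
        Subtype.val_injective (LinearMap.exact_subtype_ker_map πA) hπA
      rw [map_zero, LinearMap.lTensor_tmul, FlatCrit65.one_tmul_eq_zero_iff]
      exact hwI
    rw [FlatCrit65.one_tmul_eq_zero_iff] at h0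
    suffices ∀ y ∈ I • (⊤ : Submodule A' (LinearMap.ker πA)),
        (y : Fin n → Q') ∈ RingHom.ker (algebraMap Q' QA) • S' from this wk h0
    intro y hy
    refine Submodule.smul_induction_on hy (fun a ha x _ => ?_) fun a b ha hb => ?_
    · rw [Submodule.coe_smul, ← algebraMap_smul Q' a]
      refine Submodule.smul_mem_smul ?_ (hmem _ x.2)
      rw [hkerQ']
      exact Ideal.mem_map_of_mem _ ha
    · rw [Submodule.coe_add]; exact add_mem ha hb
  have hK := fg_relations hsquare S S' hSfg hS'fg hlift hA hTor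
  -- push the relations down to `D'`
  refine Module.finitePresentation_of_surjective π hπ ?_
  letI : Algebra P D' := f.toRingHom.toAlgebra
  let ρ : (Fin n → P) →ₗ[P] (Fin n → D') := (Algebra.linearMap P D').compLeft (Fin n)
  have hker : (LinearMap.ker π).restrictScalars P =
      ((S.restrictScalars P).comap ((Algebra.linearMap P Q).compLeft (Fin n)) ⊓
        (S'.restrictScalars P).comap ((Algebra.linearMap P Q').compLeft (Fin n))).map ρ := by
    have hiff : ∀ x : Fin n → P, π (ρ x) = 0 ↔
        πD (fun i => fB (algebraMap P Q (x i))) = 0 ∧ πC (fun i => fA' (algebraMap P Q' (x i))) = 0 := by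
      intro x
      rw [hπg]
      simp only [hfPB, hfPA', πD, πC, Fintype.linearCombination_apply, algebraMap_smul]
      rw [← Submodule.coe_eq_zero, Submodule.coe_sum, Prod.ext_iff]
      simp only [Submodule.coe_smul, Prod.fst_sum, Prod.snd_sum, Prod.smul_fst, Prod.smul_snd,
        Prod.fst_zero, Prod.snd_zero]
      rfl
    ext y
    refine ⟨fun hy => ?_, ?_⟩
    · choose x hx using fun i => hf (y i)
      have hxy : ρ x = y := funext hx
      exact ⟨x, (hiff x).1 (by rw [hxy]; exact hy), hxy⟩
    · rintro ⟨x, hx, rfl⟩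
      exact (hiff x).2 hx
  exact Submodule.FG.of_restrictScalars P (hker ▸ hK.map ρ)

end Main

end Groth.Agent.EtAlg23
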