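import Groth.Agent.EtAlg23.RamTower
import Groth.Agent.Ram24.LocalFinite
import Mathlib.NumberTheory.RamificationInertia.Galois
import Mathlib.RingTheory.Invariant.Galois
import Mathlib.GroupTheory.PGroup
import Mathlib.FieldTheory.Galois.Basic

/-! Inertia and wild inertia in finite Galois extensions, without perfect residue fields. -/

set_option autoImplicit false
set_option linter.style.haveILetI false
universe u

open IsLocalRing
open scoped Pointwise

namespace Groth.Agent.EtAlg23.RamGalois

open RamTower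

section Card

variable {R S : Type*} [CommRing R] [CommRing S] [Algebra R S] {G : Type*} [Group G]
  [MulSemiringAction G S] [IsGaloisGroup G R S] [Finite G]

attribute [local instance] Ideal.Quotient.field in
/-- The order of inertia is the ramification index times the inseparable residue degree. -/
theorem card_inertia_eq [IsDomain R] [IsDomain S] [Module.Finite R S]
    [Module.Flat R S] (p : Ideal R) (P : Ideal S) [P.LiesOver p] [p.IsMaximal] [P.IsMaximal] :
    Nat.card (P.inertia G) = P.ramificationIdx R * Field.finInsepDegree (R ⧸ p) (S ⧸ P) := by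
  haveI : Normal (R ⧸ p) (S ⧸ P) := Ideal.Quotient.normal G p P
  haveI : Module.Finite (R ⧸ p) (S ⧸ P) := inferInstance
  have hidx : Subgroup.index _ = _ := Nat.card_congr
    (Ideal.Quotient.stabilizerQuotientInertiaEquiv G p P).toEquiv
  have haut : Field.finSepDegree (R ⧸ p) (S ⧸ P) = Nat.card Gal((S ⧸ P)/(R ⧸ p)) :=
    Nat.card_congr (Normal.algHomEquivAut (R ⧸ p) (AlgebraicClosure (S ⧸ P)) (S ⧸ P))
  have hstab : Nat.card (MulAction.stabilizer G P) =
      Nat.card (P.inertia G) * Field.finSepDegree (R ⧸ p) (S ⧸ P) := by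
    rw [haut, ← hidx,
      ← ((P.inertia G).subgroupOf (MulAction.stabilizer G P)).card_mul_index,
      Nat.card_congr (Subgroup.subgroupOfEquivOfLe (Ideal.inertia_le_stabilizer (M := G) P)).toEquiv,
      AddSubgroup.subgroupOf_inertia]
  have H : (p.primesOver S).ncard * (Nat.card (P.inertia G) * Field.finSepDegree (R ⧸ p) (S ⧸ P)) =
      Nat.card G := by
    rw [← hstab, ← Algebra.IsInvariant.orbit_eq_primesOver R S G p P]
    simpa using Nat.card_congr (MulAction.orbitProdStabilizerEquivGroup G P)
  have hdeg : P.inertiaDeg R =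
      Field.finSepDegree (R ⧸ p) (S ⧸ P) * Field.finInsepDegree (R ⧸ p) (S ⧸ P) := by
    rw [Ideal.inertiaDeg_eq_of_isMaximal p P, Field.finSepDegree_mul_finInsepDegree]
  have hpos : 0 < Nat.card G := Nat.card_pos
  have h1 : (p.primesOver S).ncard ≠ 0 := fun h => by
    rw [h, zero_mul] at H; omega
  have h2 : Field.finSepDegree (R ⧸ p) (S ⧸ P) ≠ 0 := fun h => by
    rw [h, mul_zero, mul_zero] at H; omega
  rw [← Ideal.ncard_primesOver_mul_ramificationIdxIn_mul_inertiaDegIn p S G, mul_right_inj' h1,
    Ideal.inertiaDegIn_eq_inertiaDeg p P G, Ideal.ramificationIdxIn_eq_ramificationIdx p P G,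
    hdeg] at H
  refine mul_right_cancel₀ h2 (H.trans ?_)
  ring

end Card

section Inertia

variable {K N : Type u} [Field K] [Field N] [Algebra K N] [FiniteDimensional K N]

omit [FiniteDimensional K N] in
theorem mem_of_small {W : ValuationSubring N} {σ : N ≃ₐ[K] N}
    (h : ∀ x ∈ W, W.valuation (σ x - x) < 1) {x : N} (hx : x ∈ W) : σ x ∈ W := by
  have := W.valuation.map_add_le (h x hx).le ((W.valuation_le_one_iff x).mpr hx)
  rw [sub_add_cancel] at this
  exact (W.valuation_le_one_iff _).mp this

omit [FiniteDimensional K N] in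
theorem map_small {W : ValuationSubring N} {σ : N ≃ₐ[K] N}
    (h : ∀ x ∈ W, W.valuation (σ x - x) < 1) {x : N} (hx : W.valuation x < 1) :
    W.valuation (σ x) < 1 := by
  have := W.valuation.map_add_lt (h x ((W.valuation_le_one_iff x).mp hx.le)) hx
  rwa [sub_add_cancel] at this

/-- The inertia group of a valuation subring of a finite extension. -/
def inertia (W : ValuationSubring N) : Subgroup (N ≃ₐ[K] N) :=
  let S : Submonoid (N ≃ₐ[K] N) :=
    { carrier := {σ | ∀ x ∈ W, W.valuation (σ x - x) < 1}
      one_mem' := fun x _ => by simp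
      mul_mem' := fun {σ τ} hσ hτ x hx => by
        rw [show (σ * τ) x - x = σ (τ x - x) + (σ x - x) by
          rw [AlgEquiv.mul_apply, map_sub]; ring]
        exact W.valuation.map_add_lt (map_small hσ (hτ x hx)) (hσ x hx) }
  { S with
    inv_mem' := fun {σ} hσ => by
      rw [inv_eq_of_mul_eq_one_right (b := σ ^ (orderOf σ - 1))]
      · exact S.pow_mem hσ _
      · rw [← pow_succ', Nat.sub_add_cancel (orderOf_pos σ), pow_orderOf_eq_one] }

theorem mem_inertia {W : ValuationSubring N} {σ : N ≃ₐ[K] N} :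
    σ ∈ inertia (K := K) W ↔ ∀ x ∈ W, W.valuation (σ x - x) < 1 := Iff.rfl

variable {W : ValuationSubring N}

omit [FiniteDimensional K N] in
/-- Being bounded by a product of two elements of positive value. -/
def Small2 (W : ValuationSubring N) (y : N) : Prop :=
  ∃ a b : N, W.valuation a < 1 ∧ W.valuation b < 1 ∧ W.valuation y ≤ W.valuation a * W.valuation b

omit [FiniteDimensional K N] in
theorem Small2.zero : Small2 W 0 := ⟨0, 0, by simp, by simp, by simp⟩

omit [FiniteDimensional K N] in
theorem Small2.add {x y : N} (hx : Small2 W x) (hy : Small2 W y) : Small2 W (x + y) := by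
  obtain ⟨a, b, ha, hb, hab⟩ := hx
  obtain ⟨c, d, hc, hd, hcd⟩ := hy
  rcases le_total (W.valuation a * W.valuation b) (W.valuation c * W.valuation d) with h | h
  · exact ⟨c, d, hc, hd, W.valuation.map_add_le (hab.trans h) hcd⟩
  · exact ⟨a, b, ha, hb, W.valuation.map_add_le hab (hcd.trans h)⟩

theorem Small2.map {σ : N ≃ₐ[K] N} (hσ : σ ∈ inertia (K := K) W) {y : N} (hy : Small2 W y) :
    Small2 W (σ y) := by
  obtain ⟨a, b, ha, hb, hab⟩ := hy
  rw [mem_inertia] at hσ
  refine ⟨σ a, σ b, map_small hσ ha, map_small hσ hb, ?_⟩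
  by_cases h0 : a * b = 0
  · rw [← map_mul, h0, map_zero, le_zero_iff, map_eq_zero] at hab
    simp [hab]
  have hc : y / (a * b) ∈ W := by
    rw [← W.valuation_le_one_iff, map_div₀, map_mul]
    exact div_le_one_of_le₀ hab zero_le
  have hy' : σ y = σ (y / (a * b)) * (σ a * σ b) := by
    rw [← map_mul, ← map_mul, div_mul_cancel₀ _ h0]
  rw [hy', map_mul, map_mul]
  exact mul_le_of_le_one_left zero_le ((W.valuation_le_one_iff _).mpr (mem_of_small hσ hc))

/-- Wild inertia: inertia elements trivial on `m / m²`. -/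
def wild (W : ValuationSubring N) : Subgroup (N ≃ₐ[K] N) :=
  let S : Submonoid (N ≃ₐ[K] N) :=
    { carrier := {σ | σ ∈ inertia (K := K) W ∧ ∀ x, W.valuation x < 1 → Small2 W (σ x - x)}
      one_mem' := ⟨one_mem _, fun x _ => by simpa using Small2.zero⟩
      mul_mem' := fun {σ τ} hσ hτ => ⟨mul_mem hσ.1 hτ.1, fun x hx => by
        rw [show (σ * τ) x - x = σ (τ x - x) + (σ x - x) by
          rw [AlgEquiv.mul_apply, map_sub]; ring]
        exact (Small2.map hσ.1 (hτ.2 x hx)).add (hσ.2 x hx)⟩ }
  { S with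
    inv_mem' := fun {σ} hσ => by
      rw [inv_eq_of_mul_eq_one_right (b := σ ^ (orderOf σ - 1))]
      · exact S.pow_mem hσ _
      · rw [← pow_succ', Nat.sub_add_cancel (orderOf_pos σ), pow_orderOf_eq_one] }

theorem mem_wild {σ : N ≃ₐ[K] N} :
    σ ∈ wild (K := K) W ↔
      σ ∈ inertia (K := K) W ∧ ∀ x, W.valuation x < 1 → Small2 W (σ x - x) := Iff.rfl

theorem wild_le_inertia : wild (K := K) W ≤ inertia W := fun _ h => h.1

instance wild_normal : ((wild (K := K) W).subgroupOf (inertia W)).Normal where
  conj_mem := by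
    rintro ⟨σ, hσi⟩ hσ ⟨τ, hτ⟩
    rw [Subgroup.mem_subgroupOf] at hσ ⊢
    show τ * σ * τ⁻¹ ∈ wild W
    refine ⟨mul_mem (mul_mem hτ hσi) (inv_mem hτ), fun x hx => ?_⟩
    have h1 : Small2 W (σ (τ⁻¹ x) - τ⁻¹ x) :=
      (mem_wild.1 hσ).2 _ (map_small (mem_inertia.1 (inv_mem hτ)) hx)
    have h2 := Small2.map hτ h1
    rwa [map_sub, ← AlgEquiv.mul_apply τ τ⁻¹ x, mul_inv_cancel, AlgEquiv.one_apply] at h2

section Uniformizer

variable [IsDiscreteValuationRing W]

omit [FiniteDimensional K N] in
theorem exists_uniformizer :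
    ∃ t : N, t ≠ 0 ∧ W.valuation t < 1 ∧
      (∀ y, W.valuation y < 1 → W.valuation y ≤ W.valuation t) ∧
      ∀ y, y ≠ 0 → y ∈ W → ∃ k : ℕ, W.valuation y = W.valuation t ^ k := by
  obtain ⟨t, ht⟩ := IsDiscreteValuationRing.exists_irreducible W
  have htlt : W.valuation (t : N) < 1 :=
    (ValuationSubring.valuation_lt_one_iff W t).mp ((mem_maximalIdeal _).mpr ht.not_isUnit)
  refine ⟨t, fun h => ht.ne_zero (Subtype.ext h), htlt, fun y hy => ?_, fun y hy hyW => ?_⟩
  · let y' : W := ⟨y, (W.valuation_le_one_iff y).mp hy.le⟩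
    have hmem : y' ∈ maximalIdeal W := (ValuationSubring.valuation_lt_one_iff W y').mpr hy
    rw [(IsDiscreteValuationRing.irreducible_iff_uniformizer t).mp ht,
      Ideal.mem_span_singleton] at hmem
    obtain ⟨c, hc⟩ := hmem
    have : y = (t : N) * (c : N) := congrArg Subtype.val hc
    rw [this, map_mul]
    exact mul_le_of_le_one_right zero_le (W.valuation_le_one c)
  · obtain ⟨k, v, hv⟩ := IsDiscreteValuationRing.eq_unit_mul_pow_irreducible
      (show (⟨y, hyW⟩ : W) ≠ 0 from fun h => hy (congrArg Subtype.val h)) ht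
    refine ⟨k, ?_⟩
    have h1 : y = ((v : W) : N) * (t : N) ^ k := congrArg Subtype.val hv
    rw [h1, map_mul, map_pow, (W.valuation_eq_one_iff (v : W)).mp v.isUnit, one_mul]

omit [FiniteDimensional K N] in
theorem valuation_natCast (p : ℕ) [CharP (ResidueField W) p] :
    W.valuation (p : N) < 1 ∧ ∀ l : ℕ, ¬ p ∣ l → W.valuation (l : N) = 1 := by
  have key : ∀ l : ℕ, residue W (l : W) = (l : ResidueField W) := fun l => map_natCast _ _
  refine ⟨?_, fun l hl => ?_⟩
  · have : ((p : W) : W) ∈ maximalIdeal W := by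
      rw [← residue_eq_zero_iff, key, CharP.cast_eq_zero]
    simpa using (ValuationSubring.valuation_lt_one_iff W _).mp this
  · have : IsUnit (l : W) := by
      by_contra hu
      have h1 : residue W (l : W) = 0 := (residue_eq_zero_iff _).mpr ((mem_maximalIdeal _).mpr hu)
      rw [key, CharP.cast_eq_zero_iff (ResidueField W) p] at h1
      exact hl h1
    simpa using (W.valuation_eq_one_iff _).mp this

/-- An element of wild inertia of order prime to the residue characteristic is trivial. -/
theorem eq_one_of_wild (p : ℕ) [CharP (ResidueField W) p] {σ : N ≃ₐ[K] N}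
    (hσ : σ ∈ wild W) {l : ℕ} (hl : ¬ p ∣ l) (hσl : σ ^ l = 1) : σ = 1 := by
  obtain ⟨t, ht0, htlt, hle, hexp⟩ := exists_uniformizer (W := W)
  set π := W.valuation t
  have hπ0 : (0 : W.ValueGroup) < π := zero_lt_iff.mpr (W.valuation.ne_zero_iff.mpr ht0)
  have hi := mem_inertia.1 hσ.1
  have ht2 : W.valuation (σ t - t) ≤ π * π := by
    obtain ⟨a, b, ha, hb, hab⟩ := hσ.2 t htlt
    exact hab.trans (mul_le_mul' (hle a ha) (hle b hb))
  have hσt : W.valuation (σ t) ≤ π := hle _ (map_small hi htlt)
  have htk : ∀ k : ℕ, W.valuation (σ (t ^ k) - t ^ k) ≤ π ^ (k + 1) := by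
    intro k
    induction k with
    | zero => simp
    | succ k ih =>
      rw [show σ (t ^ (k + 1)) - t ^ (k + 1) = (σ (t ^ k) - t ^ k) * σ t + t ^ k * (σ t - t) by
        rw [pow_succ, map_mul]; ring]
      refine W.valuation.map_add_le ?_ ?_
      · rw [map_mul, pow_succ π (k + 1)]
        exact mul_le_mul' ih hσt
      · rw [map_mul, map_pow, pow_succ π (k + 1), pow_succ π k, mul_assoc]
        exact mul_le_mul' le_rfl ht2
  -- trivial on the graded pieces
  have hgr : ∀ (k : ℕ) (y : N), W.valuation y ≤ π ^ k →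
      W.valuation (σ y - y) ≤ π ^ (k + 1) := by
    intro k y hy
    have htk0 : t ^ k ≠ 0 := pow_ne_zero _ ht0
    have hc : y / t ^ k ∈ W := by
      rw [← W.valuation_le_one_iff, map_div₀, map_pow]
      exact div_le_one_of_le₀ hy zero_le
    rw [show σ y - y = (σ (t ^ k) - t ^ k) * σ (y / t ^ k) + t ^ k * (σ (y / t ^ k) - y / t ^ k) by
      rw [mul_sub, sub_mul, sub_add_sub_cancel, ← map_mul, mul_div_cancel₀ _ htk0]]
    refine W.valuation.map_add_le ?_ ?_
    · rw [map_mul]
      exact (mul_le_of_le_one_right zero_le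
        ((W.valuation_le_one_iff _).mpr (mem_of_small hi hc))).trans (htk k)
    · rw [map_mul, map_pow, pow_succ]
      exact mul_le_mul' le_rfl (hle _ (hi _ hc))
  have hfix : ∀ (j : ℕ), ∀ x ∈ W, W.valuation (σ x - x) ≤ π ^ (j + 1) := by
    intro j
    induction j with
    | zero => exact fun x hx => by rw [zero_add, pow_one]; exact hle _ (hi x hx)
    | succ j ih =>
      intro x hx
      set d := σ x - x with hd
      have hd1 : W.valuation (σ d - d) ≤ π ^ (j + 1 + 1) := hgr _ _ (ih x hx)
      have hpow : ∀ i : ℕ, W.valuation ((σ ^ i) x - x - (i : N) * d) ≤ π ^ (j + 1 + 1) := by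
        intro i
        induction i with
        | zero => simp
        | succ i ihi =>
          rw [show (σ ^ (i + 1)) x - x - ((i + 1 : ℕ) : N) * d =
              σ ((σ ^ i) x - x - (i : N) * d) + (i : N) * (σ d - d) by
            rw [pow_succ', AlgEquiv.mul_apply, map_sub, map_sub, map_mul, map_natCast, hd]
            push_cast
            ring]
          refine W.valuation.map_add_le ?_ ?_
          · have := hgr _ _ ihi
            have h2 := W.valuation.map_add_le (this.trans (pow_le_pow_of_le_one zero_le htlt.le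
              (Nat.le_succ _))) ihi
            rwa [sub_add_cancel] at h2
          · rw [map_mul]
            refine (mul_le_of_le_one_left zero_le ?_).trans hd1
            exact (W.valuation_le_one_iff _).mpr (natCast_mem W i)
      have h := hpow l
      rw [hσl, AlgEquiv.one_apply, sub_self, zero_sub, Valuation.map_neg, map_mul,
        (valuation_natCast (W := W) p).2 l hl, one_mul] at h
      exact h
  have hW : ∀ x ∈ W, σ x = x := by
    intro x hx
    by_contra hne
    have hd0 : σ x - x ≠ 0 := sub_ne_zero.mpr hne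
    obtain ⟨k, hk⟩ := hexp _ hd0 ((W.valuation_le_one_iff _).mp (hi x hx).le)
    have := hfix k x hx
    rw [hk] at this
    exact absurd this (not_le.mpr (pow_lt_pow_right_of_lt_one₀ hπ0 htlt (Nat.lt_succ_self k)))
  refine AlgEquiv.ext fun x => ?_
  rcases W.mem_or_inv_mem x with h | h
  · exact hW x h
  · simpa using hW _ h

theorem isPGroup_wild {p : ℕ} (hp : p.Prime) [CharP (ResidueField W) p] :
    IsPGroup p (wild (K := K) W) := by
  haveI := Fact.mk hp
  obtain ⟨n, -⟩ : ∃ n : ℕ, True := ⟨0, trivial⟩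
  refine IsPGroup.of_card (n := (Nat.card (wild (K := K) W)).factorization p) ?_
  by_contra hne
  obtain ⟨l, hl, hldvd, hlp⟩ : ∃ l : ℕ, l.Prime ∧ l ∣ Nat.card (wild (K := K) W) ∧ l ≠ p := by
    by_contra hcon
    push Not at hcon
    exact hne (Nat.eq_prime_pow_of_unique_prime_dvd Nat.card_pos.ne'
      (fun {d} hd hdd => hcon d hd hdd) ▸ by
        rw [hp.factorization_pow, Finsupp.single_eq_same])
  haveI := Fact.mk hl
  obtain ⟨σ, hσ⟩ := exists_prime_orderOf_dvd_card' l hldvd
  have hl' : ¬ p ∣ l := fun h => hlp ((Nat.prime_dvd_prime_iff_eq hp hl).1 h).symm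
  have h1 : (σ : N ≃ₐ[K] N) = 1 := eq_one_of_wild p σ.2 hl' (by
    rw [← Subgroup.coe_pow, ← hσ, pow_orderOf_eq_one, Subgroup.coe_one])
  rw [show σ = 1 from Subtype.ext h1, orderOf_one] at hσ
  exact hl.ne_one hσ.symm

theorem mem_wild_of_pow {p : ℕ} [Fact p.Prime] [CharP (ResidueField W) p] {τ : N ≃ₐ[K] N}
    (hτ : τ ∈ inertia W) (hp : τ ^ p ∈ wild W) : τ ∈ wild W := by
  obtain ⟨t, ht0, htlt, hle, -⟩ := exists_uniformizer (W := W)
  set π := W.valuation t
  have hπne : π ≠ 0 := W.valuation.ne_zero_iff.mpr ht0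
  have hi := mem_inertia.1 hτ
  have hc : τ t / t ∈ W := by
    rw [← W.valuation_le_one_iff, map_div₀]
    exact div_le_one_of_le₀ (hle _ (map_small hi htlt)) zero_le
  set c := τ t / t
  have hτt : τ t = c * t := (div_mul_cancel₀ _ ht0).symm
  have hpow : ∀ i : ℕ, W.valuation ((τ ^ i) t - c ^ i * t) ≤ π * π := by
    intro i
    induction i with
    | zero => simp
    | succ i ih =>
      rw [show (τ ^ (i + 1)) t - c ^ (i + 1) * t =
          ((τ ^ i) c - c) * (τ ^ i) t + c * ((τ ^ i) t - c ^ i * t) by
        rw [pow_succ, AlgEquiv.mul_apply, hτt, map_mul]; ring]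
      have hii := mem_inertia.1 (pow_mem hτ i)
      refine W.valuation.map_add_le ?_ ?_
      · rw [map_mul]
        exact mul_le_mul' (hle _ (hii c hc)) (hle _ (map_small hii htlt))
      · rw [map_mul]
        exact (mul_le_of_le_one_left zero_le ((W.valuation_le_one_iff _).mpr hc)).trans ih
  obtain ⟨a, b, ha, hb, hab⟩ := hp.2 t htlt
  have h1 : W.valuation ((c ^ p - 1) * t) ≤ π * π := by
    rw [show (c ^ p - 1) * t = ((τ ^ p) t - t) - ((τ ^ p) t - c ^ p * t) by ring]
    exact (W.valuation.map_sub _ _).trans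
      (max_le (hab.trans (mul_le_mul' (hle a ha) (hle b hb))) (hpow p))
  rw [map_mul] at h1
  have h2 : W.valuation (c ^ p - 1) < 1 :=
    (le_of_mul_le_mul_right h1 (zero_lt_iff.mpr hπne)).trans_lt htlt
  have hc1 : W.valuation (c - 1) < 1 := by
    let c' : W := ⟨c, hc⟩
    refine (ValuationSubring.valuation_lt_one_iff W (c' - 1)).mp ?_
    have h3 : residue W (c' ^ p - 1) = 0 :=
      (residue_eq_zero_iff _).mpr ((ValuationSubring.valuation_lt_one_iff W _).mpr h2)
    rw [map_sub, map_pow, map_one, ← one_pow (M := ResidueField W) p, ← sub_pow_char] at h3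
    refine (residue_eq_zero_iff _).mp ?_
    rw [map_sub, map_one]
    exact (pow_eq_zero_iff (Fact.out (p := p.Prime)).ne_zero).mp h3
  refine ⟨hτ, fun x hx => ?_⟩
  have hw : x / t ∈ W := by
    rw [← W.valuation_le_one_iff, map_div₀]
    exact div_le_one_of_le₀ (hle x hx) zero_le
  rw [show τ x - x = (c - 1) * t * τ (x / t) + t * (τ (x / t) - x / t) by
    rw [sub_mul, one_mul, ← hτt, sub_mul, mul_sub, sub_add_sub_cancel, ← map_mul,
      mul_div_cancel₀ _ ht0]]
  refine Small2.add ⟨c - 1, t, hc1, htlt, ?_⟩ ⟨t, τ (x / t) - x / t, htlt, hi _ hw, ?_⟩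
  · rw [map_mul, map_mul]
    exact mul_le_of_le_one_right zero_le ((W.valuation_le_one_iff _).mpr (mem_of_small hi hw))
  · rw [map_mul]

/-- The index of wild inertia is prime to `p`. -/
theorem not_dvd_relIndex_wild {p : ℕ} (hp : p.Prime) [CharP (ResidueField W) p] :
    ¬ p ∣ (wild (K := K) W).relIndex (inertia W) := by
  haveI := Fact.mk hp
  intro hdvd
  let P := (wild (K := K) W).subgroupOf (inertia W)
  obtain ⟨q, hq⟩ := exists_prime_orderOf_dvd_card' (G := inertia (K := K) W ⧸ P) p hdvd
  obtain ⟨τ, rfl⟩ := QuotientGroup.mk_surjective q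
  have h1 : τ ^ p ∈ P := by
    rw [← QuotientGroup.eq_one_iff, QuotientGroup.mk_pow, ← hq, pow_orderOf_eq_one]
  have h2 : τ ∈ P := mem_wild_of_pow (p := p) τ.2 (by simpa [P, Subgroup.mem_subgroupOf] using h1)
  rw [(QuotientGroup.eq_one_iff τ).2 h2, orderOf_one] at hq
  exact hp.ne_one hq.symm

/-- A subgroup of index prime to `p` in inertia contains wild inertia. -/
theorem wild_le_of_not_dvd {p : ℕ} (hp : p.Prime) [CharP (ResidueField W) p]
    (H : Subgroup (N ≃ₐ[K] N)) (hH : ¬ p ∣ H.relIndex (inertia W)) : wild W ≤ H := by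
  haveI := Fact.mk hp
  intro y hy
  let G' := inertia (K := K) W
  let P := (wild (K := K) W).subgroupOf G'
  let H' := H.subgroupOf G'
  have hP : IsPGroup p P := (isPGroup_wild hp).of_equiv
    (Subgroup.subgroupOfEquivOfLe wild_le_inertia).symm
  obtain ⟨q, hq⟩ := hP.nonempty_fixed_point_of_prime_not_dvd_card (G' ⧸ H') hH
  obtain ⟨g, rfl⟩ := QuotientGroup.mk_surjective q
  let y' : G' := ⟨y, hy.1⟩
  have hy' : y' ∈ P := hy
  have h1 := MulAction.mem_fixedPoints.1 hq ⟨g * y' * g⁻¹, Subgroup.Normal.conj_mem wild_normal _ hy' g⟩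
  have h2 : (QuotientGroup.mk (g * y' * g⁻¹ * g) : G' ⧸ H') = QuotientGroup.mk g := h1
  rw [QuotientGroup.eq] at h2
  have h3 : (y')⁻¹ ∈ H' := by simpa [mul_assoc] using h2
  exact (inv_mem_iff (H := H')).1 h3

end Uniformizer

end Inertia

section CardInertia

variable {A K N : Type u} [CommRing A] [IsDomain A] [IsDiscreteValuationRing A] [Field K]
  [Algebra A K] [IsFractionRing A K] [Field N] [Algebra K N] [FiniteDimensional K N] [IsGalois K N]

/-- The order of inertia. -/
theorem card_inertia {W : ValuationSubring N}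
    (h : EtRam.Dominates A ((algebraMap K N).comp (algebraMap A K)) W) :
    Nat.card (inertia (K := K) W) = ei h := by
  haveI := Ram24.dvr_of_dominates (B := A) (L := K) W h
  letI : Algebra A N := ((algebraMap K N).comp (algebraMap A K)).toAlgebra
  haveI : IsScalarTower A K N := .of_algebraMap_eq fun _ => rfl
  let O := integralClosure A N
  haveI : Module.Finite A O := IsIntegralClosure.finite A K N O
  haveI : IsFractionRing O N := integralClosure.isFractionRing_of_finite_extension K N
  haveI : IsDedekindDomain O := IsIntegralClosure.isDedekindDomain A K N O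
  letI : MulSemiringAction (N ≃ₐ[K] N) O := IsIntegralClosure.MulSemiringAction A K N O
  haveI : IsGaloisGroup (N ≃ₐ[K] N) A O := IsGaloisGroup.of_isFractionRing _ _ _ K N
  haveI : Module.IsTorsionFree A O := by
    refine Module.IsTorsionFree.of_smul_eq_zero fun r m hrm => ?_
    have h1 : algebraMap A N r * (m : N) = 0 := by
      have := congrArg Subtype.val hrm
      rwa [show ((r • m : O) : N) = r • (m : N) from rfl, Algebra.smul_def] at this
    rcases mul_eq_zero.1 h1 with h2 | h2
    · exact Or.inl (IsFractionRing.injective A K ((algebraMap K N).injective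
        (h2.trans (by simp))))
    · exact Or.inr (Subtype.ext h2)
  have hOW : ∀ o : O, (o : N) ∈ W := fun o => Ram24.integralClosure_mem W h o.2
  let ρ : O →+* W := O.val.toRingHom.codRestrict W hOW
  let Q : Ideal O := (maximalIdeal W).comap ρ
  have hQmem : ∀ o : O, o ∈ Q ↔ W.valuation (o : N) < 1 := fun o =>
    ValuationSubring.valuation_lt_one_iff W (ρ o)
  have hQA : Q.comap (algebraMap A O) = maximalIdeal A := by
    ext a
    rw [Ideal.mem_comap, hQmem]
    exact ⟨fun ha => (mem_maximalIdeal a).mpr fun hu => by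
      have := (ValuationSubring.valuation_eq_one_iff W _).mp (hu.map (dmap h))
      exact ha.ne this, h.2 a⟩
  haveI : Q.IsPrime := Ideal.comap_isPrime ρ _
  haveI : Q.IsMaximal := Ideal.isMaximal_of_isIntegral_of_isMaximal_comap (R := A) Q
    (hQA ▸ IsLocalRing.maximalIdeal.isMaximal A)
  haveI : Q.LiesOver (maximalIdeal A) := ⟨hQA.symm⟩
  -- the inertia groups agree
  have hsmul : ∀ (σ : N ≃ₐ[K] N) (o : O), ((σ • o : O) : N) = σ (o : N) := fun σ o =>
    algebraMap_galRestrict_apply (A := A) (K := K) (L := N) (B := O) σ o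
  have hI : Q.inertia (N ≃ₐ[K] N) = inertia W := by
    ext σ
    constructor
    · intro hσ x hx
      have hdiff : ∀ o : O, W.valuation (σ (o : N) - o) < 1 := fun o => by
        have h1 := (hQmem _).1 (hσ o)
        rwa [Subalgebra.coe_sub, hsmul] at h1
      obtain ⟨e, s, he, hs, hs1, hxs⟩ := Ram24.exists_integral_frac W h x hx
      have hσs : W.valuation (σ s) = 1 := by
        have := W.valuation.map_add_eq_of_lt_right ((hdiff ⟨s, hs⟩).trans_eq hs1.symm)
        rw [sub_add_cancel] at this
        exact this.trans hs1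
      have hx' : W.valuation (σ x - x) * W.valuation (σ s) < 1 := by
        rw [← map_mul, show (σ x - x) * σ s = (σ e - e) - x * (σ s - s) by
          rw [← hxs, map_mul]; ring]
        refine lt_of_le_of_lt (W.valuation.map_sub _ _) (max_lt (hdiff ⟨e, he⟩) ?_)
        rw [map_mul]
        exact lt_of_le_of_lt (mul_le_of_le_one_left zero_le ((W.valuation_le_one_iff x).mpr hx))
          (hdiff ⟨s, hs⟩)
      rwa [hσs, mul_one] at hx'
    · intro hσ o
      refine (hQmem _).2 ?_
      rw [Subalgebra.coe_sub, hsmul]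
      exact mem_inertia.1 hσ _ (hOW o)
  rw [← hI, card_inertia_eq (maximalIdeal A) Q,
    ← Ideal.ramificationIdx'_eq_ramificationIdx (maximalIdeal A) Q (IsDiscreteValuationRing.not_a_field A)]
  -- compare with `W`
  letI : Algebra A W := (dmap h).toAlgebra
  haveI : IsLocalHom (algebraMap A W) := isLocalHom_dmap h
  letI : Algebra O W := ρ.toAlgebra
  haveI : IsScalarTower A O W := .of_algebraMap_eq fun _ => rfl
  have hfrac : ∀ w : W, ∃ e s : O, s ∉ Q ∧ w * ρ s = ρ e := by
    intro w
    obtain ⟨e, s, he, hs, hs1, hws⟩ := Ram24.exists_integral_frac W h (w : N) w.2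
    exact ⟨⟨e, he⟩, ⟨s, hs⟩, fun hq => ((hQmem _).1 hq).ne hs1, Subtype.ext hws⟩
  have hmapQ : Q.map (algebraMap O W) = maximalIdeal W := by
    refine le_antisymm (Ideal.map_le_iff_le_comap.2 fun o ho => ho) fun w hw => ?_
    obtain ⟨e, s, hs, hws⟩ := hfrac w
    have he : e ∈ Q := by
      show ρ e ∈ maximalIdeal W
      rw [← hws]
      exact Ideal.mul_mem_right _ _ hw
    have hu : IsUnit (ρ s) := by
      by_contra hu
      exact hs ((mem_maximalIdeal _).2 hu)
    rw [← Ideal.mul_unit_mem_iff_mem _ hu, hws]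
    exact Ideal.mem_map_of_mem (algebraMap O W) he
  have hinj : Function.Injective (algebraMap O W) := fun a b hab =>
    Subtype.ext (congrArg (fun w : W => (w : N)) hab)
  have hQ0 : Q ≠ ⊥ := fun h0 => by
    rw [h0, Ideal.map_bot] at hmapQ
    exact IsDiscreteValuationRing.not_a_field W hmapQ.symm
  have he : Ideal.ramificationIdx' (maximalIdeal A) (maximalIdeal W) =
      Ideal.ramificationIdx' (maximalIdeal A) Q := by
    rw [Ideal.ramificationIdx'_algebra_tower (P := Q) (Q := maximalIdeal W)
      (by rw [hmapQ]; exact IsDiscreteValuationRing.not_a_field W)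
      ((Ideal.map_eq_bot_iff_of_injective (dmap_injective (A := A) (K := K) h)).not.mpr
        (IsDiscreteValuationRing.not_a_field A)) hmapQ.le]
    have h1 : Ideal.ramificationIdx' Q (maximalIdeal W) = 1 := by
      apply Ideal.ramificationIdx'_spec
      · rw [pow_one]; exact hmapQ.le
      · rw [hmapQ]
        intro hle
        obtain ⟨t, ht⟩ := IsDiscreteValuationRing.exists_irreducible W
        rw [(IsDiscreteValuationRing.irreducible_iff_uniformizer t).mp ht, Ideal.span_singleton_pow,
          Ideal.span_singleton_le_span_singleton] at hle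
        exact absurd ((pow_dvd_pow_iff ht.ne_zero ht.not_isUnit).mp (by rwa [pow_one] : t ^ (1 + 1) ∣ t ^ 1))
          (by omega)
    rw [h1, mul_one]
  show _ = Ideal.ramificationIdx' (maximalIdeal A) (maximalIdeal W) * _
  rw [he]
  congr 1
  letI := Ideal.Quotient.field (maximalIdeal A)
  letI := Ideal.Quotient.field Q
  let φ : O ⧸ Q →+* ResidueField W := Ideal.Quotient.lift Q ((residue W).comp ρ)
    fun o ho => (residue_eq_zero_iff _).2 ho
  letI : Algebra (A ⧸ maximalIdeal A) (ResidueField W) :=
    inferInstanceAs (Algebra (ResidueField A) (ResidueField W))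
  let ψ : (O ⧸ Q) →ₐ[A ⧸ maximalIdeal A] ResidueField W :=
    { φ with
      commutes' := fun r => by
        obtain ⟨a, rfl⟩ := Ideal.Quotient.mk_surjective r
        rfl }
  have hψ : Function.Bijective ψ := by
    refine ⟨φ.injective, fun r => ?_⟩
    obtain ⟨w, rfl⟩ := residue_surjective r
    obtain ⟨e, s, hs, hws⟩ := hfrac w
    have hs' : Ideal.Quotient.mk Q s ≠ 0 := fun h0 => hs (Ideal.Quotient.eq_zero_iff_mem.1 h0)
    refine ⟨Ideal.Quotient.mk Q e / Ideal.Quotient.mk Q s, ?_⟩
    show φ _ = _
    rw [map_div₀, div_eq_iff ((map_ne_zero φ).2 hs')]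
    show residue W (ρ e) = residue W w * residue W (ρ s)
    rw [← map_mul, hws]
  exact Field.finInsepDegree_eq_of_equiv _ _ _ (AlgEquiv.ofBijective ψ hψ)

variable {L : Type u} [Field L] [Algebra K L] [Algebra L N] [IsScalarTower K L N]

/-- Automorphisms over an intermediate field. -/
def restrictHom (K L N : Type u) [Field K] [Field L] [Field N] [Algebra K L] [Algebra K N]
    [Algebra L N] [IsScalarTower K L N] : (N ≃ₐ[L] N) →* (N ≃ₐ[K] N) where
  toFun σ := σ.restrictScalars K
  map_one' := rfl
  map_mul' _ _ := rfl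

omit [FiniteDimensional K N] [IsGalois K N] in
theorem mem_range_restrictHom {σ : N ≃ₐ[K] N} :
    σ ∈ (restrictHom K L N).range ↔ ∀ l : L, σ (algebraMap L N l) = algebraMap L N l :=
  ⟨fun ⟨τ, hτ⟩ l => hτ ▸ τ.commutes l,
    fun hσ => ⟨AlgEquiv.ofRingEquiv (f := σ.toRingEquiv) hσ, rfl⟩⟩

theorem ei_eq_relIndex [FiniteDimensional K L] {W : ValuationSubring N}
    (h : EtRam.Dominates A ((algebraMap K N).comp (algebraMap A K)) W) :
    ei (dominates_comap (L := L) h) = (restrictHom K L N).range.relIndex (inertia W) := by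
  haveI : FiniteDimensional L N := Module.Finite.of_restrictScalars_finite K L N
  haveI : IsGalois L N := IsGalois.tower_top_of_isGalois K L N
  haveI := Ram24.dvr_of_dominates (B := A) (L := K) _ (dominates_comap (L := L) h)
  let H := (restrictHom K L N).range
  have e : Nat.card (inertia (K := L) W) = Nat.card (H.subgroupOf (inertia (K := K) W)) :=
    Nat.card_congr
      { toFun := fun σ => ⟨⟨restrictHom K L N σ.1, fun x hx => mem_inertia.1 σ.2 x hx⟩, ⟨σ.1, rfl⟩⟩
        invFun := fun τ => ⟨AlgEquiv.ofRingEquiv (f := τ.1.1.toRingEquiv)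
          (mem_range_restrictHom.1 τ.2), fun x hx => mem_inertia.1 τ.1.2 x hx⟩
        left_inv := fun σ => rfl
        right_inv := fun τ => rfl }
  have h1 : Nat.card (inertia (K := L) W) * H.relIndex (inertia (K := K) W) =
      Nat.card (inertia (K := K) W) := e ▸ Subgroup.card_mul_index _
  rw [card_inertia h, ei_tower (L := L) h,
    card_inertia (A := W.comap (algebraMap L N)) (K := L) (dominates_base (L := L) W)] at h1
  have hpos : 0 < Nat.card (inertia (K := L) W) := Nat.card_pos
  rw [card_inertia (A := W.comap (algebraMap L N)) (K := L) (dominates_base (L := L) W)] at hpos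
  exact mul_left_cancel₀ hpos.ne' ((mul_comm _ _).trans h1.symm)

end CardInertia

section Generated

variable {A K N M : Type u} [CommRing A] [IsDomain A] [IsDiscreteValuationRing A] [Field K]
  [Algebra A K] [IsFractionRing A K] [Field N] [Algebra K N] [FiniteDimensional K N] [IsGalois K N]
  [Field M] [Algebra K M] [Algebra M N] [IsScalarTower K M N] [FiniteDimensional K M]

omit [FiniteDimensional K M] [FiniteDimensional K N] [IsGalois K N] in
/-- An automorphism fixing the generators fixes everything. -/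
theorem mem_range_of_generated {ι : Type*} {L : ι → Type u} [∀ i, Field (L i)]
    [∀ i, Algebra K (L i)] (j : ∀ i, L i →ₐ[K] M) (hj : ⨆ i, (j i).fieldRange = ⊤)
    {σ : N ≃ₐ[K] N} (hσ : ∀ i l, σ (algebraMap M N (j i l)) = algebraMap M N (j i l)) :
    σ ∈ (restrictHom K M N).range := by
  rw [mem_range_restrictHom]
  let F : IntermediateField K M :=
    { carrier := {x | σ (algebraMap M N x) = algebraMap M N x}
      mul_mem' := fun {a b} ha hb => by
        simp only [Set.mem_setOf_eq, map_mul] at *; rw [ha, hb]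
      add_mem' := fun {a b} ha hb => by
        simp only [Set.mem_setOf_eq, map_add] at *; rw [ha, hb]
      algebraMap_mem' := fun k => by
        show σ (algebraMap M N (algebraMap K M k)) = _
        rw [← IsScalarTower.algebraMap_apply, AlgEquiv.commutes]
      inv_mem' := fun a ha => by
        simp only [Set.mem_setOf_eq, map_inv₀] at *; rw [ha] }
  intro m
  have hle : (⊤ : IntermediateField K M) ≤ F := hj ▸ iSup_le fun i => by
    rintro _ ⟨l, rfl⟩
    exact hσ i l
  exact hle (IntermediateField.mem_top (x := m))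

omit [FiniteDimensional K M] in
theorem ei_of_embedded {L : Type u} [Field L] [Algebra K L] [FiniteDimensional K L] (j : L →ₐ[K] N)
    {W : ValuationSubring N}
    (h : EtRam.Dominates A ((algebraMap K N).comp (algebraMap A K)) W) :
    ∃ (V : ValuationSubring L) (hV : EtRam.Dominates A ((algebraMap K L).comp (algebraMap A K)) V)
      (H : Subgroup (N ≃ₐ[K] N)), ei hV = H.relIndex (inertia W) ∧
        ∀ σ ∈ H, ∀ l, σ (j l) = j l := by
  letI : Algebra L N := j.toRingHom.toAlgebra
  haveI : IsScalarTower K L N := .of_algebraMap_eq fun k => (j.commutes k).symm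
  exact ⟨_, dominates_comap (L := L) h, _, ei_eq_relIndex h, fun σ hσ => mem_range_restrictHom.1 hσ⟩

variable (N) in
include N in
theorem unramified_of_generated {ι : Type*} {L : ι → Type u} [∀ i, Field (L i)]
    [∀ i, Algebra K (L i)] [∀ i, FiniteDimensional K (L i)] (j : ∀ i, L i →ₐ[K] M)
    (hj : ⨆ i, (j i).fieldRange = ⊤)
    (hL : ∀ i, EtRam.IsUnramifiedExt A ((algebraMap K (L i)).comp (algebraMap A K))) :
    EtRam.IsUnramifiedExt A ((algebraMap K M).comp (algebraMap A K)) := by
  haveI : FiniteDimensional M N := Module.Finite.of_restrictScalars_finite K M N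
  refine isUnramifiedExt_iff.2 fun V hV => ?_
  obtain ⟨W, hW, rfl⟩ := exists_over (M := N) hV
  rw [ei_eq_relIndex hW, Subgroup.relIndex_eq_one]
  intro σ hσ
  refine mem_range_of_generated j hj fun i l => ?_
  obtain ⟨V', hV', H, hH, hfix⟩ := ei_of_embedded ((IsScalarTower.toAlgHom K M N).comp (j i)) hW
  rw [isUnramifiedExt_iff.1 (hL i) V' hV', eq_comm, Subgroup.relIndex_eq_one] at hH
  exact hfix σ (hH hσ) l

variable (N) in
include N in
theorem tame_of_generated {ι : Type*} {L : ι → Type u} [∀ i, Field (L i)]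
    [∀ i, Algebra K (L i)] [∀ i, FiniteDimensional K (L i)] (j : ∀ i, L i →ₐ[K] M)
    (hj : ⨆ i, (j i).fieldRange = ⊤)
    (hL : ∀ i, EtRam.IsTamelyRamified A ((algebraMap K (L i)).comp (algebraMap A K))) :
    EtRam.IsTamelyRamified A ((algebraMap K M).comp (algebraMap A K)) := by
  haveI : FiniteDimensional M N := Module.Finite.of_restrictScalars_finite K M N
  refine isTamelyRamified_iff.2 fun V hV p hp hch => ?_
  obtain ⟨W, hW, rfl⟩ := exists_over (M := N) hV
  haveI := Ram24.dvr_of_dominates (B := A) (L := K) W hW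
  haveI : CharP (ResidueField W) p :=
    haveI := isLocalHom_dmap hW
    charP_of_injective_ringHom (ResidueField.map (dmap hW)).injective p
  rw [ei_eq_relIndex hW]
  have hle : wild (K := K) W ≤ (restrictHom K M N).range := by
    intro σ hσ
    refine mem_range_of_generated j hj fun i l => ?_
    obtain ⟨V', hV', H, hH, hfix⟩ := ei_of_embedded ((IsScalarTower.toAlgHom K M N).comp (j i)) hW
    exact hfix σ (wild_le_of_not_dvd hp H
      (hH ▸ isTamelyRamified_iff.1 (hL i) V' hV' p hp hch) hσ) l
  exact fun hd => not_dvd_relIndex_wild (W := W) (K := K) hp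
    (hd.trans (Subgroup.relIndex_dvd_of_le_left (inertia W) hle))

end Generated

end Groth.Agent.EtAlg23.RamGalois
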