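import Groth.Agent.CAlg4.ReducedCurve
import Groth.Agent.EGA4H10.Catenary

/-! Reduced hypersurface sections through given height-one primes of a catenary normal local domain. -/

set_option autoImplicit false

namespace Groth.Agent.EtAlg23.ReducedHyp

open CAlg4.ReducedCurve (dvr_of_height_one dvd_of_forall_height_one span_eq_maximalIdeal
  isReduced_of_simple eq_of_le_of_height_one finite_height_one)

universe u

variable {R : Type u} [CommRing R] [IsDomain R] [IsNoetherianRing R] [IsIntegrallyClosed R]

omit [IsIntegrallyClosed R] in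
lemma sum_le_bound [IsLocalRing R] {n : ℕ}
    (hdimP : ∀ (P : Ideal R) [P.IsPrime], P.height = 1 → (n : WithBot ℕ∞) ≤ ringKrullDim (R ⧸ P))
    {c : R} {x : Fin n → R} (hc : c ≠ 0)
    (hx : ∀ i, x i ∈ IsLocalRing.maximalIdeal R)
    (hrad : IsLocalRing.maximalIdeal R ≤ (Ideal.span (insert c (Set.range x))).radical) :
    ((finite_height_one hc).toFinset.card : ℕ∞) ≤
      Module.length R (R ⧸ Ideal.span (insert c (Set.range x))) := by
  classical
  have hJ : Ideal.span {c} ⊔ Ideal.span (Set.range x) = Ideal.span (insert c (Set.range x)) := by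
    rw [← Ideal.span_union, Set.singleton_union]
  let T : Finset (PrimeSpectrum R) :=
    ((finite_height_one hc).preimage (f := fun q : PrimeSpectrum R => q.asIdeal)
      fun _ _ _ _ h => PrimeSpectrum.ext h).toFinset
  have hT : ∀ P ∈ T, c ∈ P.asIdeal ∧ P.asIdeal.height = 1 := fun P hP => by
    simp only [T, Set.Finite.mem_toFinset, Set.mem_preimage, Set.mem_ofPred_eq] at hP
    exact ⟨hP.2.2, hP.2.1⟩
  have hcount := CAlg4.TopLength.count n (Ideal.span {c}) x hx
    (hJ ▸ hrad) T (fun P hP => ⟨(Ideal.span_singleton_le_iff_mem _).mpr (hT P hP).1,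
      hdimP P.asIdeal (hT P hP).2⟩)
  rw [hJ] at hcount
  refine le_trans ?_ hcount
  have hcard : (finite_height_one hc).toFinset.card = T.card := by
    rw [← Set.ncard_eq_toFinset_card _ (finite_height_one hc), ← Set.ncard_coe_finset T]
    simp only [T, Set.Finite.coe_toFinset]
    exact (Set.ncard_preimage_of_injective_subset_range (f := fun q : PrimeSpectrum R => q.asIdeal)
      (fun _ _ h => PrimeSpectrum.ext h) (fun q hq => ⟨⟨q, hq.1⟩, rfl⟩)).symm
  rw [hcard, Finset.card_eq_sum_ones, Nat.cast_sum]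
  refine Finset.sum_le_sum fun P hP => ?_
  rw [Nat.cast_one]
  refine CAlg4.TopLength.locLen_ne_zero _ ?_
  rw [CAlg4.TopLength.support_ring_quotient]
  exact (Ideal.span_singleton_le_iff_mem _).mpr (hT P hP).1

set_option maxHeartbeats 800000 in
theorem exists_reduced_of_dim [IsLocalRing R] {n : ℕ} (hn : 1 ≤ n)
    (hdim : ringKrullDim R = ((n + 1 : ℕ) : WithBot ℕ∞))
    (hdimP : ∀ (P : Ideal R) [P.IsPrime], P.height = 1 → (n : WithBot ℕ∞) ≤ ringKrullDim (R ⧸ P))
    (s : Finset (Ideal R)) (hs : ∀ p ∈ s, p.IsPrime ∧ p.height = 1) :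
    ∃ f : R, f ≠ 0 ∧ (∀ p ∈ s, f ∈ p) ∧ IsReduced (R ⧸ Ideal.span ({f} : Set R)) := by
  classical
  have hm : (IsLocalRing.maximalIdeal R).height = ((n + 1 : ℕ) : ℕ∞) :=
    WithBot.coe_injective ((IsLocalRing.maximalIdeal_height_eq_ringKrullDim (R := R)).trans hdim)
  have hne : ∀ p ∈ insert (IsLocalRing.maximalIdeal R) s, ∃ a ∈ p, a ≠ (0 : R) := by
    intro p hp
    refine Submodule.exists_mem_ne_zero_of_ne_bot fun hbot => ?_
    rcases Finset.mem_insert.mp hp with rfl | hp
    · rw [hbot, Ideal.height_bot] at hm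
      exact absurd hm.symm (by exact_mod_cast n.succ_ne_zero)
    · have h2 := (hs p hp).2
      rw [hbot, Ideal.height_bot] at h2
      exact zero_ne_one h2
  choose! a ha ha0 using hne
  set c₀ := ∏ p ∈ insert (IsLocalRing.maximalIdeal R) s, a p
  have hc₀ : ∀ p ∈ insert (IsLocalRing.maximalIdeal R) s, c₀ ∈ p := fun p hp =>
    Ideal.prod_mem _ hp (ha p hp)
  have hc₀0 : c₀ ≠ 0 := Finset.prod_ne_zero_iff.mpr ha0
  obtain ⟨x, hx, hrad⟩ : ∃ x : Fin n → R, (∀ i, x i ∈ IsLocalRing.maximalIdeal R) ∧
      IsLocalRing.maximalIdeal R ≤ (Ideal.span (insert c₀ (Set.range x))).radical := by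
    obtain ⟨g, -, hgm, hgrad⟩ := CAlg4.TopLength.exists_sop_with c₀ (n + 1) hdim.le
      (fun p hp h => hc₀0 (by
        rw [IsDomain.minimalPrimes_eq_singleton_bot, Set.mem_singleton_iff] at hp
        simpa [hp] using h)) 1
    exact ⟨g, hgm, hgrad⟩
  set J := Ideal.span (insert c₀ (Set.range x))
  obtain ⟨N₀, hN₀⟩ := Ideal.exists_pow_le_of_le_radical_of_fg hrad (IsNoetherian.noetherian _)
  have hN : IsLocalRing.maximalIdeal R ^ (N₀ + 1) ≤ IsLocalRing.maximalIdeal R * J := by
    rw [pow_succ']
    exact Ideal.mul_mono_right hN₀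
  have hL := CAlg4.TopLength.length_quotient_ne_top J hrad
  suffices ∀ (k : ℕ) (c : R) (hc : c ≠ 0), (∀ p ∈ s, c ∈ p) → Ideal.span (insert c (Set.range x)) = J →
      (Module.length R (R ⧸ J)).toNat < (finite_height_one hc).toFinset.card + k →
      ∃ f : R, f ≠ 0 ∧ (∀ p ∈ s, f ∈ p) ∧ IsReduced (R ⧸ Ideal.span ({f} : Set R)) from
    this _ c₀ hc₀0 (fun p hp => hc₀ p (Finset.mem_insert_of_mem hp)) rfl
      (Nat.lt_of_lt_of_le (Nat.lt_succ_self _) (Nat.le_add_left _ _))
  intro k
  induction k with
  | zero =>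
    intro c hc _ hcJ hlt
    have h := sum_le_bound hdimP hc hx (hcJ ▸ hrad)
    rw [hcJ, ← ENat.natCast_toNat hL, Nat.cast_le] at h
    omega
  | succ k ih =>
    intro c hc hcs hcJ hlt
    by_cases hsimple : ∀ (q : Ideal R) [q.IsPrime], q.height = 1 → c ∈ q →
        algebraMap R (Localization.AtPrime q) c ∉
          IsLocalRing.maximalIdeal (Localization.AtPrime q) ^ 2
    · exact ⟨c, hc, hcs, isReduced_of_simple c hc hsimple⟩
    push Not at hsimple
    obtain ⟨q₁, hq₁p, hq₁, hcq₁, hsq⟩ := hsimple
    have := dvr_of_height_one q₁ hq₁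
    -- a uniformizer
    obtain ⟨y, hy, hy2⟩ : ∃ y ∈ q₁, algebraMap R (Localization.AtPrime q₁) y ∉
        IsLocalRing.maximalIdeal (Localization.AtPrime q₁) ^ 2 := by
      by_contra hno
      push Not at hno
      have hle : IsLocalRing.maximalIdeal (Localization.AtPrime q₁) ≤
          IsLocalRing.maximalIdeal (Localization.AtPrime q₁) ^ 2 := by
        conv_lhs => rw [← Localization.AtPrime.map_eq_maximalIdeal]
        exact Ideal.map_le_iff_le_comap.mpr hno
      rw [pow_two] at hle
      exact IsDiscreteValuationRing.not_a_field _ (Submodule.eq_bot_of_le_smul_of_le_jacobson_bot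
        _ _ (IsNoetherian.noetherian _) hle (IsLocalRing.maximalIdeal_le_jacobson _))
    set C := (finite_height_one hc).toFinset with hC
    have hC' : ∀ q ∈ C, q.IsPrime ∧ q.height = 1 ∧ c ∈ q := fun q hq => by simpa [hC] using hq
    -- multipliers
    have hmult : ∀ q ∈ C.erase q₁, ∃ sq, sq ∉ q₁ ∧ ∃ _ : q.IsPrime, ∀ r : R,
        ∃ t ∈ IsLocalRing.maximalIdeal (Localization.AtPrime q),
          algebraMap R (Localization.AtPrime q) (sq * r) = algebraMap R _ c * t := by
      intro q hq
      obtain ⟨hqp, hqh, hcq⟩ := hC' q (Finset.mem_of_mem_erase hq)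
      have := dvr_of_height_one q hqh
      set mq := IsLocalRing.maximalIdeal (Localization.AtPrime q)
      have hne0 : Ideal.span {algebraMap R (Localization.AtPrime q) c} ≠ ⊥ := by
        rw [Ne, Ideal.span_singleton_eq_bot]
        exact fun h => hc (IsLocalization.injective (Localization.AtPrime q)
          q.primeCompl_le_nonZeroDivisors (by rw [h, map_zero]))
      have hT : IsDiscreteValuationRing (Localization.AtPrime q) ↔
          ∀ (I : Ideal (Localization.AtPrime q)) (_ : I ≠ ⊥), ∃ k : ℕ,
            I = IsLocalRing.maximalIdeal (Localization.AtPrime q) ^ k :=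
        (IsDiscreteValuationRing.TFAE (Localization.AtPrime q)
          (IsDiscreteValuationRing.not_isField _)).out 0 6
      obtain ⟨n, hn⟩ := hT.mp inferInstance _ hne0
      obtain ⟨sq, hsq', hsq1⟩ : ∃ sq ∈ q ^ (n + 1), sq ∉ q₁ := by
        by_contra hno
        push Not at hno
        exact Finset.ne_of_mem_erase hq (eq_of_le_of_height_one
          (Ideal.IsPrime.le_of_pow_le (n := n + 1) hno) hqh hq₁)
      refine ⟨sq, hsq1, hqp, fun r => ?_⟩
      have hmem : algebraMap R (Localization.AtPrime q) (sq * r) ∈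
          Ideal.span {algebraMap R (Localization.AtPrime q) c} * mq := by
        rw [hn, ← pow_succ, map_mul]
        refine Ideal.mul_mem_right _ _ ?_
        show _ ∈ IsLocalRing.maximalIdeal (Localization.AtPrime q) ^ (n + 1)
        rw [← Localization.AtPrime.map_eq_maximalIdeal, ← Ideal.map_pow]
        exact Ideal.mem_map_of_mem _ hsq'
      obtain ⟨t, ht, he⟩ := Ideal.mem_span_singleton_mul.mp hmem
      exact ⟨t, ht, he.symm⟩
    choose! sq hsq₁ hsqp hsqt using hmult
    obtain ⟨sN, hsN, hsN1⟩ : ∃ z ∈ IsLocalRing.maximalIdeal R ^ (N₀ + 1), z ∉ q₁ := by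
      by_contra hno
      push Not at hno
      rw [(IsLocalRing.maximalIdeal.isMaximal R).eq_of_le hq₁p.ne_top
        (Ideal.IsPrime.le_of_pow_le hno), hq₁] at hm
      have hm' : 1 = n + 1 := by exact_mod_cast hm
      omega
    set w := sN * ∏ q ∈ C.erase q₁, sq q
    have hw : w ∉ q₁ := fun h => by
      rcases hq₁p.mem_or_mem h with h | h
      · exact hsN1 h
      · obtain ⟨q, hq, hq'⟩ := (hq₁p.prod_mem_iff).mp h
        exact hsq₁ q hq hq'
    set c' := c + y * w
    have hyw : y * w ∈ IsLocalRing.maximalIdeal R * J := hN (by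
      simp only [w]
      exact Ideal.mul_mem_left _ _ (Ideal.mul_mem_right _ _ hsN))
    have hc'q₁ : algebraMap R (Localization.AtPrime q₁) c' ∈
        IsLocalRing.maximalIdeal (Localization.AtPrime q₁) ∧
        algebraMap R (Localization.AtPrime q₁) c' ∉
        IsLocalRing.maximalIdeal (Localization.AtPrime q₁) ^ 2 := by
      have hym : algebraMap R (Localization.AtPrime q₁) y ∈
          IsLocalRing.maximalIdeal (Localization.AtPrime q₁) := by
        rw [← Localization.AtPrime.map_eq_maximalIdeal]
        exact Ideal.mem_map_of_mem _ hy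
      rw [map_add, map_mul]
      refine ⟨add_mem (Ideal.pow_le_self two_ne_zero hsq) (Ideal.mul_mem_right _ _ hym),
        fun h => hy2 ?_⟩
      have := Ideal.sub_mem _ h hsq
      rw [add_sub_cancel_left] at this
      exact (Ideal.mul_unit_mem_iff_mem _
        (IsLocalization.map_units _ (⟨w, hw⟩ : q₁.primeCompl))).mp this
    have hc'0 : c' ≠ 0 := fun h => hc'q₁.2 (by rw [h, map_zero]; exact zero_mem _)
    have hlocal : ∀ q ∈ C, ∀ [q.IsPrime], c' ∈ q ∧
        algebraMap R (Localization.AtPrime q) c' ∣ algebraMap R (Localization.AtPrime q) c := by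
      intro q hq _
      rcases eq_or_ne q q₁ with rfl | hne
      · refine ⟨(IsLocalization.AtPrime.to_map_mem_maximal_iff (Localization.AtPrime q) q c').mp hc'q₁.1, ?_⟩
        rw [← Ideal.mem_span_singleton, span_eq_maximalIdeal hc'q₁.1 hc'q₁.2]
        exact Ideal.pow_le_self two_ne_zero hsq
      · have hqe := Finset.mem_erase.mpr ⟨hne, hq⟩
        obtain ⟨t, htm, ht⟩ := hsqt q hqe (y * (sN * ∏ z ∈ (C.erase q₁).erase q, sq z))
        have he : sq q * (y * (sN * ∏ z ∈ (C.erase q₁).erase q, sq z)) = y * w := by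
          simp only [w]
          rw [← Finset.mul_prod_erase _ _ hqe]
          ring
        rw [he] at ht
        have heq : algebraMap R (Localization.AtPrime q) c' = algebraMap R _ c * (1 + t) := by
          rw [map_add, ht, mul_add, mul_one]
        refine ⟨(IsLocalization.AtPrime.to_map_mem_maximal_iff (Localization.AtPrime q) q c').mp ?_, ?_⟩
        · rw [heq]
          exact Ideal.mul_mem_right _ _
            ((IsLocalization.AtPrime.to_map_mem_maximal_iff (Localization.AtPrime q) q c).mpr (hC' q hq).2.2)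
        · rw [heq]
          have hu : IsUnit (1 + t) := IsLocalRing.isUnit_of_mem_nonunits_one_sub_self _
            (by simpa using htm)
          exact (Associated.dvd (associated_mul_unit_left _ _ hu))
    have hJ' : Ideal.span (insert c' (Set.range x)) = J := by
      apply le_antisymm
      · rw [Ideal.span_le, Set.insert_subset_iff]
        exact ⟨add_mem (hcJ ▸ Ideal.subset_span (Set.mem_insert _ _) : c ∈ J) (Ideal.mul_le_right hyw),
          fun z hz => Ideal.subset_span (Set.mem_insert_of_mem _ hz)⟩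
      · refine Submodule.le_of_le_smul_of_le_jacobson_bot (IsNoetherian.noetherian _)
          (IsLocalRing.maximalIdeal_le_jacobson _) ?_
        conv_lhs => rw [← hcJ]
        rw [Ideal.span_le, Set.insert_subset_iff]
        refine ⟨Submodule.mem_sup.mpr ⟨c', Ideal.subset_span (Set.mem_insert _ _), -(y * w),
          neg_mem (by simpa [smul_eq_mul] using hyw), ?_⟩,
          fun z hz => Submodule.mem_sup_left (Ideal.subset_span (Set.mem_insert_of_mem _ hz))⟩
        simp [c']
    have hsub : C ⊂ (finite_height_one hc'0).toFinset := by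
      refine Finset.ssubset_iff_subset_ne.mpr ⟨fun q hq => ?_, fun heq => ?_⟩
      · have := (hC' q hq).1
        simpa using ⟨(hC' q hq).1, (hC' q hq).2.1, (hlocal q hq).1⟩
      · have hdvd : c' ∣ c := dvd_of_forall_height_one c' c hc'0 fun q _ hqh hq' =>
          (hlocal q (heq ▸ by simpa using ⟨‹q.IsPrime›, hqh, hq'⟩)).2
        obtain ⟨t, ht⟩ := hdvd
        have htm : t ∈ IsLocalRing.maximalIdeal R := by
          intro htu
          refine hc'q₁.2 ?_
          have h := hsq
          rw [ht, map_mul] at h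
          exact (Ideal.mul_unit_mem_iff_mem _ (htu.map _)).mp h
        have hyw' : c' * (1 - t) = y * w := by
          rw [mul_sub, mul_one, ← ht]
          exact add_sub_cancel_left c (y * w)
        have hu : IsUnit (1 - t) := IsLocalRing.isUnit_of_mem_nonunits_one_sub_self _ (by simpa using htm)
        have hc'J : c' ∈ IsLocalRing.maximalIdeal R * J :=
          (Ideal.mul_unit_mem_iff_mem _ hu).mp (hyw' ▸ hyw)
        have hJx : J ≤ Ideal.span (Set.range x) := by
          refine Submodule.le_of_le_smul_of_le_jacobson_bot (IsNoetherian.noetherian _)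
            (IsLocalRing.maximalIdeal_le_jacobson _) ?_
          conv_lhs => rw [← hJ']
          rw [Ideal.span_le, Set.insert_subset_iff]
          exact ⟨Submodule.mem_sup_right (by simpa [smul_eq_mul] using hc'J),
            fun z hz => Submodule.mem_sup_left (Ideal.subset_span hz)⟩
        have hmin : IsLocalRing.maximalIdeal R ∈ (Ideal.span (Set.range x)).minimalPrimes :=
          ⟨⟨inferInstance, Ideal.span_le.2 (by rintro _ ⟨i, rfl⟩; exact hx i)⟩, fun P hP _ =>
            (hrad.trans (Ideal.radical_mono hJx)).trans (hP.1.radical_le_iff.mpr hP.2)⟩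
        have h1 := Ideal.height_le_card_of_mem_minimalPrimes_span (Set.finite_range x) hmin
        have h4 : (Set.range x).ncard ≤ n := by
          rw [← Set.image_univ]
          exact (Set.ncard_image_le Set.finite_univ).trans (by simp)
        rw [hm] at h1
        have h6 : n + 1 ≤ (Set.range x).ncard := by exact_mod_cast h1
        omega
    refine ih c' hc'0 (fun p hp => ?_) hJ' ?_
    · have := (hs p hp).1
      exact (hlocal p (by simpa [hC] using ⟨(hs p hp).1, (hs p hp).2, hcs p hp⟩)).1
    · have := Finset.card_lt_card hsub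
      omega

omit [IsIntegrallyClosed R] in
theorem le_dim_quotient [IsLocalRing R] (hc : CAlg.IsCatenary R) {n : ℕ}
    (hdim : ringKrullDim R = ((n + 1 : ℕ) : WithBot ℕ∞)) (P : Ideal R) [P.IsPrime]
    (hP : P.height = 1) : (n : WithBot ℕ∞) ≤ ringKrullDim (R ⧸ P) := by
  have he : EGA4.IsEquidim R := fun p hp => by
    rw [IsDomain.minimalPrimes_eq_singleton_bot, Set.mem_singleton_iff] at hp
    subst hp
    exact ringKrullDim_eq_of_ringEquiv (RingEquiv.quotientBot R)
  have h := EGA4H10.dim_quotient_add_height (EGA4H10.coverSucc_of_catenary_equidim hc he) P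
  rw [hP, hdim] at h
  revert h
  generalize ringKrullDim (R ⧸ P) = e
  induction e using WithBot.recBotCoe with
  | bot =>
    intro h
    rw [WithBot.bot_add] at h
    exact absurd h.symm (WithBot.natCast_ne_bot _)
  | coe e =>
    induction e using ENat.recTopCoe with
    | top =>
      intro _
      exact WithBot.coe_le_coe.2 le_top
    | coe k =>
      intro h
      have h1 : k + 1 = n + 1 := by exact_mod_cast h
      have h2 : n ≤ k := by omega
      exact_mod_cast h2

theorem exists_mem_reduced [IsLocalRing R] (hc : CAlg.IsCatenary R) (J : Ideal R)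
    (hJ : J.IsRadical) (hJ0 : J ≠ ⊥) :
    ∃ f ∈ J, f ≠ 0 ∧ IsReduced (R ⧸ Ideal.span ({f} : Set R)) := by
  classical
  by_cases hJT : J = ⊤
  · refine ⟨1, hJT ▸ Submodule.mem_top, one_ne_zero, ?_⟩
    have : Subsingleton (R ⧸ Ideal.span ({1} : Set R)) :=
      Ideal.Quotient.subsingleton_iff.2 Ideal.span_singleton_one
    infer_instance
  obtain ⟨a, haJ, ha⟩ := Submodule.exists_mem_ne_zero_of_ne_bot hJ0
  let s := ((Ideal.span {a}).finite_minimalPrimes_of_isNoetherianRing (R := R)).toFinset
  have hs : ∀ p ∈ s, p.IsPrime ∧ p.height = 1 := fun p hp => by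
    rw [Set.Finite.mem_toFinset] at hp
    have := hp.1.1
    refine ⟨hp.1.1, le_antisymm
      (Ideal.height_le_one_of_isPrincipal_of_mem_minimalPrimes _ p hp) ?_⟩
    rw [Order.one_le_iff_pos, pos_iff_ne_zero, Ne, Ideal.height_eq_zero_iff,
      IsDomain.minimalPrimes_eq_singleton_bot, Set.mem_singleton_iff]
    exact fun h => ha (by simpa [h] using hp.1.2 (Ideal.mem_span_singleton_self a))
  suffices ∃ f : R, f ≠ 0 ∧ (∀ p ∈ s, f ∈ p) ∧ IsReduced (R ⧸ Ideal.span ({f} : Set R)) by
    obtain ⟨f, hf, hfs, hred⟩ := this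
    refine ⟨f, ?_, hf, hred⟩
    have : f ∈ (Ideal.span {a}).radical := by
      rw [← Ideal.sInf_minimalPrimes, Ideal.mem_sInf]
      intro p hp
      exact hfs p (by simpa [s] using hp)
    exact hJ.radical_le_iff.2 ((Ideal.span_singleton_le_iff_mem _).2 haJ) this
  obtain ⟨d, hd⟩ : ∃ d : ℕ, ringKrullDim R = (d : WithBot ℕ∞) := by
    obtain ⟨d, hd⟩ := ENat.ne_top_iff_exists.mp
      (Ideal.height_ne_top (I := IsLocalRing.maximalIdeal R) (IsLocalRing.maximalIdeal.isMaximal R).ne_top)
    exact ⟨d, by rw [← IsLocalRing.maximalIdeal_height_eq_ringKrullDim, ← hd]; rfl⟩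
  have hm : (IsLocalRing.maximalIdeal R).height = (d : ℕ∞) :=
    WithBot.coe_injective ((IsLocalRing.maximalIdeal_height_eq_ringKrullDim (R := R)).trans hd)
  match d with
  | 0 =>
    rw [Nat.cast_zero, Ideal.height_eq_zero_iff, IsDomain.minimalPrimes_eq_singleton_bot,
      Set.mem_singleton_iff] at hm
    refine absurd ?_ ha
    simpa [hm] using IsLocalRing.le_maximalIdeal hJT haJ
  | 1 =>
    have := dvr_of_height_one (IsLocalRing.maximalIdeal R) (by simpa using hm)
    obtain ⟨y, hy, hy2⟩ : ∃ y ∈ IsLocalRing.maximalIdeal R,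
        algebraMap R (Localization.AtPrime (IsLocalRing.maximalIdeal R)) y ∉
        IsLocalRing.maximalIdeal (Localization.AtPrime (IsLocalRing.maximalIdeal R)) ^ 2 := by
      by_contra hno
      push Not at hno
      have hle : IsLocalRing.maximalIdeal (Localization.AtPrime (IsLocalRing.maximalIdeal R)) ≤
          IsLocalRing.maximalIdeal (Localization.AtPrime (IsLocalRing.maximalIdeal R)) ^ 2 := by
        conv_lhs => rw [← Localization.AtPrime.map_eq_maximalIdeal]
        exact Ideal.map_le_iff_le_comap.mpr hno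
      rw [pow_two] at hle
      exact IsDiscreteValuationRing.not_a_field _ (Submodule.eq_bot_of_le_smul_of_le_jacobson_bot
        _ _ (IsNoetherian.noetherian _) hle (IsLocalRing.maximalIdeal_le_jacobson _))
    have hy0 : y ≠ 0 := fun h => hy2 (by rw [h, map_zero]; exact zero_mem _)
    refine ⟨y, hy0, fun p hp => ?_, isReduced_of_simple y hy0 fun q _ hq hyq => ?_⟩
    · have := (hs p hp).1
      rwa [eq_of_le_of_height_one (IsLocalRing.le_maximalIdeal this.ne_top) (hs p hp).2
        (by simpa using hm)]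
    · obtain rfl : q = IsLocalRing.maximalIdeal R :=
        eq_of_le_of_height_one (IsLocalRing.le_maximalIdeal ‹q.IsPrime›.ne_top) hq (by simpa using hm)
      exact hy2
  | n + 2 =>
    exact exists_reduced_of_dim (n := n + 1) (Nat.le_add_left 1 n) hd
      (fun P _ hP => le_dim_quotient hc hd P hP) s hs

end Groth.Agent.EtAlg23.ReducedHyp
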