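import Mathlib.RingTheory.Flat.Basic
import Mathlib.Algebra.Module.Torsion.Basic
import Mathlib.LinearAlgebra.TensorProduct.Pi
import Mathlib.LinearAlgebra.TensorProduct.RightExactness
import Mathlib.RingTheory.Ideal.Quotient.Operations
import Mathlib.RingTheory.Noetherian.Nilpotent
import Mathlib.Algebra.Module.LocalizedModule.Basic
import Mathlib.Tactic.Abel

set_option autoImplicit false
set_option linter.style.haveILetI false
universe u v

open TensorProduct

namespace Groth.Agent.EtAlg23

variable {R : Type u} {S : Type v} [CommRing R] [CommRing S] [Algebra R S] {I : Ideal R}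

/-- An element is `I`-power torsion. -/
def IsIPowTorsion (I : Ideal R) {M : Type*} [AddCommGroup M] [Module R M] (x : M) : Prop :=
  ∃ n : ℕ, ∀ a ∈ I ^ n, a • x = 0

theorem mk_bijective_of_killed_one
    (hq : Function.Bijective (Ideal.quotientMap (I.map (algebraMap R S)) (algebraMap R S) Ideal.le_comap_map))
    {M : Type*} [AddCommGroup M] [Module R M] (hM : ∀ a ∈ I, ∀ x : M, a • x = 0) :
    Function.Bijective (TensorProduct.mk R S M 1) := by
  have hdec : ∀ s : S, ∃ r : R, s - algebraMap R S r ∈ I.map (algebraMap R S) := fun s => by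
    obtain ⟨q, hq'⟩ := hq.2 (Ideal.Quotient.mk _ s)
    obtain ⟨r, rfl⟩ := Ideal.Quotient.mk_surjective q
    rw [Ideal.quotientMap_mk, Ideal.Quotient.mk_eq_mk_iff_sub_mem] at hq'
    exact ⟨r, by rw [← neg_sub]; exact neg_mem hq'⟩
  have hker : ∀ r : R, algebraMap R S r ∈ I.map (algebraMap R S) → r ∈ I := fun r hr => by
    rw [← Ideal.Quotient.eq_zero_iff_mem]
    apply hq.1
    rw [map_zero, Ideal.quotientMap_mk, Ideal.Quotient.eq_zero_iff_mem]
    exact hr
  choose ρ hρ using hdec
  have hval : ∀ (s : S) (r : R) (x : M), s - algebraMap R S r ∈ I.map (algebraMap R S) → ρ s • x = r • x := by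
    intro s r x hr
    rw [← sub_eq_zero, ← sub_smul]
    refine hM _ (hker _ ?_) x
    have := Ideal.sub_mem _ hr (hρ s)
    rwa [sub_sub_sub_cancel_left, ← map_sub] at this
  let φ : S →ₗ[R] M →ₗ[R] M := LinearMap.mk₂ R (fun s x => ρ s • x)
    (fun a b x => by
      rw [hval (a + b) (ρ a + ρ b) x (by rw [map_add, add_sub_add_comm]; exact add_mem (hρ a) (hρ b)), add_smul])
    (fun c a x => by
      rw [hval (c • a) (c * ρ a) x (by
        rw [map_mul, Algebra.smul_def, ← mul_sub]; exact Ideal.mul_mem_left _ _ (hρ a)), mul_smul])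
    (fun a x y => smul_add _ _ _) (fun c a x => smul_comm _ _ _)
  have hsurj : ∀ (s : S) (x : M), s ⊗ₜ[R] x = (1 : S) ⊗ₜ[R] (ρ s • x) := by
    intro s x
    have hzero : ∀ w ∈ I.map (algebraMap R S), w ⊗ₜ[R] x = 0 := by
      intro w hw
      refine Submodule.span_induction (p := fun w _ => ∀ c : S, (c * w) ⊗ₜ[R] x = 0) ?_ ?_ ?_ ?_ hw 1
        |>.symm.trans ?_ |>.symm
      · rintro _ ⟨a, ha, rfl⟩ c
        rw [mul_comm, ← Algebra.smul_def, TensorProduct.smul_tmul, hM a ha, TensorProduct.tmul_zero]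
      · intro c; rw [mul_zero, TensorProduct.zero_tmul]
      · intro a b _ _ ha hb c; rw [mul_add, TensorProduct.add_tmul, ha, hb, add_zero]
      · intro d a _ ha c; rw [smul_eq_mul, ← mul_assoc]; exact ha _
      · rw [one_mul]
    conv_lhs => rw [← sub_add_cancel s (algebraMap R S (ρ s))]
    rw [TensorProduct.add_tmul, hzero _ (hρ s), zero_add, Algebra.algebraMap_eq_smul_one, TensorProduct.smul_tmul]
  refine ⟨fun x y hxy => ?_, fun z => ?_⟩
  · have h := congrArg (TensorProduct.lift φ) hxy
    simp only [TensorProduct.mk_apply, TensorProduct.lift.tmul, φ, LinearMap.mk₂_apply] at h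
    rwa [hval 1 1 x (by simp), hval 1 1 y (by simp), one_smul, one_smul] at h
  · induction z using TensorProduct.induction_on with
    | zero => exact ⟨0, map_zero _⟩
    | tmul s x => exact ⟨ρ s • x, (hsurj s x).symm⟩
    | add a b ha hb =>
      obtain ⟨x, rfl⟩ := ha
      obtain ⟨y, rfl⟩ := hb
      exact ⟨x + y, map_add _ _ _⟩

variable [Module.Flat R S]

theorem mk_bijective_of_killed_pow
    (hq : Function.Bijective (Ideal.quotientMap (I.map (algebraMap R S)) (algebraMap R S) Ideal.le_comap_map))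
    (n : ℕ) : ∀ {M : Type u} [AddCommGroup M] [Module R M], (∀ a ∈ I ^ n, ∀ x : M, a • x = 0) →
      Function.Bijective (TensorProduct.mk R S M 1) := by
  induction n with
  | zero =>
    intro M _ _ hM
    have : Subsingleton M := ⟨fun x y => by
      have hx := hM 1 (by simp) x
      have hy := hM 1 (by simp) y
      rw [one_smul] at hx hy
      rw [hx, hy]⟩
    exact mk_bijective_of_killed_one hq fun a _ x => Subsingleton.elim _ _
  | succ n ih =>
    intro M _ _ hM
    let N : Submodule R M := I ^ n • ⊤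
    have hN : ∀ a ∈ I, ∀ x : N, a • x = 0 := fun a ha ⟨x, hx⟩ => Subtype.ext (by
      show a • x = 0
      refine Submodule.smul_induction_on hx (fun b hb y _ => ?_) fun y z hy hz => ?_
      · rw [← mul_smul]
        exact hM _ (by rw [pow_succ']; exact Ideal.mul_mem_mul ha hb) y
      · rw [smul_add, hy, hz, add_zero])
    have hQ : ∀ a ∈ I ^ n, ∀ x : M ⧸ N, a • x = 0 := fun a ha x => by
      obtain ⟨x, rfl⟩ := Submodule.Quotient.mk_surjective N x
      exact (Submodule.Quotient.mk_eq_zero N).2 (Submodule.smul_mem_smul ha Submodule.mem_top)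
    have hN' := mk_bijective_of_killed_one (S := S) hq hN
    have hQ' := ih hQ
    refine ⟨(injective_iff_map_eq_zero _).2 fun x hx => ?_, fun z => ?_⟩
    · have hxN : x ∈ N := (Submodule.Quotient.mk_eq_zero N).1 (hQ'.1 (by
        rw [map_zero]
        have := congrArg (N.mkQ.lTensor S) hx
        rwa [TensorProduct.mk_apply, LinearMap.lTensor_tmul, map_zero] at this))
      have : (⟨x, hxN⟩ : N) = 0 := hN'.1 (by
        rw [map_zero]
        refine Module.Flat.lTensor_preserves_injective_linearMap N.subtype Subtype.val_injective ?_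
        rw [map_zero, TensorProduct.mk_apply, LinearMap.lTensor_tmul]
        exact hx)
      exact congrArg Subtype.val this
    · obtain ⟨q, hq'⟩ := hQ'.2 (N.mkQ.lTensor S z)
      obtain ⟨x, rfl⟩ := N.mkQ_surjective q
      obtain ⟨w, hw⟩ := ((lTensor_exact S (LinearMap.exact_subtype_mkQ N) N.mkQ_surjective) (z - 1 ⊗ₜ x)).1 (by
        rw [map_sub, ← hq', LinearMap.lTensor_tmul, TensorProduct.mk_apply, sub_self])
      obtain ⟨y, rfl⟩ := hN'.2 w
      refine ⟨x + y, ?_⟩
      rw [TensorProduct.mk_apply, LinearMap.lTensor_tmul] at hw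
      rw [TensorProduct.mk_apply, TensorProduct.tmul_add]
      exact eq_sub_iff_add_eq'.1 hw

theorem mk_bijective_of_torsion'
    (hq : Function.Bijective (Ideal.quotientMap (I.map (algebraMap R S)) (algebraMap R S) Ideal.le_comap_map))
    {M : Type u} [AddCommGroup M] [Module R M] (hM : ∀ x : M, IsIPowTorsion I x) :
    Function.Bijective (TensorProduct.mk R S M 1) := by
  let T : ℕ → Submodule R M := fun n => Submodule.torsionBySet R M (I ^ n : Ideal R)
  have hmem : ∀ {n x}, x ∈ T n ↔ ∀ a ∈ I ^ n, a • x = 0 := fun {n x} =>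
    ⟨fun h a ha => Submodule.mem_torsionBySet_iff _ _ |>.1 h ⟨a, ha⟩,
      fun h => (Submodule.mem_torsionBySet_iff _ _).2 fun a => h _ a.2⟩
  have hT : ∀ n, Function.Bijective (TensorProduct.mk R S (T n) 1) := fun n =>
    mk_bijective_of_killed_pow hq n fun a ha x => Subtype.ext (hmem.1 x.2 a ha)
  refine ⟨(injective_iff_map_eq_zero _).2 fun x hx => ?_, fun z => ?_⟩
  · obtain ⟨n, hn⟩ := hM x
    have : (⟨x, hmem.2 hn⟩ : T n) = 0 := (hT n).1 (by
      rw [map_zero]
      refine Module.Flat.lTensor_preserves_injective_linearMap (T n).subtype Subtype.val_injective ?_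
      rw [map_zero, TensorProduct.mk_apply, LinearMap.lTensor_tmul]
      exact hx)
    exact congrArg Subtype.val this
  · induction z using TensorProduct.induction_on with
    | zero => exact ⟨0, map_zero _⟩
    | tmul s x =>
      obtain ⟨n, hn⟩ := hM x
      obtain ⟨y, hy⟩ := (hT n).2 (s ⊗ₜ (⟨x, hmem.2 hn⟩ : T n))
      refine ⟨y, ?_⟩
      have := congrArg ((T n).subtype.lTensor S) hy
      simpa using this
    | add a b ha hb =>
      obtain ⟨x, rfl⟩ := ha
      obtain ⟨y, rfl⟩ := hb
      exact ⟨x + y, map_add _ _ _⟩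

omit [Module.Flat R S] in
theorem isIPowTorsion_of_generators {t : ℕ} {g : Fin t → R} (hI : I = Ideal.span (Set.range g))
    {M : Type*} [AddCommGroup M] [Module R M] {x : M} (k : ℕ) (hx : ∀ i, g i ^ k • x = 0) :
    IsIPowTorsion I x := by
  let J : Ideal R := Ideal.span (Set.range fun i => g i ^ k)
  have hIJ : I ≤ J.radical := by
    rw [hI, Ideal.span_le]
    rintro _ ⟨i, rfl⟩
    exact ⟨k, Ideal.subset_span ⟨i, rfl⟩⟩
  obtain ⟨n, hn⟩ := Ideal.exists_pow_le_of_le_radical_of_fg hIJ
    (hI ▸ Submodule.fg_span (Set.finite_range g))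
  refine ⟨n, fun a ha => ?_⟩
  have : J ≤ LinearMap.ker (LinearMap.toSpanSingleton R M x) := by
    rw [Ideal.span_le]
    rintro _ ⟨i, rfl⟩
    exact hx i
  exact this (hn ha)

omit [Module.Flat R S] in
theorem exists_gen_pow_smul_eq_zero {t : ℕ} {g : Fin t → R} (hI : I = Ideal.span (Set.range g))
    {M : Type*} [AddCommGroup M] [Module R M] {x : M} (hx : IsIPowTorsion I x) :
    ∃ k : ℕ, ∀ i, g i ^ k • x = 0 := by
  obtain ⟨n, hn⟩ := hx
  exact ⟨n, fun i => hn _ (Ideal.pow_mem_pow (hI ▸ Ideal.subset_span ⟨i, rfl⟩) n)⟩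

/-- Power torsion of `S ⊗ N` comes from power torsion of `N`. -/
theorem exists_torsion_preimage
    (hq : Function.Bijective (Ideal.quotientMap (I.map (algebraMap R S)) (algebraMap R S) Ideal.le_comap_map))
    (hfg : I.FG) {N : Type u} [AddCommGroup N] [Module R N] {y : S ⊗[R] N} (hy : IsIPowTorsion I y) :
    ∃ x : N, IsIPowTorsion I x ∧ (1 : S) ⊗ₜ[R] x = y := by
  obtain ⟨t, g, hI⟩ := Submodule.fg_iff_exists_fin_generating_family.1 hfg
  replace hI : I = Ideal.span (Set.range g) := hI.symm
  obtain ⟨k, hk⟩ := exists_gen_pow_smul_eq_zero hI hy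
  let u : N →ₗ[R] (Fin t → N) := LinearMap.pi fun i => g i ^ k • LinearMap.id
  let K := LinearMap.ker u
  have hK : ∀ x : K, IsIPowTorsion I x := fun x =>
    isIPowTorsion_of_generators hI k fun i => Subtype.ext (congrFun x.2 i)
  have huy : u.lTensor S y = 0 := by
    apply (TensorProduct.piRight R R S (fun _ : Fin t => N)).injective
    rw [map_zero]
    funext i
    have key : ∀ z : S ⊗[R] N, TensorProduct.piRight R R S (fun _ : Fin t => N) (u.lTensor S z) i = g i ^ k • z := by
      intro z
      induction z using TensorProduct.induction_on with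
      | zero => simp
      | tmul s x => simp [u, TensorProduct.tmul_smul]
      | add a b ha hb => simp only [map_add, Pi.add_apply, ha, hb, smul_add]
    rw [key, hk i]
    rfl
  obtain ⟨w, hw⟩ := ((Module.Flat.lTensor_exact (M := S) u.exact_subtype_ker_map) y).1 huy
  obtain ⟨x, rfl⟩ := (mk_bijective_of_torsion' hq hK).2 w
  refine ⟨x, ?_, ?_⟩
  · obtain ⟨n, hn⟩ := hK x
    exact ⟨n, fun a ha => congrArg Subtype.val (hn a ha)⟩
  · rw [← hw, TensorProduct.mk_apply, LinearMap.lTensor_tmul]
    rfl

theorem eq_zero_of_torsion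
    (hq : Function.Bijective (Ideal.quotientMap (I.map (algebraMap R S)) (algebraMap R S) Ideal.le_comap_map))
    {N : Type u} [AddCommGroup N] [Module R N] {x : N} (hx : IsIPowTorsion I x)
    (h : (1 : S) ⊗ₜ[R] x = 0) : x = 0 := by
  obtain ⟨n, hn⟩ := hx
  let T : Submodule R N := Submodule.torsionBySet R N (I ^ n : Ideal R)
  have hT := mk_bijective_of_killed_pow (S := S) hq n (M := T) fun a ha z =>
    Subtype.ext ((Submodule.mem_torsionBySet_iff _ _).1 z.2 ⟨a, ha⟩)
  have hxT : x ∈ T := (Submodule.mem_torsionBySet_iff _ _).2 fun a => hn _ a.2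
  have : (⟨x, hxT⟩ : T) = 0 := hT.1 (by
    rw [map_zero]
    refine Module.Flat.lTensor_preserves_injective_linearMap T.subtype Subtype.val_injective ?_
    rw [map_zero, TensorProduct.mk_apply, LinearMap.lTensor_tmul]
    exact h)
  exact congrArg Subtype.val this

end Groth.Agent.EtAlg23
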