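import Mathlib.RingTheory.Valuation.LocalSubring
import Mathlib.RingTheory.Valuation.ValuationRing
import Mathlib.RingTheory.Ideal.GoingUp
import Mathlib.RingTheory.Trace.Basic
import Mathlib.RingTheory.Unramified.Finite
import Mathlib.RingTheory.Unramified.Field
import Mathlib.FieldTheory.IsAlgClosed.AlgebraicClosure

/-!
Unramified extensions of valuation rings do not change the value group.
-/

set_option autoImplicit false
universe u

open TensorProduct

namespace Groth.Agent.EtAlg23

variable {A : Type u} [CommRing A] [IsDomain A] [ValuationRing A]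

/-- A finite family in a valuation ring has an element dividing all the others. -/
theorem exists_dvd_all {α : Type*} (s : Finset α) (c : α → A) (hs : s.Nonempty) :
    ∃ a ∈ s, ∀ b ∈ s, c a ∣ c b := by
  classical
  induction hs using Finset.Nonempty.cons_induction with
  | singleton a => exact ⟨a, Finset.mem_singleton_self a, fun b hb => by rw [Finset.mem_singleton.1 hb]⟩
  | cons x t _ _ ih =>
    obtain ⟨a, ha, ha'⟩ := ih
    rcases ValuationRing.dvd_total (c x) (c a) with hx | hx
    · refine ⟨x, Finset.mem_cons_self _ _, fun b hb => ?_⟩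
      rcases Finset.mem_cons.1 hb with rfl | hb
      · exact dvd_rfl
      · exact hx.trans (ha' b hb)
    · refine ⟨a, Finset.mem_cons_of_mem ha, fun b hb => ?_⟩
      rcases Finset.mem_cons.1 hb with rfl | hb
      · exact hx
      · exact ha' b hb

section field

variable {L : Type u} [Field L] [Algebra A L]

theorem mem_valuationSubring_of_isIntegral {Ω : Type*} [Field Ω] (W : ValuationSubring Ω) (f : L →+* Ω)
    (hA : ∀ a : A, f (algebraMap A L a) ∈ W) {z : L} (hz : IsIntegral A z) : f z ∈ W := by
  letI : Algebra A W := ((f.comp (algebraMap A L)).codRestrict W.toSubring hA).toAlgebra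
  obtain ⟨p, hp, hpz⟩ := hz
  have h1 : IsIntegral W (f z) := by
    refine ⟨p.map (algebraMap A W), hp.map _, ?_⟩
    rw [Polynomial.eval₂_map, show (algebraMap W Ω).comp (algebraMap A W) = f.comp (algebraMap A L) from rfl,
      ← Polynomial.hom_eval₂, hpz, map_zero]
  obtain ⟨w, hw⟩ := IsIntegrallyClosed.isIntegral_iff.1 h1
  rw [← hw]
  exact w.2

theorem integralClosure_isIntegrallyClosedIn :
    IsIntegrallyClosedIn (integralClosure A L).toSubring L := by
  refine Subring.isIntegrallyClosedIn_iff.2 fun {x} hx => ?_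
  letI : Algebra A (integralClosure A L).toSubring :=
    inferInstanceAs (Algebra A (integralClosure A L))
  haveI : IsScalarTower A (integralClosure A L).toSubring L := .of_algebraMap_eq fun _ => rfl
  haveI : Algebra.IsIntegral A (integralClosure A L).toSubring :=
    inferInstanceAs (Algebra.IsIntegral A (integralClosure A L))
  exact isIntegral_trans (R := A) x hx

/-- Every element of an algebraic extension of a valued field is a quotient of integral elements
which do not both lie in a given proper ideal. -/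
theorem exists_frac [FaithfulSMul A L] {z : L} (hz : IsAlgebraic A z)
    (P : Ideal (integralClosure A L)) (hP : P ≠ ⊤) :
    ∃ c d : integralClosure A L, (c : L) = d * z ∧ (c ∉ P ∨ d ∉ P) := by
  classical
  obtain ⟨p, hp0, hpz⟩ := hz
  obtain ⟨i₀, hi₀, hmin⟩ := exists_dvd_all p.support p.coeff (Polynomial.support_nonempty.2 hp0)
  have hdvd : ∀ i, p.coeff i₀ ∣ p.coeff i := fun i => by
    by_cases hi : i ∈ p.support
    · exact hmin i hi
    · rw [Polynomial.notMem_support_iff.1 hi]; exact dvd_zero _
  choose a ha using hdvd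
  have hc : p.coeff i₀ ≠ 0 := Polynomial.mem_support_iff.1 hi₀
  have ha0 : a i₀ = 1 := mul_left_cancel₀ hc ((ha i₀).symm.trans (mul_one _).symm)
  let n := p.natDegree
  let h : ℕ → L := fun j => ∑ i ∈ Finset.range (n + 1 - j), algebraMap A L (a (j + i)) * z ^ i
  have h0 : h 0 = 0 := by
    have : algebraMap A L (p.coeff i₀) * h 0 = 0 := by
      rw [← hpz, Polynomial.aeval_eq_sum_range, Finset.mul_sum]
      refine Finset.sum_congr rfl fun i _ => ?_
      rw [zero_add, ← mul_assoc, ← map_mul, ← ha, Algebra.smul_def]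
    exact (mul_eq_zero.1 this).resolve_left
      ((map_ne_zero_iff _ (FaithfulSMul.algebraMap_injective A L)).2 hc)
  have hstep : ∀ j, j ≤ n → h j = algebraMap A L (a j) + z * h (j + 1) := fun j hj => by
    show ∑ i ∈ Finset.range (n + 1 - j), algebraMap A L (a (j + i)) * z ^ i = _
    rw [show n + 1 - j = (n + 1 - (j + 1)) + 1 by omega, Finset.sum_range_succ', add_comm]
    congr 1
    · simp
    · rw [Finset.mul_sum]
      refine Finset.sum_congr rfl fun i _ => ?_
      rw [show j + (i + 1) = j + 1 + i by omega, pow_succ]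
      ring
  have hout : ∀ j, n < j → h j = 0 := fun j hj => by
    show ∑ i ∈ Finset.range (n + 1 - j), algebraMap A L (a (j + i)) * z ^ i = 0
    rw [show n + 1 - j = 0 by omega, Finset.sum_range_zero]
  haveI := integralClosure_isIntegrallyClosedIn (A := A) (L := L)
  have hint : ∀ j, h j ∈ integralClosure A L := fun j => by
    by_contra hne
    obtain ⟨V, hV, hjV⟩ := Subring.exists_le_valuationSubring_of_isIntegrallyClosedIn
      (R := (integralClosure A L).toSubring) hne
    have haV : ∀ i, algebraMap A L (a i) ∈ V := fun i => hV (Subalgebra.algebraMap_mem _ _)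
    apply hjV
    rcases V.mem_or_inv_mem z with hzV | hzV
    · exact V.toSubring.sum_mem fun i _ => V.toSubring.mul_mem (haV _) (V.toSubring.pow_mem hzV _)
    · clear hne hjV
      induction j with
      | zero => rw [h0]; exact V.zero_mem
      | succ j ih =>
        by_cases hj : j ≤ n
        · by_cases hz0 : z = 0
          · refine V.toSubring.sum_mem fun i _ => V.toSubring.mul_mem (haV _) (V.toSubring.pow_mem ?_ _)
            rw [hz0]; exact V.zero_mem
          · have : h (j + 1) = z⁻¹ * (h j - algebraMap A L (a j)) := by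
              rw [hstep j hj, add_sub_cancel_left, ← mul_assoc, inv_mul_cancel₀ hz0, one_mul]
            rw [this]
            exact V.toSubring.mul_mem hzV (V.toSubring.sub_mem ih (haV _))
        · rw [hout (j + 1) (by omega)]; exact V.zero_mem
  have hzint : ∀ j, z * h (j + 1) ∈ integralClosure A L := fun j => by
    by_cases hj : j ≤ n
    · rw [show z * h (j + 1) = h j - algebraMap A L (a j) by rw [hstep j hj, add_sub_cancel_left]]
      exact sub_mem (hint j) (Subalgebra.algebraMap_mem _ _)
    · rw [hout (j + 1) (by omega), mul_zero]; exact zero_mem _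
  by_contra hcon
  push Not at hcon
  have hall := fun j => hcon ⟨_, hzint j⟩ ⟨_, hint (j + 1)⟩ (mul_comm z (h (j + 1)))
  have hhP : ∀ j, (⟨h j, hint j⟩ : integralClosure A L) ∈ P := fun j => by
    cases j with
    | zero =>
      convert P.zero_mem using 1
      exact Subtype.ext h0
    | succ j => exact (hall j).2
  refine hP ((Ideal.eq_top_iff_one _).2 ?_)
  have hn : i₀ ≤ n := Polynomial.le_natDegree_of_mem_supp _ hi₀
  have : (1 : integralClosure A L) = ⟨h i₀, hint i₀⟩ - ⟨z * h (i₀ + 1), hzint i₀⟩ :=
    Subtype.ext (by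
      show (1 : L) = h i₀ - z * h (i₀ + 1)
      rw [hstep i₀ hn, add_sub_cancel_right, ha0, map_one])
  rw [this]
  exact P.sub_mem (hhP i₀) (hall i₀).1

variable {Ω : Type u} [Field Ω] (U : ValuationSubring Ω) (f g : L →+* Ω)
  (hfg : ∀ a : A, f (algebraMap A L a) = g (algebraMap A L a))
  (hA : ∀ a : A, f (algebraMap A L a) ∈ U)

include hA hfg in
theorem mem_iff_of_nonunits_iff [FaithfulSMul A L] [Algebra.IsAlgebraic A L]
    (h : ∀ c : integralClosure A L, U.valuation (f c) < 1 ↔ U.valuation (g c) < 1) (z : L) :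
    f z ∈ U → g z ∈ U := by
  intro hz
  have hint : ∀ c : integralClosure A L, g c ∈ U := fun c =>
    mem_valuationSubring_of_isIntegral U g (fun a => hfg a ▸ hA a) c.2
  have hint' : ∀ c : integralClosure A L, f c ∈ U := fun c =>
    mem_valuationSubring_of_isIntegral U f hA c.2
  let P : Ideal (integralClosure A L) :=
    { carrier := {c | U.valuation (g c) < 1}
      add_mem' := fun {x y} hx hy => by
        show U.valuation (g ((x : L) + (y : L))) < 1
        rw [map_add]
        exact (U.valuation.map_add _ _).trans_lt (max_lt hx hy)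
      zero_mem' := by simp
      smul_mem' := fun c x hx => by
        show U.valuation (g ((c : L) * (x : L))) < 1
        rw [map_mul, map_mul]
        exact mul_lt_one_of_nonneg_of_lt_one_right ((U.valuation_le_one_iff _).2 (hint c)) zero_le hx }
  obtain ⟨c, d, hcd, h'⟩ := exists_frac (Algebra.IsAlgebraic.isAlgebraic z) P
    ((Ideal.ne_top_iff_one _).2 (by show ¬ U.valuation (g ((1 : integralClosure A L) : L)) < 1; simp))
  have hone : ∀ e : integralClosure A L, e ∉ P → U.valuation (g e) = 1 := fun e he =>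
    ((U.valuation_le_one_iff _).2 (hint e)).antisymm (not_lt.1 he)
  have hd : d ∉ P := by
    intro hd
    have hc : c ∉ P := h'.resolve_right (fun hh => hh hd)
    have h1 : U.valuation (f c) < 1 := by
      rw [hcd, map_mul, map_mul]
      exact mul_lt_one_of_nonneg_of_lt_one_left zero_le ((h d).2 hd) ((U.valuation_le_one_iff _).2 hz)
    exact hc ((h c).1 h1)
  rw [← U.valuation_le_one_iff]
  have h1 : U.valuation (g c) ≤ 1 := (U.valuation_le_one_iff _).2 (hint c)
  rwa [hcd, map_mul, map_mul, hone d hd, one_mul] at h1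

include hA hfg in
theorem valuation_map_eq [FaithfulSMul A L] [Algebra.IsAlgebraic A L]
    (h : ∀ c : integralClosure A L, U.valuation (f c) < 1 ↔ U.valuation (g c) < 1) (b : L) :
    U.valuation (f b) = U.valuation (g b) := by
  classical
  by_cases hb : b = 0
  · simp [hb]
  obtain ⟨p, hp0, hpb⟩ := Algebra.IsAlgebraic.isAlgebraic (R := A) b
  let T : ℕ → L := fun i => algebraMap A L (p.coeff i) * b ^ i
  have hsum : ∑ i ∈ p.support, T i = 0 := by
    rw [← hpb, Polynomial.aeval_def, Polynomial.eval₂_eq_sum, Polynomial.sum]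
  obtain ⟨i, hi, hmax⟩ := p.support.exists_max_image (fun i => U.valuation (f (T i)))
    (Polynomial.support_nonempty.2 hp0)
  have hT : ∀ j ∈ p.support, T j ≠ 0 := fun j hj => mul_ne_zero
    ((map_ne_zero_iff _ (FaithfulSMul.algebraMap_injective A L)).2 (Polynomial.mem_support_iff.1 hj))
    (pow_ne_zero _ hb)
  obtain ⟨j, hj, hji, hje⟩ : ∃ j ∈ p.support, j ≠ i ∧ U.valuation (f (T j)) = U.valuation (f (T i)) := by
    by_contra hcon
    push Not at hcon
    have := U.valuation.map_sum_eq_of_lt (f := fun j => f (T j)) hi (fun j hj => by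
      simp only [Finset.mem_sdiff, Finset.mem_singleton] at hj
      exact (hmax j hj.1).lt_of_ne (hcon j hj.1 hj.2))
    rw [← map_sum f, hsum, map_zero, map_zero] at this
    exact hT i hi ((map_eq_zero f).1 ((map_eq_zero _).1 this.symm))
  have key : ∀ k l, k ∈ p.support → l ∈ p.support → U.valuation (f (T k)) = U.valuation (f (T l)) →
      k < l → U.valuation (f b) = U.valuation (g b) := by
    intro k l hk hl hkl hlt
    have hg' : ∀ e : L, U.valuation (f e) ≤ 1 → U.valuation (g e) ≤ 1 := fun e he =>
      (U.valuation_le_one_iff _).2 (mem_iff_of_nonunits_iff U f g hfg hA h e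
        ((U.valuation_le_one_iff _).1 he))
    have hne : ∀ (φ : L →+* Ω) (m : ℕ), m ∈ p.support → U.valuation (φ (T m)) ≠ 0 := fun φ m hm => by
      rw [Valuation.ne_zero_iff]; exact (map_ne_zero φ).2 (hT m hm)
    have e1 : U.valuation (g (T k)) = U.valuation (g (T l)) := by
      have a1 := hg' (T k / T l) (by rw [map_div₀, map_div₀, hkl, div_self (hne f l hl)])
      have a2 := hg' (T l / T k) (by rw [map_div₀, map_div₀, hkl, div_self (hne f l hl)])
      rw [map_div₀, map_div₀, div_le_one₀ (zero_lt_iff.2 (hne g l hl))] at a1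
      rw [map_div₀, map_div₀, div_le_one₀ (zero_lt_iff.2 (hne g k hk))] at a2
      exact a1.antisymm a2
    simp only [T, map_mul, map_pow] at hkl e1
    rw [← hfg, ← hfg] at e1
    have hcl : U.valuation (f (algebraMap A L (p.coeff l))) ≠ 0 := by
      rw [Valuation.ne_zero_iff]
      exact (map_ne_zero f).2 ((map_ne_zero_iff _ (FaithfulSMul.algebraMap_injective A L)).2
        (Polynomial.mem_support_iff.1 hl))
    have hbf : U.valuation (f b) ≠ 0 := by rw [Valuation.ne_zero_iff]; exact (map_ne_zero f).2 hb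
    have hbg : U.valuation (g b) ≠ 0 := by rw [Valuation.ne_zero_iff]; exact (map_ne_zero g).2 hb
    obtain ⟨m, rfl⟩ := Nat.exists_eq_add_of_lt hlt
    rw [show k + m + 1 = m + 1 + k by omega, pow_add, ← mul_assoc] at hkl e1
    rw [show k + m + 1 = m + 1 + k by omega] at hcl
    exact (pow_left_inj₀ zero_le zero_le (Nat.succ_ne_zero m)).1 (mul_left_cancel₀ hcl
      ((mul_right_cancel₀ (pow_ne_zero _ hbf) hkl).symm.trans (mul_right_cancel₀ (pow_ne_zero _ hbg) e1)))
  rcases lt_or_gt_of_ne hji with hlt | hlt
  · exact key j i hj hi hje hlt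
  · exact key i j hi hj hje.symm hlt

end field

/-- An auxiliary integral element which is a unit at `ι` and makes the conjugate small. -/
theorem exists_integral_mul_le {L Ω : Type u} [Field L] [Algebra A L] [FaithfulSMul A L]
    [Algebra.IsAlgebraic A L] [Field Ω] (W : ValuationSubring Ω) (ι σ : L →+* Ω)
    (hισ : ∀ a : A, ι (algebraMap A L a) = σ (algebraMap A L a))
    (hA : ∀ a : A, ι (algebraMap A L a) ∈ W) {y b : L} (hy : ι y ∈ W) (hb : b ≠ 0) :
    ∃ t : integralClosure A L, W.valuation (ι t) = 1 ∧
      W.valuation (σ t * σ (y * b)) ≤ W.valuation (ι b) := by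
  classical
  by_contra hcon
  push Not at hcon
  have hσA : ∀ a : A, σ (algebraMap A L a) ∈ W := fun a => hισ a ▸ hA a
  have hintι : ∀ c : integralClosure A L, ι c ∈ W := fun c =>
    mem_valuationSubring_of_isIntegral W ι hA c.2
  have hintσ : ∀ c : integralClosure A L, σ c ∈ W := fun c =>
    mem_valuationSubring_of_isIntegral W σ hσA c.2
  let x := σ (y * b) / ι b
  have hιb : ι b ≠ 0 := (map_ne_zero ι).2 hb
  have hvb : W.valuation (ι b) ≠ 0 := by rwa [Valuation.ne_zero_iff]
  have hxW : x ∉ W := fun hx => by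
    have := hcon 1 (by simp)
    rw [OneMemClass.coe_one, map_one, one_mul] at this
    refine this.not_ge ?_
    rw [← one_mul (W.valuation (ι b)), ← div_le_iff₀ (zero_lt_iff.2 hvb), ← map_div₀]
    exact (W.valuation_le_one_iff _).2 hx
  have hx0 : x ≠ 0 := fun h => hxW (h ▸ W.zero_mem)
  let xi : W := ⟨x⁻¹, (W.mem_or_inv_mem x).resolve_left hxW⟩
  let Q : Ideal W := (Ideal.span {xi}).radical
  haveI hQ : Q.IsPrime := by
    refine ⟨fun h => ?_, fun {a c} hac => ?_⟩
    · have : IsUnit xi := by
        rw [Ideal.radical_eq_top, Ideal.span_singleton_eq_top] at h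
        exact h
      obtain ⟨v, hv⟩ := isUnit_iff_exists_inv.1 this
      have hv' : x⁻¹ * (v : Ω) = 1 := congrArg Subtype.val hv
      exact hxW (((inv_mul_eq_one₀ hx0).1 hv').symm ▸ v.2)
    · obtain ⟨n, hn⟩ := hac
      rcases ValuationRing.dvd_total a c with ⟨e, rfl⟩ | ⟨e, rfl⟩
      · right
        refine ⟨n + n, ?_⟩
        rw [mul_pow, pow_add, pow_add]
        have := Ideal.mul_mem_right (e ^ n) _ hn
        convert this using 1; ring
      · left
        refine ⟨n + n, ?_⟩
        rw [mul_pow, pow_add, pow_add]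
        have := Ideal.mul_mem_right (e ^ n) _ hn
        convert this using 1; ring
  let U := W.ofPrime Q
  have hWU : W ≤ U := W.le_ofPrime Q
  have hUQ : ∀ w : W, U.valuation (w : Ω) < 1 ↔ w ∈ Q := fun w => by
    have h1 := ValuationSubring.ofPrime_valuation_eq_one_iff_mem_primeCompl W Q w
    have h2 : U.valuation (w : Ω) ≤ 1 := (U.valuation_le_one_iff _).2 (hWU w.2)
    constructor
    · intro h; by_contra hw; exact h.ne (h1.2 hw)
    · intro h; exact h2.lt_of_ne fun he => h1.1 he h
  -- the two pullbacks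
  let P₁ : Ideal (integralClosure A L) := Q.comap
    ((ι.comp (integralClosure A L).val.toRingHom).codRestrict W.toSubring hintι)
  let P₂ : Ideal (integralClosure A L) := Q.comap
    ((σ.comp (integralClosure A L).val.toRingHom).codRestrict W.toSubring hintσ)
  haveI : P₁.IsPrime := Ideal.IsPrime.comap _
  haveI : P₂.IsPrime := Ideal.IsPrime.comap _
  have hQm : ∀ w : W, w ∈ Q → W.valuation (w : Ω) < 1 := fun w hw =>
    (W.valuation_lt_one_iff w).1 (IsLocalRing.le_maximalIdeal hQ.ne_top hw)
  have hm₁ : ∀ c ∈ P₁, W.valuation (ι c) < 1 := fun c hc => hQm _ hc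
  have hm₂ : ∀ c ∈ P₂, W.valuation (ι c) < 1 := fun c hc => by
    obtain ⟨n, hn⟩ := hc
    obtain ⟨w, hw⟩ := Ideal.mem_span_singleton.1 hn
    have hw' : σ c ^ n = x⁻¹ * (w : Ω) := congrArg Subtype.val hw
    refine ((W.valuation_le_one_iff _).2 (hintι c)).lt_of_ne fun he => ?_
    refine (hcon (c ^ n) (by simp [he])).not_ge ?_
    rw [SubmonoidClass.coe_pow, map_pow, hw']
    have : x⁻¹ * (w : Ω) * σ (y * b) = (w : Ω) * ι b := by
      have hσ : σ (y * b) ≠ 0 := fun h => hx0 (by simp [x, h])
      simp only [x, inv_div]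
      field_simp
    rw [this, map_mul]
    exact mul_le_of_le_one_left' ((W.valuation_le_one_iff _).2 w.2)
  have hcomap : P₁.comap (algebraMap A (integralClosure A L)) = P₂.comap (algebraMap A (integralClosure A L)) := by
    ext a
    show (⟨ι (algebraMap A L a), _⟩ : W) ∈ Q ↔ (⟨σ (algebraMap A L a), _⟩ : W) ∈ Q
    simp only [hισ a]
  have hcomp : P₁ ≤ P₂ ∨ P₂ ≤ P₁ := by
    by_contra hne
    rw [not_or, SetLike.not_le_iff_exists, SetLike.not_le_iff_exists] at hne
    obtain ⟨⟨b', hb1, hb2⟩, ⟨a, ha2, ha1⟩⟩ := hne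
    have hb' : (b' : L) ≠ 0 := fun h => hb2 (by rw [show b' = 0 from Subtype.ext h]; exact zero_mem _)
    let m : Ideal (integralClosure A L) := (IsLocalRing.maximalIdeal W).comap
      ((ι.comp (integralClosure A L).val.toRingHom).codRestrict W.toSubring hintι)
    haveI : m.IsPrime := Ideal.IsPrime.comap _
    obtain ⟨c, d, hcd, hor⟩ := exists_frac (Algebra.IsAlgebraic.isAlgebraic (R := A) ((a : L) / b')) m
      (Ideal.IsPrime.ne_top inferInstance)
    have heq : c * b' = d * a := Subtype.ext (by
      show (c : L) * b' = d * a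
      rw [hcd, mul_assoc, div_mul_cancel₀ _ hb'])
    have hmem : ∀ e : integralClosure A L, W.valuation (ι e) < 1 → e ∈ m := fun e he =>
      (W.valuation_lt_one_iff _).2 he
    rcases hor with hc | hd
    · have : c * b' ∈ P₂ := heq ▸ P₂.mul_mem_left d ha2
      exact hb2 (((Ideal.IsPrime.mem_or_mem inferInstance this).resolve_left fun h => hc (hmem c (hm₂ c h))))
    · have : d * a ∈ P₁ := heq ▸ P₁.mul_mem_left c hb1
      exact ha1 (((Ideal.IsPrime.mem_or_mem inferInstance this).resolve_left fun h => hd (hmem d (hm₁ d h))))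
  have hP : P₁ = P₂ := by
    rcases hcomp with h | h
    · exact h.eq_of_not_lt fun hlt => (Ideal.IsIntegral.comap_lt_comap hlt).ne hcomap
    · exact (h.eq_of_not_lt fun hlt => (Ideal.IsIntegral.comap_lt_comap hlt).ne hcomap.symm).symm
  have hnon : ∀ c : integralClosure A L, U.valuation (ι c) < 1 ↔ U.valuation (σ c) < 1 := fun c => by
    rw [hUQ ⟨ι c, hintι c⟩, hUQ ⟨σ c, hintσ c⟩]
    show c ∈ P₁ ↔ c ∈ P₂
    rw [hP]
  have hxU : U.valuation x ≤ 1 := by
    have hne : U.valuation (ι b) ≠ 0 := by rwa [Valuation.ne_zero_iff]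
    simp only [x, map_div₀, map_mul]
    rw [← valuation_map_eq U ι σ hισ (fun a => hWU (hA a)) hnon b,
      ← valuation_map_eq U ι σ hισ (fun a => hWU (hA a)) hnon y, mul_div_assoc, div_self hne, mul_one]
    exact (U.valuation_le_one_iff _).2 (hWU hy)
  have hxi : U.valuation (x⁻¹) < 1 := (hUQ xi).2 (Ideal.le_radical (Ideal.mem_span_singleton_self xi))
  rw [map_inv₀, inv_lt_one₀ (zero_lt_iff.2 (by rwa [Valuation.ne_zero_iff]))] at hxi
  exact hxi.not_ge hxU

/-- An unramified extension of valuation rings, with separable fraction field extension, has the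
same value group. -/
theorem exists_eq_unit_mul (K L : Type u) [Field K] [Field L] [Algebra A K] [IsFractionRing A K]
    [Algebra K L] [Algebra A L] [IsScalarTower A K L] [FiniteDimensional K L] [Algebra.IsSeparable K L]
    (R : Subalgebra A L) [IsLocalRing R] [IsLocalHom (algebraMap A R)]
    (hR : integralClosure A L ≤ R) {ι : Type} [Fintype ι] (x y : ι → R)
    (hone : ∑ i, x i * y i = 1)
    (hsep : ∀ (Ω : Type u) [Field Ω] (σ τ : L →+* Ω),
      σ.comp (algebraMap A L) = τ.comp (algebraMap A L) → σ ≠ τ → ∑ i, σ (x i) * τ (y i) = 0)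
    (b : R) (hb : b ≠ 0) : ∃ (a : A) (u : Rˣ), b = u * algebraMap A R a := by
  classical
  haveI : FaithfulSMul A L := (faithfulSMul_iff_algebraMap_injective A L).2 (by
    rw [IsScalarTower.algebraMap_eq A K L]
    exact (algebraMap K L).injective.comp (IsFractionRing.injective A K))
  haveI : Algebra.IsAlgebraic A L := (IsFractionRing.comap_isAlgebraic_iff (A := A) (K := K) (C := L)).2 inferInstance
  let Ω := AlgebraicClosure L
  let e : L →+* Ω := algebraMap L Ω
  obtain ⟨W, hW⟩ := (LocalSubring.range (e.comp R.val.toRingHom)).exists_le_valuationSubring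
  have heR : ∀ r : R, e r ∈ W := fun r => hW.1 ⟨r, rfl⟩
  have hvle : ∀ r : R, W.valuation (e r) ≤ 1 := fun r => (W.valuation_le_one_iff _).2 (heR r)
  have hunit : ∀ r : R, W.valuation (e r) = 1 → IsUnit r := fun r hr => by
    have h1 : IsUnit (⟨e r, heR r⟩ : W) := (W.valuation_eq_one_iff _).2 hr
    have h2 : IsUnit (⟨e r, ⟨r, rfl⟩⟩ : (LocalSubring.range (e.comp R.val.toRingHom)).toSubring) :=
      hW.2.1 _ h1
    obtain ⟨⟨_, ⟨v, rfl⟩⟩, hv⟩ := isUnit_iff_exists_inv.1 h2
    refine IsUnit.of_mul_eq_one v (Subtype.ext (e.injective ?_))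
    show e ((r : L) * v) = e 1
    rw [map_mul, map_one]
    exact congrArg Subtype.val hv
  have hA : ∀ a : A, e (algebraMap A L a) ∈ W := fun a => heR (algebraMap A R a)
  have hb' : (b : L) ≠ 0 := fun h => hb (Subtype.ext h)
  choose t ht1 ht2 using fun p : (L →ₐ[K] Ω) × ι =>
    exists_integral_mul_le (A := A) W e p.1.toRingHom (fun a => by
      show e (algebraMap A L a) = p.1 (algebraMap A L a)
      rw [IsScalarTower.algebraMap_apply A K L, AlgHom.commutes, IsScalarTower.algebraMap_apply K L Ω]) hA
      (heR (y p.2)) hb'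
  let tt : integralClosure A L := ∏ p, t p
  let t' : R := ⟨tt, hR tt.2⟩
  have ht' : W.valuation (e t') = 1 := by
    show W.valuation (e ((∏ p, t p : integralClosure A L) : L)) = 1
    rw [SubmonoidClass.coe_finsetProd, map_prod, map_prod]
    exact Finset.prod_eq_one fun p _ => ht1 p
  have hconj : ∀ (σ : L →ₐ[K] Ω) i, W.valuation (σ (y i * (t' * b) : R)) ≤ W.valuation (e b) := fun σ i => by
    have hσA : ∀ a : A, σ.toRingHom (algebraMap A L a) ∈ W := fun a => by
      show σ (algebraMap A L a) ∈ W
      rw [IsScalarTower.algebraMap_apply A K L, AlgHom.commutes, IsScalarTower.algebraMap_apply K L Ω,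
        ← IsScalarTower.algebraMap_apply A K L]
      exact hA a
    have hsplit : (tt : L) = ↑(t (σ, i)) * ↑(∏ p ∈ Finset.univ.erase (σ, i), t p) := by
      rw [← MulMemClass.coe_mul, Finset.mul_prod_erase _ _ (Finset.mem_univ _)]
    calc W.valuation (σ (y i * (t' * b) : R))
        = W.valuation (σ.toRingHom (t (σ, i)) * σ.toRingHom ((y i : L) * b)) *
          W.valuation (σ.toRingHom (↑(∏ p ∈ Finset.univ.erase (σ, i), t p))) := by
          rw [← map_mul W.valuation]
          congr 1
          show σ ((y i : L) * ((tt : L) * b)) = σ (t (σ, i) : L) * σ ((y i : L) * b) * σ _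
          rw [← map_mul, ← map_mul, hsplit]
          congr 1; ring
      _ ≤ W.valuation (e b) * 1 := mul_le_mul' (ht2 (σ, i))
          ((W.valuation_le_one_iff _).2 (mem_valuationSubring_of_isIntegral W σ.toRingHom hσA (Subtype.prop _)))
      _ = _ := mul_one _
  let a : ι → K := fun i => Algebra.trace K L (y i * (t' * b) : R)
  have ha : ∀ i, W.valuation (e (algebraMap K L (a i))) ≤ W.valuation (e b) := fun i => by
    rw [show e (algebraMap K L (a i)) = algebraMap K Ω (a i) from (IsScalarTower.algebraMap_apply K L Ω _).symm,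
      trace_eq_sum_embeddings Ω]
    exact W.valuation.map_sum_le fun σ _ => hconj σ i
  have hsum : ((t' * b : R) : L) = ∑ i, (x i : L) * algebraMap K L (a i) := by
    apply e.injective
    rw [map_sum]
    have h1 : ∀ i, e ((x i : L) * algebraMap K L (a i)) =
        ∑ σ : L →ₐ[K] Ω, (e (x i) * σ (y i : L)) * σ ((t' * b : R) : L) := fun i => by
      rw [map_mul, show e (algebraMap K L (a i)) = algebraMap K Ω (a i) from (IsScalarTower.algebraMap_apply K L Ω _).symm,
        trace_eq_sum_embeddings Ω, Finset.mul_sum]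
      refine Finset.sum_congr rfl fun σ _ => ?_
      rw [MulMemClass.coe_mul, map_mul, mul_assoc]
    rw [Finset.sum_congr rfl fun i _ => h1 i, Finset.sum_comm]
    simp only [← Finset.sum_mul]
    rw [Finset.sum_eq_single (IsScalarTower.toAlgHom K L Ω)]
    · have : ∑ i, e (x i) * (IsScalarTower.toAlgHom K L Ω) (y i : L) = 1 := by
        have := congrArg (fun r : R => e (r : L)) hone
        simpa [map_sum] using this
      rw [this, one_mul]
      rfl
    · intro σ _ hσ
      rw [show ∑ i, e (x i) * σ (y i : L) = ∑ i, e (x i) * σ.toRingHom (y i : L) from rfl,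
        hsep Ω e σ.toRingHom (RingHom.ext fun r => by
          show e (algebraMap A L r) = σ (algebraMap A L r)
          rw [IsScalarTower.algebraMap_apply A K L, AlgHom.commutes, IsScalarTower.algebraMap_apply K L Ω])
          (fun he => hσ (AlgHom.ext fun z => (RingHom.congr_fun he z).symm)), zero_mul]
    · simp
  -- a common multiple
  have htot : ∀ k k' : K, (∃ c : A, k' = algebraMap A K c * k) ∨ (∃ c : A, k = algebraMap A K c * k') := by
    intro k k'
    rcases eq_or_ne k 0 with rfl | hk
    · exact Or.inr ⟨0, by simp⟩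
    rcases ValuationRing.isInteger_or_isInteger A (k' / k) with ⟨c, hc⟩ | ⟨c, hc⟩
    · exact Or.inl ⟨c, by rw [hc, div_mul_cancel₀ _ hk]⟩
    · rcases eq_or_ne k' 0 with rfl | hk'
      · exact Or.inl ⟨0, by simp⟩
      · exact Or.inr ⟨c, by rw [hc, inv_div, div_mul_cancel₀ _ hk']⟩
  have ht'u : IsUnit t' := hunit t' ht'
  obtain ⟨i₀, -, hi₀⟩ : ∃ i₀ ∈ (Finset.univ : Finset ι), ∀ i ∈ (Finset.univ : Finset ι), ∃ c : A, a i = algebraMap A K c * a i₀ := by
    have hne : (Finset.univ : Finset ι).Nonempty := by
      by_contra h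
      rw [Finset.not_nonempty_iff_eq_empty] at h
      rw [h, Finset.sum_empty] at hone
      exact zero_ne_one hone
    clear ha hsum hsep hone
    revert hne
    generalize (Finset.univ : Finset ι) = s₀
    intro hne
    induction hne using Finset.Nonempty.cons_induction with
    | singleton i => exact ⟨i, Finset.mem_singleton_self i, fun j hj => ⟨1, by rw [Finset.mem_singleton.1 hj]; simp⟩⟩
    | cons i s _ _ ih =>
      obtain ⟨j, hj, hj'⟩ := ih
      rcases htot (a i) (a j) with ⟨c, hc⟩ | ⟨c, hc⟩
      · refine ⟨i, Finset.mem_cons_self _ _, fun k hk => ?_⟩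
        rcases Finset.mem_cons.1 hk with rfl | hk
        · exact ⟨1, by simp⟩
        · obtain ⟨c', hc'⟩ := hj' k hk
          exact ⟨c' * c, by rw [hc', hc, map_mul, mul_assoc]⟩
      · refine ⟨j, Finset.mem_cons_of_mem hj, fun k hk => ?_⟩
        rcases Finset.mem_cons.1 hk with rfl | hk
        · exact ⟨c, hc⟩
        · exact hj' k hk
  choose c hc using fun i => hi₀ i (Finset.mem_univ i)
  let r : R := ∑ i, x i * algebraMap A R (c i)
  have hfac : ((t' * b : R) : L) = (r : L) * algebraMap K L (a i₀) := by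
    rw [hsum, AddSubmonoidClass.coe_finsetSum, Finset.sum_mul]
    refine Finset.sum_congr rfl fun i _ => ?_
    rw [MulMemClass.coe_mul, hc i, map_mul, ← IsScalarTower.algebraMap_apply, mul_assoc]
    rfl
  have htb : e ((t' * b : R) : L) = e t' * e b := by rw [MulMemClass.coe_mul, map_mul]
  have hr : IsUnit r := by
    refine hunit r ((hvle r).antisymm ?_)
    have h1 := congrArg (fun z => W.valuation (e z)) hfac
    simp only [map_mul, htb, ht', one_mul] at h1
    have hne : W.valuation (e b) ≠ 0 := by rw [Valuation.ne_zero_iff]; exact (map_ne_zero e).2 hb'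
    by_contra hlt
    rw [not_le] at hlt
    refine (lt_irrefl (W.valuation (e b))) ?_
    calc W.valuation (e b) = _ := h1
      _ ≤ W.valuation (e r) * W.valuation (e b) := mul_le_mul' le_rfl (ha i₀)
      _ < _ := mul_lt_of_lt_one_left (zero_lt_iff.2 hne) hlt
  have hne0 : a i₀ ≠ 0 := fun h => by
    rw [h, map_zero, mul_zero] at hfac
    exact (mul_ne_zero ht'u.ne_zero hb) (Subtype.ext hfac)
  rcases ValuationRing.isInteger_or_isInteger A (a i₀) with ⟨d, hd⟩ | ⟨d, hd⟩
  · refine ⟨d, ht'u.unit⁻¹ * hr.unit, ?_⟩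
    have h1 : t' * b = r * algebraMap A R d := Subtype.ext (by
      rw [hfac, MulMemClass.coe_mul, ← hd, ← IsScalarTower.algebraMap_apply]; rfl)
    rw [Units.val_mul, mul_assoc, IsUnit.unit_spec, ← h1, ← mul_assoc, IsUnit.val_inv_mul, one_mul]
  · have h1 : t' * b * algebraMap A R d = r := Subtype.ext (by
      rw [MulMemClass.coe_mul, hfac, show (algebraMap A R d : L) = algebraMap A L d from rfl,
        IsScalarTower.algebraMap_apply A K L, hd, mul_assoc, ← map_mul, mul_inv_cancel₀ hne0, map_one, mul_one])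
    have h2 : IsUnit (t' * b * algebraMap A R d) := h1 ▸ hr
    exact ⟨1, (isUnit_of_mul_isUnit_right (isUnit_of_mul_isUnit_left h2)).unit, by rw [map_one, mul_one, IsUnit.unit_spec]⟩

end Groth.Agent.EtAlg23
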