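import Groth.Agent.EtAlg23.ValuationEtale
import Groth.Agent.Unr55.EtAscent
import Mathlib.Algebra.GCDMonoid.IntegrallyClosed
import Mathlib.RingTheory.PrincipalIdealDomain
import Mathlib.RingTheory.Flat.TorsionFree

/-!
Local rings of etale algebras over valuation rings.
-/

set_option autoImplicit false
universe u

open TensorProduct

namespace Groth.Agent.EtAlg23

theorem valuationRing_of_eq_unit_mul {A R : Type u} [CommRing A] [IsDomain A] [ValuationRing A] [CommRing R]
    [IsDomain R] [Algebra A R] (h : ∀ b : R, b ≠ 0 → ∃ (a : A) (u : Rˣ), b = u * algebraMap A R a) :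
    ValuationRing R := by
  refine ValuationRing.iff_dvd_total.2 ⟨fun x y => ?_⟩
  rcases eq_or_ne x 0 with rfl | hx
  · exact Or.inr (dvd_zero y)
  rcases eq_or_ne y 0 with rfl | hy
  · exact Or.inl (dvd_zero x)
  obtain ⟨a, v, rfl⟩ := h x hx
  obtain ⟨c, w, rfl⟩ := h y hy
  rcases ValuationRing.dvd_total a c with h' | h'
  · exact Or.inl ((Units.mul_left_dvd).2 ((Units.dvd_mul_left).2 (map_dvd _ h')))
  · exact Or.inr ((Units.mul_left_dvd).2 ((Units.dvd_mul_left).2 (map_dvd _ h')))

theorem etale_valuation_local {A B : Type u} [CommRing A] [IsDomain A] [ValuationRing A]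
    [CommRing B] [Algebra A B] [Algebra.Etale A B] (m : Ideal B) [m.IsPrime]
    (hm : m.comap (algebraMap A B) = IsLocalRing.maximalIdeal A) :
    IsDomain (Localization.AtPrime m) ∧
    Function.Injective (algebraMap A (Localization.AtPrime m)) ∧ IsLocalHom (algebraMap A (Localization.AtPrime m)) ∧
    ∀ b : Localization.AtPrime m, b ≠ 0 → ∃ (a : A) (u : (Localization.AtPrime m)ˣ),
      b = u * algebraMap A (Localization.AtPrime m) a := by
  classical
  obtain ⟨hdom, hnormal⟩ := Groth.Agent.Unr55.isNormalDomain_localization_of_etale (A := A) (T := B) m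
  haveI := hdom
  haveI := hnormal
  let R₀ := Localization.AtPrime m
  haveI hloc : IsLocalHom (algebraMap A R₀) := ⟨fun a ha => by
    by_contra h
    have h1 : algebraMap A B a ∈ m := by
      rw [← Ideal.mem_comap, hm]; exact h
    rw [IsScalarTower.algebraMap_apply A B R₀] at ha
    exact (IsLocalization.AtPrime.isUnit_to_map_iff R₀ m _).1 ha h1⟩
  haveI : Module.Flat A B := inferInstance
  haveI : Module.Flat B R₀ := IsLocalization.flat R₀ m.primeCompl
  haveI : Module.Flat A R₀ := Module.Flat.trans A B R₀
  have hinj : Function.Injective (algebraMap A R₀) := by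
    rw [injective_iff_map_eq_zero]
    intro a ha
    by_contra ha0
    have h1 : (1 : R₀) ∈ Submodule.torsion A R₀ :=
      ⟨⟨a, mem_nonZeroDivisors_of_ne_zero ha0⟩, by
        show a • (1 : R₀) = 0
        rw [Algebra.smul_def, ha, zero_mul]⟩
    rw [Module.Flat.torsion_eq_bot, Submodule.mem_bot] at h1
    exact one_ne_zero h1
  refine ⟨hdom, hinj, hloc, ?_⟩
  let K := FractionRing A
  let L := FractionRing R₀
  have hiL : Function.Injective (algebraMap A L) := by
    rw [IsScalarTower.algebraMap_eq A R₀ L]
    exact (IsFractionRing.injective R₀ L).comp hinj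
  haveI : FaithfulSMul A L := (faithfulSMul_iff_algebraMap_injective A L).2 hiL
  letI : Algebra K L := FractionRing.liftAlgebra A L
  haveI : IsScalarTower A K L := FractionRing.isScalarTower_liftAlgebra A L
  let Φ : K ⊗[A] B →ₐ[K] L := Algebra.TensorProduct.lift (Algebra.ofId K L)
    (IsScalarTower.toAlgHom A B L) (fun _ _ => Commute.all _ _)
  haveI : Module.Finite K (K ⊗[A] B) := Algebra.FormallyUnramified.finite_of_free K _
  haveI : Module.Finite K Φ.range := Module.Finite.of_surjective Φ.rangeRestrict.toLinearMap Φ.rangeRestrict_surjective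
  have hfield : IsField Φ.range :=
    haveI : Algebra.IsIntegral K Φ.range := Algebra.IsIntegral.of_finite K _
    isField_of_isIntegral_of_isField' (R := K) (Field.toIsField K)
  have hB : ∀ x : B, algebraMap B L x ∈ Φ.range := fun x => ⟨1 ⊗ₜ x, by simp [Φ]⟩
  have hinv : ∀ x ∈ Φ.range, x⁻¹ ∈ Φ.range := fun x hx => by
    rcases eq_or_ne x 0 with rfl | hx0
    · rw [inv_zero]; exact zero_mem _
    · obtain ⟨⟨v, hv⟩, h⟩ := hfield.mul_inv_cancel (a := (⟨x, hx⟩ : Φ.range)) fun h => hx0 (congrArg Subtype.val h)
      have h' : x * v = 1 := congrArg Subtype.val h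
      rwa [inv_eq_of_mul_eq_one_right h']
  have hR₀ : ∀ x : R₀, algebraMap R₀ L x ∈ Φ.range := fun x => by
    obtain ⟨b, s, rfl⟩ := IsLocalization.exists_mk'_eq m.primeCompl x
    have h := congrArg (algebraMap R₀ L) (IsLocalization.mk'_spec R₀ b s)
    rw [map_mul, ← IsScalarTower.algebraMap_apply, ← IsScalarTower.algebraMap_apply] at h
    have hs : algebraMap B L (s : B) ≠ 0 := by
      rw [IsScalarTower.algebraMap_apply B R₀ L]
      exact (map_ne_zero_iff _ (IsFractionRing.injective R₀ L)).2 (IsLocalization.map_units R₀ s).ne_zero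
    rw [← eq_div_iff hs] at h
    rw [h, div_eq_mul_inv]
    exact mul_mem (hB b) (hinv _ (hB s))
  have hΦ : Function.Surjective Φ := fun z => by
    obtain ⟨x, y, -, rfl⟩ := IsFractionRing.div_surjective R₀ z
    rw [div_eq_mul_inv]
    exact mul_mem (hR₀ x) (hinv _ (hR₀ y))
  haveI : Algebra.FormallyUnramified K L := Algebra.FormallyUnramified.of_surjective Φ hΦ
  haveI : Module.Finite K L := Module.Finite.of_surjective Φ.toLinearMap hΦ
  haveI : Algebra.IsSeparable K L := Algebra.FormallyUnramified.isSeparable K L
  let g : R₀ →ₐ[A] L := IsScalarTower.toAlgHom A R₀ L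
  let R := g.range
  let e : R₀ ≃ₐ[A] R := AlgEquiv.ofInjective g (IsFractionRing.injective R₀ L)
  haveI : IsLocalRing R := e.toRingEquiv.isLocalRing
  haveI : IsLocalHom (algebraMap A R) := ⟨fun a ha => hloc.map_nonunit a (by
    have := ha.map e.symm
    rwa [AlgEquiv.commutes] at this)⟩
  have hint : integralClosure A L ≤ R := fun z hz => by
    obtain ⟨r, hr⟩ := IsIntegrallyClosed.isIntegral_iff.1 ((hz : IsIntegral A z).tower_top (A := R₀))
    exact ⟨r, hr⟩
  obtain ⟨s, hs⟩ := TensorProduct.exists_finset (Algebra.FormallyUnramified.elem A B)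
  let n := s.card
  let idx : Fin n → B × B := fun i => (s.equivFin.symm i : B × B)
  have hidx : Algebra.FormallyUnramified.elem A B = ∑ i, (idx i).1 ⊗ₜ[A] (idx i).2 := by
    rw [hs, ← Finset.sum_coe_sort s]
    exact (Equiv.sum_comp s.equivFin.symm (fun p : s => (p : B × B).1 ⊗ₜ[A] (p : B × B).2)).symm
  intro b hb
  obtain ⟨a, u, hau⟩ := exists_eq_unit_mul K L R hint
    (fun i => e (algebraMap B R₀ (idx i).1)) (fun i => e (algebraMap B R₀ (idx i).2))
    (by
      have h := Algebra.FormallyUnramified.lmul_elem (R := A) (S := B)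
      rw [hidx, map_sum] at h
      have h2 := congrArg (fun z => e (algebraMap B R₀ z)) h
      simpa [map_sum] using h2)
    (fun Ω _ σ τ hστ hne => by
      letI : Algebra A Ω := (σ.comp (algebraMap A L)).toAlgebra
      let σ' : B →ₐ[A] Ω := { σ.comp (algebraMap B L) with
        commutes' := fun a => by
          show σ (algebraMap B L (algebraMap A B a)) = σ (algebraMap A L a)
          rw [← IsScalarTower.algebraMap_apply] }
      let τ' : B →ₐ[A] Ω := { τ.comp (algebraMap B L) with
        commutes' := fun a => by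
          show τ (algebraMap B L (algebraMap A B a)) = σ (algebraMap A L a)
          rw [← IsScalarTower.algebraMap_apply]
          exact (RingHom.congr_fun hστ a).symm }
      obtain ⟨x, hx⟩ : ∃ x : B, σ' x ≠ τ' x := by
        by_contra hall
        push Not at hall
        refine hne (IsFractionRing.ringHom_ext (A := R₀) fun r => ?_)
        exact RingHom.congr_fun (IsLocalization.ringHom_ext m.primeCompl
          (j := σ.comp (algebraMap R₀ L)) (k := τ.comp (algebraMap R₀ L)) (RingHom.ext fun b => by
            simpa [σ', τ', ← IsScalarTower.algebraMap_apply] using hall b)) r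
      have h := congrArg (Algebra.TensorProduct.productMap σ' τ')
        (Algebra.FormallyUnramified.one_tmul_sub_tmul_one_mul_elem (R := A) x)
      simp only [map_mul, map_sub, map_zero, Algebra.TensorProduct.productMap_apply_tmul, map_one,
        one_mul, mul_one] at h
      have h0 := (mul_eq_zero.1 h).resolve_left (fun h' => hx (sub_eq_zero.1 h').symm)
      rw [hidx, map_sum] at h0
      simp only [Algebra.TensorProduct.productMap_apply_tmul] at h0
      exact h0)
    (e b) (fun h => hb (e.injective (h.trans (map_zero e).symm)))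
  refine ⟨a, Units.map e.symm.toAlgHom.toRingHom.toMonoidHom u, ?_⟩
  have := congrArg e.symm hau
  rwa [AlgEquiv.symm_apply_apply, map_mul, AlgEquiv.commutes] at this

end Groth.Agent.EtAlg23
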